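import Cfsg.Agent.Lib.PSpThree.CaseNCent
import Cfsg.Agent.Lib.Extra.LargeFour
import Cfsg.Agent.S0814

/-!
# Small axis centralizers: the automorphism group of PSp₄(3)

The transfer to the centralizer of the sign change gives a subgroup of index two in which only the even sign
changes remain.
-/

set_option autoImplicit false
set_option maxHeartbeats 1600000
set_option maxRecDepth 100000
set_option linter.unusedSectionVars false
set_option linter.style.haveILetI false

namespace Cfsg.Lib.PSpThree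

open Subgroup Cfsg.Lib.SymNine

theorem parity_facts :
    (∀ s k, sComp s 0 0 = s ∧ kmul 0 k = k) ∧
    (∀ s, signSets 2 s = false → ∃ t, signSets 2 t = true ∧ s = sComp 1 0 t) ∧
    (∀ s, signSets 2 s = true → s = 0 ∨ s = sComp 1 0 4 ∨ s = sComp 1 0 2 ∨ s = sComp 4 0 2) ∧
    sComp 0 5 4 = sComp 1 0 0 ∧ kmul 5 0 = kmul 0 5 ∧ sComp 0 2 4 = sComp 2 0 0 ∧ kmul 2 0 = kmul 0 2 ∧
    signSets 2 6 = true ∧ signSets 2 3 = true ∧ signSets 2 1 = false ∧
    (∀ i, act 6 0 i = i → act 3 0 i = i → i = 0) := by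
  refine ⟨?_, ?_, ?_, ?_, ?_, ?_, ?_, ?_, ?_, ?_, ?_⟩ <;> decide +kernel

namespace Setting

variable {G : Type*} [Group G] [Finite G] (S : Setting G)

/-- Small axis centralizers give the automorphism group of PSp₄(3). -/
theorem aut_of_small (D : S.F.Full) (hsmall : ∀ g, g * S.F.v 1 = S.F.v 1 * g → g ∈ normalizer (S.F.J : Set G))
    (K : Type*) [Field K] [Fintype K] (hK : Fintype.card K = 3) : Nonempty (G ≃* MulAut (Cfsg.PSp 2 K)) := by
  classical
  haveI : Fact (Nat.Prime 2) := ⟨Nat.prime_two⟩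
  haveI : Fact (Nat.Prime 3) := ⟨Nat.prime_three⟩
  obtain ⟨pk, podd, peven, q5, q5', q2, q2', p6, p3, p1, pfix⟩ := parity_facts
  set s := D.w 1 0 with hs
  set X := centralizer ({s} : Set G) with hX
  obtain ⟨χ, hχs, hχ⟩ := S.exists_chi D hsmall
  have hss : s * s = 1 := D.w_sq (by decide +kernel) (by decide +kernel)
  have hs1 : s ≠ 1 := D.w_ne_one (by decide)
  have ho : orderOf s = 2 := orderOf_eq_prime (by rw [pow_two, hss]) hs1
  letI : Fintype (G ⧸ X) := Fintype.ofFinite _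
  obtain ⟨f, hf, hf1, hfa⟩ := Cfsg.Lib.Extra.transfer_fixed χ (t := s) fun n a hm hn hn1 => by
    have hn2 : n = 2 := ((Nat.dvd_prime Nat.prime_two).1 (ho ▸ hn)).resolve_left hn1
    subst hn2
    rw [show (⟨a⁻¹ * s ^ 2 * a, hm⟩ : X) = 1 from Subtype.ext (by
      show a⁻¹ * s ^ 2 * a = 1
      rw [pow_two, hss, mul_one, inv_mul_cancel]), map_one]
  set τ := MonoidHom.transfer χ with hτ
  have hτs : τ s = -1 := by
    rw [hτ, hf, Finset.prod_eq_single (↑(1 : G) : G ⧸ X)]
    · rw [hfa 1 (by rw [inv_one, one_mul, mul_one]; exact mem_centralizer_singleton_iff.2 rfl)]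
      refine Eq.trans (congrArg χ (Subtype.ext ?_)) hχs
      show (1 : G)⁻¹ * s * 1 = s
      group
    · intro c _ hc
      obtain ⟨a, rfl⟩ := QuotientGroup.mk_surjective c
      by_cases hfix : s • (a : G ⧸ X) = (a : G ⧸ X)
      · have hmem : a⁻¹ * s * a ∈ X := by
          rw [MulAction.Quotient.smul_coe, smul_eq_mul] at hfix
          have h1 := inv_mem (QuotientGroup.eq.1 hfix)
          simpa [mul_assoc] using h1
        rw [hfa a hmem]
        by_contra hne
        have hneg : χ ⟨_, hmem⟩ = -1 := (Int.units_eq_one_or _).resolve_left hne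
        rcases hχ ⟨_, hmem⟩ (Subtype.ext (by
          show a⁻¹ * s * a * (a⁻¹ * s * a) = 1
          rw [show a⁻¹ * s * a * (a⁻¹ * s * a) = a⁻¹ * (s * s) * a by group, hss]; group)) hneg with h | h
        · refine hc (QuotientGroup.eq.2 ?_)
          rw [mul_one]
          refine inv_mem (mem_centralizer_singleton_iff.2 ?_)
          have h' : a⁻¹ * s * a = s := h
          calc a * s = a * (a⁻¹ * s * a) := by rw [h']
            _ = s * a := by group
        · exact h a⁻¹ (by rw [inv_inv])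
      · exact hf1 _ hfix
    · exact fun h => absurd (Finset.mem_univ _) h
  have hconj : ∀ g x : G, τ (g * x * g⁻¹) = τ x := fun g x => by
    rw [map_mul, map_mul, map_inv, mul_comm (τ g) (τ x), mul_inv_cancel_right]
  have h4 : τ (D.w 4 0) = -1 := by
    rw [← hconj (D.w 0 5) (D.w 4 0), show D.w 0 5 * D.w 4 0 * (D.w 0 5)⁻¹ = s by
      rw [hs, mul_inv_eq_iff_eq_mul, D.w_mul, D.w_mul, q5, q5'], hτs]
  have h2 : τ (D.w 2 0) = -1 := by
    rw [show D.w 2 0 = D.w 0 2 * D.w 4 0 * (D.w 0 2)⁻¹ by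
      rw [eq_mul_inv_iff_mul_eq, D.w_mul, D.w_mul, q2, q2'], hconj, h4]
  -- the centralizer of the central element is in the kernel
  have hodd : ∀ {g : G} {n : ℕ}, g ^ (3 ^ n) = 1 → τ g = 1 := fun {g n} hg => by
    have h1 : (τ g) ^ (3 ^ n) = 1 := by rw [← map_pow, hg, map_one]
    rcases Int.units_eq_one_or (τ g) with e | e
    · exact e
    · rw [e, (Odd.pow (by decide : Odd 3)).neg_one_pow] at h1
      exact absurd h1 (by decide)
  have hCτ : ∀ c ∈ S.D.C, τ c = 1 := by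
    intro c hc
    obtain ⟨x, y, z, hx, hy, hz, e⟩ := Cfsg.Lib.PSpAmalgam.sl_three_gen (S.D.π ⟨c, hc⟩)
    have hlift : ∀ {u : SL23}, u ^ 3 = 1 → ∃ g : S.D.C, S.D.π g = u ∧ τ (g : G) = 1 := fun {u} hu => by
      obtain ⟨g, hg⟩ := S.D.surj u
      refine ⟨g, hg, hodd (n := 2) ?_⟩
      have h3 : ((g ^ 3 : S.D.C) : G) ∈ S.D.R := (S.D.ker _).1 (by rw [map_pow, hg, hu])
      have := S.D.R_exp _ h3
      rwa [SubmonoidClass.coe_pow, ← pow_mul] at this
    obtain ⟨gx, ex, tx⟩ := hlift hx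
    obtain ⟨gy, ey, ty⟩ := hlift hy
    obtain ⟨gz, ez, tz⟩ := hlift hz
    have hr := (S.D.ker ((gx * gy * gz)⁻¹ * ⟨c, hc⟩)).1
      (by rw [map_mul, map_inv, map_mul, map_mul, ex, ey, ez, e, inv_mul_cancel])
    have h1 := hodd (n := 1) (by rw [pow_one]; exact S.D.R_exp _ hr)
    simp only [Subgroup.coe_mul, InvMemClass.coe_inv, map_mul, map_inv, tx, ty, tz, inv_one, one_mul] at h1
    exact h1
  have hp : ∀ k, τ (S.F.p k) = 1 := fun k => hCτ _ (S.p_mem_C k)
  have hv : ∀ c, τ (S.F.v c) = 1 := fun c => hCτ _ (S.v_mem_C c)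
  have hw : ∀ a k, τ (D.w a k) = τ (D.w a 0) := fun a k => by
    rw [show D.w a k = D.w a 0 * D.w 0 k by rw [D.w_mul, (pk a k).1, (pk a k).2], map_mul, D.w_p, hp, mul_one]
  have hmul0 : ∀ a b : Fin 8, D.w (sComp a 0 b) 0 = D.w a 0 * D.w b 0 := fun a b => by
    rw [D.w_mul, (pk a 0).2]
  have hsgn : ∀ a, signSets 2 a = true → τ (D.w a 0) = 1 := fun a ha => by
    rcases peven a ha with rfl | rfl | rfl | rfl
    · rw [D.w_one, map_one]
    · rw [hmul0, map_mul, ← hs, hτs, h4]; decide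
    · rw [hmul0, map_mul, ← hs, hτs, h2]; decide
    · rw [hmul0, map_mul, h4, h2]; decide
  set N := τ.ker with hN
  have hmemN : ∀ {g}, g ∈ N ↔ τ g = 1 := MonoidHom.mem_ker
  have hCN : S.D.C ≤ N := fun c hc => hmemN.2 (hCτ c hc)
  have hidx : N.index = 2 := by
    rw [hN, Subgroup.index_ker]
    have hle := Subgroup.card_subgroup_dvd_card τ.range
    rw [Nat.card_eq_fintype_card (α := ℤˣ), Fintype.card_units_int] at hle
    rcases (Nat.dvd_prime Nat.prime_two).1 hle with e | e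
    · exfalso
      have hmem : (-1 : ℤˣ) ∈ τ.range := ⟨s, hτs⟩
      rw [Subgroup.card_eq_one.1 e, mem_bot] at hmem
      exact absurd hmem (by decide)
    · exact e
  -- the data in the kernel
  let aN : N := ⟨S.D.a, hCN (S.D.R_le S.D.a_mem)⟩
  have hCc : ∀ c : centralizer ({aN} : Set N), ((c : N) : G) ∈ S.D.C := fun c =>
    S.D.mem_C.2 (congrArg Subtype.val (mem_centralizer_singleton_iff.1 c.2))
  let ι : centralizer ({aN} : Set N) →* S.D.C := MonoidHom.mk' (fun c => ⟨((c : N) : G), hCc c⟩) fun _ _ => rfl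
  have hιinC : ∀ g : G, g ∈ S.D.C → ∀ hg : g ∈ N, (⟨g, hg⟩ : N) ∈ centralizer ({aN} : Set N) := fun g hg _ =>
    mem_centralizer_singleton_iff.2 (Subtype.ext (S.D.comm_a hg))
  have hmemz : ∀ {x : N}, (x : G) ∈ zpowers S.D.a → x ∈ zpowers aN := by
    rintro x ⟨n, hn⟩
    exact ⟨n, Subtype.ext (by simpa [aN] using hn)⟩
  have hcardR : Nat.card (S.D.R.subgroupOf N) = 27 := by
    rw [Nat.card_congr (subgroupOfEquivOfLe (S.D.R_le.trans hCN)).toEquiv, S.D.R_card]
  have hmapK : ∀ (K' : Subgroup N) (g : N), (K'.map (MulAut.conj g).toMonoidHom).map N.subtype =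
      (K'.map N.subtype).map (MulAut.conj (g : G)).toMonoidHom := fun K' g => by
    rw [map_map, map_map]; rfl
  let D' : Data N :=
    { a := aN
      ha := by rw [orderOf_mk, S.D.ha]
      R := S.D.R.subgroupOf N
      R_le := fun x hx => mem_centralizer_singleton_iff.2 (Subtype.ext (S.D.comm_a (S.D.R_le hx)))
      R_card := hcardR
      R_exp := fun r hr => Subtype.ext (by simpa using S.D.R_exp _ hr)
      a_mem := S.D.a_mem
      R_center := fun x hx h => hmemz (S.D.R_center _ hx fun y hy =>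
        congrArg Subtype.val (h ⟨y, hCN (S.D.R_le hy)⟩ hy))
      R_comm := fun x hx y hy => hmemz (S.D.R_comm _ hx _ hy)
      R_nab := by
        obtain ⟨x, hx, y, hy, hxy⟩ := S.D.R_nab
        exact ⟨⟨x, hCN (S.D.R_le hx)⟩, hx, ⟨y, hCN (S.D.R_le hy)⟩, hy, fun e => hxy (congrArg Subtype.val e)⟩
      π := S.D.π.comp ι
      surj := fun u => by
        obtain ⟨⟨g, hg⟩, rfl⟩ := S.D.surj u
        exact ⟨⟨_, hιinC g hg (hCN hg)⟩, rfl⟩
      ker := fun c => S.D.ker (ι c)
      J := S.D.J.subgroupOf N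
      J_le := fun x hx => mem_centralizer_singleton_iff.2 (Subtype.ext (S.D.comm_a (S.D.J_le hx)))
      J_comm := fun x hx y hy => Subtype.ext (S.D.J_comm _ hx _ hy)
      J_exp := fun x hx => Subtype.ext (by simpa using S.D.J_exp _ hx)
      J_card := by rw [Nat.card_congr (subgroupOfEquivOfLe (S.D.J_le.trans hCN)).toEquiv, S.D.J_card]
      sig := fun K' hK' hn => (map_eq_bot_iff_of_injective _ N.subtype_injective).1
        (S.D.sig (K'.map N.subtype) (by rwa [card_map_of_injective N.subtype_injective]) fun j hj => by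
          rw [← hmapK K' ⟨j, hCN (S.D.J_le hj)⟩, hn ⟨j, hCN (S.D.J_le hj)⟩ hj]) }
  let F' : Frame N :=
    { v := fun c => ⟨S.F.v c, hmemN.2 (hv c)⟩
      p := fun k => ⟨S.F.p k, hmemN.2 (hp k)⟩
      vinj := fun a b e => S.F.vinj (congrArg Subtype.val e)
      vmul := fun a b => Subtype.ext (S.F.vmul a b)
      pmul := fun a b => Subtype.ext (S.F.pmul a b)
      pv := fun k i => Subtype.ext (S.F.pv k i)
      free := fun i k e => S.F.free i k (congrArg Subtype.val e)
      cent := fun g hg hc => by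
        obtain ⟨i, k, e⟩ := S.F.cent (g : G) (fun i => (hg i).imp fun j hj => congrArg Subtype.val hj)
          (congrArg Subtype.val hc)
        exact ⟨i, k, Subtype.ext e⟩
      sylC := fun K' hK' hc => by
        rw [← card_map_of_injective N.subtype_injective]
        refine S.F.sylC _ (hK'.map _) ?_
        rintro _ ⟨y, hy, rfl⟩
        exact congrArg Subtype.val (hc y hy)
      sig := fun K' hK' hn => (map_eq_bot_iff_of_injective _ N.subtype_injective).1
        (S.F.sig (K'.map N.subtype) (by rwa [card_map_of_injective N.subtype_injective]) fun i => by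
          rw [← hmapK K' ⟨S.F.v i, hmemN.2 (hv i)⟩, hn i]) }
  have hJ' : ∀ x : N, x ∈ F'.J ↔ (x : G) ∈ S.F.J := fun x =>
    ⟨fun ⟨i, hi⟩ => ⟨i, congrArg Subtype.val hi⟩, fun ⟨i, hi⟩ => ⟨i, Subtype.ext hi⟩⟩
  let S' : Setting N :=
    { D := D'
      F := F'
      hx := Subtype.ext S.hx
      hJ := Subgroup.ext fun x => (hJ' x).trans (by rw [S.hJ]; exact mem_subgroupOf.symm) }
  have hact : ∀ {n : N} {a : Fin 8} {k : Fin 6}, S.F.ActsAs (n : G) a k → F'.ActsAs n a k :=
    fun h i => Subtype.ext (h i)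
  have hnorm : ∀ {n : N}, n ∈ normalizer (F'.J : Set N) → (n : G) ∈ normalizer (S.F.J : Set G) := by
    intro n hn
    refine Fusion.le_normalizer_of_conj_mem fun j hj => ?_
    obtain ⟨i, rfl⟩ := S.F.mem_J.1 hj
    exact (hJ' _).1 ((mem_normalizer_iff.1 hn ⟨S.F.v i, hmemN.2 (hv i)⟩).1 (F'.v_mem i))
  have hexact : ∀ {n : N}, n ∈ normalizer (F'.J : Set N) →
      ∃ a k, signSets 2 a = true ∧ F'.ActsAs n a k := by
    intro n hn
    obtain ⟨i, a, k, e, hk⟩ := D.exists_eq (hnorm hn)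
    refine ⟨a, k, ?_, hact hk⟩
    by_contra h
    rw [Bool.not_eq_true] at h
    obtain ⟨t, ht, rfl⟩ := podd a h
    have h1 := hmemN.1 n.2
    rw [e, map_mul, hv, one_mul, hw, hmul0, map_mul, ← hs, hτs, hsgn t ht] at h1
    exact absurd h1 (by decide)
  have h' : S'.F.IsCase 2 := by
    refine ⟨fun n hn => ?_, fun a => ⟨fun ⟨n, hn, k, hk⟩ => ?_, fun ha => ?_⟩⟩
    · obtain ⟨a, k, -, hk⟩ := hexact hn
      exact ⟨a, k, hk⟩
    · obtain ⟨a', k', ha', hk'⟩ := hexact hn
      rwa [(F'.actsAs_unique hk hk').1]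
    · have hwN : D.w a 0 ∈ N := hmemN.2 (hsgn a ha)
      have hk : F'.ActsAs ⟨_, hwN⟩ a 0 := hact (D.w_spec a 0).2.1
      exact ⟨⟨_, hwN⟩, Frame.ActsAs.mem_normalizer hk, 0, hk⟩
  have hinv' : ∀ g : N, g * S'.D.a * g⁻¹ ≠ S'.D.a⁻¹ := fun g hg => by
    rcases (S'.inverted_iff h').1 ⟨g, hg⟩ with e | e <;> exact absurd e (by decide)
  obtain ⟨e⟩ := S'.recognition_two h' hinv' K hK
  -- the automorphisms
  let ρ : G →* MulAut N := MulAut.conjNormal
  have hρinj : Function.Injective ρ := (injective_iff_map_eq_one ρ).2 fun g hg => by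
    have hc : ∀ x : N, g * (x : G) = (x : G) * g := fun x => mul_inv_eq_iff_eq_mul.1 (by
      rw [← MulAut.conjNormal_apply (H := N) g x]
      exact congrArg Subtype.val (congrArg (fun α : MulAut N => α x) hg))
    have hgJ : g ∈ S.F.J := by
      rw [← Frame.cent_J (F := S.F)]
      refine mem_centralizer_iff.2 fun j hj => ?_
      obtain ⟨i, rfl⟩ := S.F.mem_J.1 hj
      exact (hc ⟨_, hmemN.2 (hv i)⟩).symm
    obtain ⟨i, rfl⟩ := S.F.mem_J.1 hgJ
    rw [pfix i (D.comm_w.1 (hc ⟨_, hmemN.2 (hsgn 6 p6)⟩)) (D.comm_w.1 (hc ⟨_, hmemN.2 (hsgn 3 p3)⟩)), S.F.v0]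
  have hcard : Nat.card G = Nat.card (MulAut N) := by
    rw [Nat.card_congr (MulAut.congr e).toEquiv, Cfsg.Agent.S0814.result 3 1 le_rfl (by rw [hK]; rfl) 2 le_rfl
      (fun _ => le_rfl), ← Nat.card_congr e.toEquiv, if_neg (by omega), ← card_mul_index N, hidx]
    norm_num
    ring
  have hbij : Function.Bijective ρ := hρinj.bijective_of_nat_card_le hcard.ge
  exact ⟨(MulEquiv.ofBijective ρ hbij).trans (MulAut.congr e)⟩

end Setting

end Cfsg.Lib.PSpThree
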