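import Cfsg.Agent.Lib.PSpThree.Classes
import Cfsg.Agent.Lib.Fischer.LocalSym.SymN

/-!
# Small axis centralizers: a character of the centralizer of a sign change

The centralizer of the sign change `s` of one coordinate splits over `s`, and the only involution outside the
complement fused to `s` is `s` itself.
-/

set_option autoImplicit false
set_option maxHeartbeats 1600000
set_option maxRecDepth 100000
set_option linter.unusedSectionVars false
set_option linter.style.haveILetI false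

namespace Cfsg.Lib.PSpThree

open Subgroup Cfsg.Lib.SymNine Equiv

theorem plane_facts :
    (∀ c, act 1 0 c = c → ∃ i j, c = comb 9 3 i j) ∧ act 1 0 9 = 9 ∧ act 1 0 3 = 3 ∧
    (9 : Fin 27) ≠ 0 ∧ xType 3 9 = false ∧ (3 : Fin 27) ∉ mult 9 ∧
    (∀ s k, act s k 9 = 9 → act s k 3 = 3 → k = 0 ∧ (s = 0 ∨ s = 1)) ∧
    (∀ c, c ≠ 0 → xType 3 c = false → heavy c ∨
      ∃ k, lap (lperm k) 1 = c ∨ lap (lperm k) 1 = vSmul 2 c) ∧
    (∀ c, act 1 0 c = c → c ≠ 0 → xType 3 c = false) ∧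
    (∀ s k, (∀ e, act s k (act 1 0 e) = act 1 0 (act s k e)) →
      (∃ x, dTab x = (s, k) ∨ dTab x = (sComp 1 0 s, k)) ∧ (act s k 1 = 1 ∨ act s k 1 = vSmul 2 1)) ∧
    (∀ x, sComp (dTab x).1 (dTab x).2 1 = sComp 1 0 (dTab x).1 ∧ kmul (dTab x).2 0 = kmul 0 (dTab x).2) ∧
    (∀ x, dTab x = (1, 0) → False) ∧
    (∀ e, act 1 0 e = vSmul 2 e → e ∈ mult 1) ∧
    (∀ s k, (∀ e, act s k (act s k e) = e) → (∀ e, act s k (act 1 0 e) = act 1 0 (act s k e)) →
      act s k 1 = vSmul 2 1 → (s = 1 ∧ k = 0) ∨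
        ∃ t l, (sComp t l s, kmul l k) = (sComp 6 0 t, kmul 0 l) ∨
          (sComp t l s, kmul l k) = (sComp 7 0 t, kmul 0 l) ∨ (sComp t l s, kmul l k) = (sComp 1 2 t, kmul 2 l)) := by
  refine ⟨?_, ?_, ?_, ?_, ?_, ?_, ?_, ?_, ?_, ?_, ?_, ?_, ?_, ?_⟩ <;> decide +kernel

theorem six_inv : ∀ σ : Perm (Fin 6), σ * σ = 1 → σ = 1 ∨ ∃ ρ : Perm (Fin 6), ρ * σ = swap 1 2 * ρ ∨
    ρ * σ = swap 1 2 * swap 4 5 * ρ ∨ ρ * σ = swap 0 3 * swap 1 4 * swap 2 5 * ρ := by decide +kernel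

theorem six_swaps : ∀ i : Fin 5, ∃ ρ : Perm (Fin 6), ρ * swap 1 2 = swap i.castSucc i.succ * ρ := by
  decide +kernel

theorem six_adj : Cfsg.Lib.Fischer.LocalSym.AdjN (fun i : Fin 5 => swap i.castSucc i.succ) := by
  constructor <;> decide +kernel

theorem six_misc : SixP.t0 = swap 0 3 * swap 1 4 * swap 2 5 ∧
    swap (1 : Fin 5).castSucc (1 : Fin 5).succ = swap (1 : Fin 6) 2 ∧
    swap (4 : Fin 5).castSucc (4 : Fin 5).succ = swap (4 : Fin 6) 5 ∧
    SixP.t0 * swap 1 2 * SixP.t0 = swap (4 : Fin 6) 5 ∧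
    sComp 0 2 4 = sComp 2 0 0 ∧ sComp 4 0 1 = 5 ∧ sComp 1 0 4 = 5 ∧ kmul 2 0 = kmul 0 2 ∧ kmul 2 2 = 0 ∧
    sComp 2 2 0 = 2 ∧ sComp 0 2 0 = 0 ∧ sComp 1 0 1 = 0 ∧ sComp 4 0 2 = 6 ∧ sComp 6 0 1 = 7 ∧ sComp 0 2 1 = 1 ∧
    sComp 1 0 0 = 1 ∧ kmul 0 0 = 0 ∧ sComp 0 1 5 = sComp 6 0 0 ∧ kmul 1 0 = kmul 0 1 ∧
    sComp 0 5 4 = sComp 1 0 0 ∧ kmul 5 0 = kmul 0 5 := by
  refine ⟨?_, ?_, ?_, ?_, ?_, ?_, ?_, ?_, ?_, ?_, ?_, ?_, ?_, ?_, ?_, ?_, ?_, ?_, ?_, ?_, ?_⟩ <;> decide +kernel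

namespace Frame

variable {G : Type*} [Group G] [Finite G] {F : Frame G}

/-- With a small centralizer of the axis, all centralizers of noncentral codes are small. -/
theorem small_all (h : F.IsCase 3) (hsmall : ∀ g, g * F.v 1 = F.v 1 * g → g ∈ normalizer (F.J : Set G))
    {c : Fin 27} (hc0 : c ≠ 0) (hc : xType 3 c = false) {g : G} (hg : g * F.v c = F.v c * g) :
    g ∈ normalizer (F.J : Set G) := by
  rcases plane_facts.2.2.2.2.2.2.2.1 c hc0 hc with hh | ⟨k, hk⟩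
  · exact h.cent_le_of_small hc0 hc (Or.inr hh) hg
  have e : F.p k * F.v 1 * (F.p k)⁻¹ = F.v c ∨ F.p k * F.v 1 * (F.p k)⁻¹ = (F.v c)⁻¹ := by
    rw [F.pv, mul_inv_cancel_right]
    rcases hk with hk | hk <;> rw [hk]
    · exact Or.inl rfl
    · exact Or.inr (F.v_inv c).symm
  have h2 : Commute g (F.p k * F.v 1 * (F.p k)⁻¹) := by
    rcases e with e | e <;> rw [e]
    · exact hg
    · exact (show Commute g (F.v c) from hg).inv_right
  have h1 := hsmall ((F.p k)⁻¹ * g * F.p k) (by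
    calc (F.p k)⁻¹ * g * F.p k * F.v 1 = (F.p k)⁻¹ * (g * (F.p k * F.v 1 * (F.p k)⁻¹)) * F.p k := by group
      _ = _ := by rw [h2.eq]; group)
  simpa [mul_assoc] using mul_mem (mul_mem (F.p_mem_normalizer k) h1) (inv_mem (F.p_mem_normalizer k))

namespace Full

variable (D : F.Full)

theorem w_mem_cent {s : Fin 8} {k : Fin 6} (h : sComp s k 1 = sComp 1 0 s ∧ kmul k 0 = kmul 0 k) :
    D.w s k * D.w 1 0 = D.w 1 0 * D.w s k := by rw [D.w_mul, D.w_mul, h.1, h.2]

theorem w_act_comm {g : G} {s : Fin 8} {k : Fin 6} (h : F.ActsAs g s k) (hg : g * D.w 1 0 = D.w 1 0 * g) (e : Fin 27) :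
    act s k (act 1 0 e) = act 1 0 (act s k e) := F.vinj (by
  rw [← actsAs_act h, ← actsAs_act (D.w_spec 1 0).2.1, ← actsAs_act (D.w_spec 1 0).2.1, ← actsAs_act h]
  calc g * (D.w 1 0 * F.v e * (D.w 1 0)⁻¹) * g⁻¹ = (g * D.w 1 0) * F.v e * (g * D.w 1 0)⁻¹ := by group
    _ = (D.w 1 0 * g) * F.v e * (D.w 1 0 * g)⁻¹ := by rw [hg]
    _ = D.w 1 0 * (g * F.v e * g⁻¹) * (D.w 1 0)⁻¹ := by group)

/-- A generic reason for not being conjugate to the sign change. -/
theorem ne_t_of_conj (S : Setting G) (D : S.F.Full) {u v : G} (h : ∃ q : G, q * u * q⁻¹ = v)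
    (hv : v = D.w 6 0 ∨ v = D.w 7 0 ∨ v = D.w 1 2) (g : G) : g * D.w 1 0 * g⁻¹ ≠ u := by
  intro e
  obtain ⟨q, hq⟩ := h
  have h' : (q * g) * D.w 1 0 * (q * g)⁻¹ = v := by rw [← hq, ← e]; group
  rcases hv with rfl | rfl | rfl
  exacts [S.t_not_z D _ h', S.t_not_inv D _ h', S.t_not_zp D _ h']

end Full

end Frame

namespace Setting

variable {G : Type*} [Group G] [Finite G] (S : Setting G) (D : S.F.Full)

/-- The centralizer of the sign change has a character, nontrivial on it and on none of its other conjugates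
there. -/
theorem exists_chi (hsmall : ∀ g, g * S.F.v 1 = S.F.v 1 * g → g ∈ normalizer (S.F.J : Set G)) :
    ∃ χ : ↥(centralizer ({D.w 1 0} : Set G)) →* ℤˣ,
      χ ⟨D.w 1 0, mem_centralizer_singleton_iff.2 rfl⟩ = -1 ∧
      ∀ u : ↥(centralizer ({D.w 1 0} : Set G)), u * u = 1 → χ u = -1 →
        (u : G) = D.w 1 0 ∨ ∀ g : G, g * D.w 1 0 * g⁻¹ ≠ (u : G) := by
  classical
  haveI : Fact (Nat.Prime 3) := ⟨Nat.prime_three⟩
  obtain ⟨pspan, p9, p3, p90, pxt9, pn39, pstab, -, pxt, pcomm, pdt, pdt1, pneg, pinv⟩ := plane_facts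
  set s := D.w 1 0 with hs
  set X := centralizer ({s} : Set G) with hX
  have hmem : ∀ {g : G}, g ∈ X ↔ g * s = s * g := mem_centralizer_singleton_iff
  have hss : s * s = 1 := D.w_sq (by decide +kernel) (by decide +kernel)
  have hs1 : s ≠ 1 := D.w_ne_one (by decide)
  have hsX : s ∈ X := hmem.2 rfl
  set sX : X := ⟨s, hsX⟩ with hsXdef
  have hsc : ∀ x : X, x * sX = sX * x := fun x => Subtype.ext (hmem.1 x.2)
  haveI hZn : (zpowers sX).Normal := ⟨fun n hn g => by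
    obtain ⟨m, rfl⟩ := hn
    show g * sX ^ m * g⁻¹ ∈ _
    rw [← conj_zpow, hsc g, mul_inv_cancel_right]
    exact zpow_mem (mem_zpowers _) _⟩
  have hsX2 : sX * sX = 1 := Subtype.ext hss
  have hZel : ∀ x : X, x ∈ zpowers sX → x = 1 ∨ x = sX := by
    rintro x ⟨m, rfl⟩
    rcases Int.even_or_odd' m with ⟨r, rfl | rfl⟩
    · exact Or.inl (by show sX ^ (2 * r) = 1; rw [zpow_mul, zpow_two, hsX2, one_zpow])
    · exact Or.inr (by show sX ^ (2 * r + 1) = sX; rw [zpow_add, zpow_mul, zpow_two, hsX2, one_zpow, one_mul, zpow_one])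
  let π := QuotientGroup.mk' (zpowers sX)
  have hπ : ∀ x y : X, π x = π y → y = x ∨ y = x * sX := fun x y e => by
    rcases hZel _ (QuotientGroup.eq.1 e) with h | h
    · exact Or.inl (inv_mul_eq_one.1 h).symm
    · exact Or.inr (by rw [← h, mul_inv_cancel_left])
  -- elements of order three are equal as soon as their images are
  have hπ3 : ∀ x y : X, x ^ 3 = 1 → y ^ 3 = 1 → π x = π y → y = x := fun x y hx hy e => by
    rcases hπ x y e with h | h
    · exact h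
    · rw [h, (show Commute x sX from hsc x).mul_pow, hx, one_mul, pow_succ, pow_two, hsX2, one_mul] at hy
      rw [h, hy, mul_one]
  have hvX : ∀ {c}, act 1 0 c = c → S.F.v c ∈ X := fun hc => hmem.2 (D.comm_w.2 hc)
  set E : Subgroup X := S.F.J.subgroupOf X with hEdef
  have hEmem : ∀ y : X, y ∈ E ↔ ∃ c, act 1 0 c = c ∧ (y : G) = S.F.v c := fun y => by
    rw [hEdef, mem_subgroupOf, S.F.mem_J]
    exact ⟨fun ⟨c, hc⟩ => ⟨c, D.comm_w.1 (by rw [hc]; exact hmem.1 y.2), hc.symm⟩, fun ⟨c, _, hc⟩ => ⟨c, hc.symm⟩⟩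
  have hE3 : ∀ y : X, y ∈ E → y ^ 3 = 1 := fun y hy => Subtype.ext (by simpa using S.F.J_cube hy)
  set SY := E.map π with hSY
  have hSYmem : ∀ {q}, q ∈ SY → ∃ y : X, y ∈ E ∧ π y = q := fun h => h
  -- normalising the plane is normalising `J`
  have hNJ : ∀ y : X, (y : G) ∈ normalizer (S.F.J : Set G) ↔ π y ∈ normalizer (SY : Set _) := by
    intro y
    constructor
    · intro hy
      refine Fusion.le_normalizer_of_conj_mem fun q hq => ?_
      obtain ⟨e, he, rfl⟩ := hSYmem hq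
      exact ⟨y * e * y⁻¹, (mem_normalizer_iff.1 hy _).1 he, by rw [map_mul, map_mul, map_inv]⟩
    · intro hy
      have hconj : ∀ c, act 1 0 c = c → ∃ d, (y : G) * S.F.v c * (y : G)⁻¹ = S.F.v d ∧ act 1 0 d = d := by
        intro c hc
        obtain ⟨e', he', e⟩ := hSYmem ((mem_normalizer_iff.1 hy _).1 ⟨⟨_, hvX hc⟩, (hEmem _).2 ⟨c, hc, rfl⟩, rfl⟩)
        rw [← map_inv, ← map_mul, ← map_mul] at e
        have h3 : (y * ⟨_, hvX hc⟩ * y⁻¹) ^ 3 = 1 := by
          rw [conj_pow, hE3 _ ((hEmem _).2 ⟨c, hc, rfl⟩)]; group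
        obtain ⟨d, hd, hd'⟩ := (hEmem e').1 he'
        exact ⟨d, (congrArg Subtype.val (hπ3 _ _ (hE3 _ he') h3 e)).trans hd', hd⟩
      refine Fusion.le_normalizer_of_conj_mem fun j hj => ?_
      obtain ⟨i, rfl⟩ := S.F.mem_J.1 hj
      -- the conjugate centralises the plane
      set z := (y : G) * S.F.v i * (y : G)⁻¹ with hz
      have hzc : ∀ d, act 1 0 d = d → z * S.F.v d = S.F.v d * z := by
        intro d hd
        obtain ⟨e', he', e⟩ := hSYmem ((mem_normalizer_iff.1 (inv_mem hy) _).1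
          ⟨⟨_, hvX hd⟩, (hEmem _).2 ⟨d, hd, rfl⟩, rfl⟩)
        rw [inv_inv, ← map_inv, ← map_mul, ← map_mul] at e
        obtain ⟨c, -, hc'⟩ := (hEmem e').1 he'
        have h3 : (y⁻¹ * ⟨_, hvX hd⟩ * y) ^ 3 = 1 := by
          have := conj_pow (i := 3) (a := y⁻¹) (b := (⟨_, hvX hd⟩ : X))
          rw [inv_inv] at this
          rw [this, hE3 _ ((hEmem _).2 ⟨d, hd, rfl⟩)]; group
        have h4 : (y : G)⁻¹ * S.F.v d * (y : G) = S.F.v c :=
          (congrArg Subtype.val (hπ3 _ _ (hE3 _ he') h3 e)).trans hc'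
        have hd' : S.F.v d = (y : G) * S.F.v c * (y : G)⁻¹ := by rw [← h4]; group
        rw [hz, hd', show ∀ p q : G, (y : G) * p * (y : G)⁻¹ * ((y : G) * q * (y : G)⁻¹) = (y : G) * (p * q) * (y : G)⁻¹
          from fun p q => by group, show ∀ p q : G, (y : G) * p * (y : G)⁻¹ * ((y : G) * q * (y : G)⁻¹) =
          (y : G) * (p * q) * (y : G)⁻¹ from fun p q => by group, (S.F.v_comm i c).eq]
      have hzN := D.isCase.cent_pair p90 pxt9 pn39 (hzc 9 p9) (hzc 3 p3)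
      obtain ⟨a, k, -, hk⟩ := D.isCase.exists_act hzN
      obtain ⟨rfl, ha⟩ := pstab a k (S.F.vinj (by rw [← Frame.actsAs_act hk, hzc 9 p9, mul_inv_cancel_right]))
        (S.F.vinj (by rw [← Frame.actsAs_act hk, hzc 3 p3, mul_inv_cancel_right]))
      have hz3 : z ^ 3 = 1 := by rw [hz, conj_pow, S.F.v_cube]; group
      rcases ha with rfl | rfl
      · exact Frame.mem_J_of_act hk
      · have h9 := Frame.Full.act_cube hz3 hk 1
        exact absurd h9 (by decide +kernel)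
  have hC : centralizer (SY : Set _) = SY := by
    refine le_antisymm (fun q hq => ?_) fun q hq => mem_centralizer_iff.2 fun r hr => ?_
    · obtain ⟨y, rfl⟩ := QuotientGroup.mk'_surjective _ q
      have hcomm : ∀ c, act 1 0 c = c → (y : G) * S.F.v c = S.F.v c * (y : G) := by
        intro c hc
        have h1 := mem_centralizer_iff.1 hq _ (⟨⟨_, hvX hc⟩, (hEmem _).2 ⟨c, hc, rfl⟩, rfl⟩ : _ ∈ SY)
        have hv3 := hE3 _ ((hEmem ⟨_, hvX hc⟩).2 ⟨c, hc, rfl⟩)
        have h3 : (y * ⟨_, hvX hc⟩ * y⁻¹) ^ 3 = 1 := by rw [conj_pow, hv3]; group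
        have h2 := hπ3 _ _ hv3 h3 (by
          rw [map_mul, map_mul, map_inv]
          exact eq_mul_inv_of_mul_eq h1)
        exact mul_inv_eq_iff_eq_mul.1 (congrArg Subtype.val h2)
      have hN := D.isCase.cent_pair p90 pxt9 pn39 (hcomm 9 p9) (hcomm 3 p3)
      obtain ⟨i, a, k, e, hk⟩ := D.exists_eq hN
      obtain ⟨rfl, ha⟩ := pstab a k (S.F.vinj (by rw [← Frame.actsAs_act hk, hcomm 9 p9, mul_inv_cancel_right]))
        (S.F.vinj (by rw [← Frame.actsAs_act hk, hcomm 3 p3, mul_inv_cancel_right]))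
      have hy := hmem.1 y.2
      rcases ha with rfl | rfl
      · rw [D.w_one, mul_one] at e
        exact ⟨y, (hEmem y).2 ⟨i, D.comm_w.1 (e ▸ hy), e⟩, rfl⟩
      · have hi : act 1 0 i = i := D.comm_w.1 (by
          rw [e, mul_assoc, ← hs, hss, mul_one, ← mul_assoc] at hy
          calc S.F.v i * s = (S.F.v i) * s := rfl
            _ = _ := by
              have := congrArg (fun g => g * s) hy
              simp only [mul_assoc, hss, mul_one] at this
              exact this)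
        refine ⟨⟨_, hvX hi⟩, (hEmem _).2 ⟨i, hi, rfl⟩, QuotientGroup.eq.2 ?_⟩
        rw [show (⟨_, hvX hi⟩ : X)⁻¹ * y = sX from Subtype.ext (by
          show (S.F.v i)⁻¹ * (y : G) = s
          rw [e, inv_mul_cancel_left])]
        exact mem_zpowers _
    · obtain ⟨x, hx, rfl⟩ := hSYmem hq
      obtain ⟨w, hw, rfl⟩ := hSYmem hr
      rw [← map_mul, ← map_mul]
      obtain ⟨c, -, hc⟩ := (hEmem x).1 hx
      obtain ⟨d, -, hd⟩ := (hEmem w).1 hw
      exact congrArg π (Subtype.ext (by show (w : G) * x = x * w; rw [hc, hd, (S.F.v_comm d c).eq]))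
  have hE9 : Nat.card E = 9 := by
    rw [← show (Finset.univ.filter fun c : Fin 27 => act 1 0 c = c).card = 9 by decide +kernel,
      ← Fintype.card_subtype, ← Nat.card_eq_fintype_card]
    refine (Nat.card_congr (Equiv.ofBijective (fun c : {c : Fin 27 // act 1 0 c = c} =>
      (⟨⟨_, hvX c.2⟩, (hEmem _).2 ⟨c, c.2, rfl⟩⟩ : E)) ⟨fun a b e => ?_, fun y => ?_⟩)).symm
    · exact Subtype.ext (S.F.vinj (congrArg (fun z : E => ((z : X) : G)) e))
    · obtain ⟨c, hc, e⟩ := (hEmem y).1 y.2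
      exact ⟨⟨c, hc⟩, Subtype.ext (Subtype.ext e.symm)⟩
  have hcard : Nat.card SY = 9 := by
    rw [← hE9]
    refine (Nat.card_congr (Equiv.ofBijective (fun y : E => (⟨π y, ⟨y, y.2, rfl⟩⟩ : SY)) ⟨fun a b e => ?_, ?_⟩)).symm
    · exact Subtype.ext (hπ3 _ _ (hE3 _ b.2) (hE3 _ a.2) (congrArg Subtype.val e).symm)
    · rintro ⟨_, y, hy, rfl⟩
      exact ⟨⟨y, hy⟩, rfl⟩
  -- the plane is a Sylow subgroup
  have hEp : IsPGroup 3 E := fun z => ⟨1, Subtype.ext (by simpa using hE3 z z.2)⟩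
  obtain ⟨P, hP⟩ := hEp.exists_le_sylow
  have hPE : (P : Subgroup X) = E := by
    refine le_antisymm (fun y hy => ?_) hP
    obtain ⟨n, hn⟩ := P.isPGroup'.exists_card_eq
    by_contra hyE
    -- a larger 3-subgroup would contain a further element centralising the plane
    haveI : Group.IsNilpotent (P : Subgroup X) := P.isPGroup'.isNilpotent
    have hlt : E.subgroupOf (P : Subgroup X) < ⊤ := by
      rw [lt_top_iff_ne_top, Ne, subgroupOf_eq_top]
      exact fun h' => hyE (h' hy)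
    obtain ⟨u, hu, huE⟩ := SetLike.exists_of_lt (Group.normalizerCondition_of_isNilpotent _ hlt)
    rw [mem_subgroupOf] at huE
    have huN : π (u : X) ∈ normalizer (SY : Set _) := by
      refine Fusion.le_normalizer_of_conj_mem fun q hq => ?_
      obtain ⟨e, he, rfl⟩ := hSYmem hq
      have h1 := (mem_normalizer_iff.1 hu ⟨e, hP he⟩).1 he
      exact ⟨_, h1, by simp⟩
    obtain ⟨a, k, -, hk⟩ := D.isCase.exists_act ((hNJ u).2 huN)
    have hc := Frame.Full.w_act_comm D hk (hmem.1 (u : X).2)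
    have key : ∀ a k, (∀ e, act a k (act 1 0 e) = act 1 0 (act a k e)) → ∀ e, (act a k)^[8] e = e := by
      decide +kernel
    obtain ⟨m, hm⟩ := P.isPGroup' u
    have hm' : ((u : X) : G) ^ 3 ^ m = 1 := congrArg (fun z : (P : Subgroup X) => ((z : X) : G)) hm
    have hJ8 : ((u : X) : G) ^ 8 ∈ S.F.J := Frame.mem_J_of_act (F := S.F) fun e => by
      show _ = S.F.v (act 0 0 e)
      rw [Frame.ActsAs.pow hk 8 e, key a k hc e, act_facts.1]
    have hodd : Odd (orderOf ((u : X) : G)) :=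
      (Odd.pow (by decide : Odd 3)).of_dvd_nat (orderOf_dvd_of_pow_eq_one hm')
    refine huE (mem_subgroupOf.2 (mem_of_sq_mem hodd (mem_of_sq_mem ?_ (mem_of_sq_mem ?_ ?_))))
    · exact hodd.of_dvd_nat (by rw [← pow_two]; exact orderOf_pow_dvd 2)
    · exact hodd.of_dvd_nat (by rw [← pow_two, ← pow_two, ← pow_mul]; exact orderOf_pow_dvd _)
    · rwa [← pow_two, ← pow_two, ← pow_two, ← pow_mul, ← pow_mul]
  let PY : Sylow 3 (X ⧸ zpowers sX) := P.mapSurjective (QuotientGroup.mk'_surjective _)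
  have hPY : SY = (PY : Subgroup _) := by rw [hSY, ← hPE]; rfl
  have hcent : ∀ q ∈ SY, q ≠ 1 → centralizer ({q} : Set _) ≤ normalizer (SY : Set _) := by
    intro q hq hq1 r hr
    obtain ⟨e, he, rfl⟩ := hSYmem hq
    obtain ⟨y, rfl⟩ := QuotientGroup.mk'_surjective _ r
    obtain ⟨c, hc, hce⟩ := (hEmem e).1 he
    have hc0 : c ≠ 0 := fun e0 => hq1 (by
      rw [show e = 1 from Subtype.ext (by rw [hce, e0, S.F.v0]; rfl), map_one])
    have h1 := mem_centralizer_singleton_iff.1 hr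
    have h3 : (y * e * y⁻¹) ^ 3 = 1 := by rw [conj_pow, hE3 e he]; group
    have h2 := congrArg Subtype.val (hπ3 _ _ (hE3 e he) h3 (by
      rw [map_mul, map_mul, map_inv]
      exact eq_mul_inv_of_mul_eq h1.symm))
    refine (hNJ y).1 (Frame.small_all D.isCase hsmall hc0 (pxt c hc hc0) ?_)
    rw [← hce]
    exact mul_inv_eq_iff_eq_mul.1 h2
  have hwX : ∀ x : DihedralGroup 4, D.w (dTab x).1 (dTab x).2 ∈ X := fun x => hmem.2 (D.w_mem_cent (pdt x))
  let ψ : DihedralGroup 4 →* ↥(normalizer (SY : Set (X ⧸ zpowers sX))) ⧸ SY.subgroupOf (normalizer (SY : Set _)) :=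
    MonoidHom.mk' (fun x => QuotientGroup.mk' _ ⟨π ⟨_, hwX x⟩, (hNJ ⟨_, hwX x⟩).1 (D.w_spec _ _).1⟩)
      fun x y => by
        refine Eq.trans (congrArg _ (Subtype.ext ?_)) (map_mul _ _ _)
        show π _ = π _ * π _
        rw [← map_mul]
        refine congrArg π (Subtype.ext ?_)
        show D.w (dTab (x * y)).1 (dTab (x * y)).2 = D.w (dTab x).1 (dTab x).2 * D.w (dTab y).1 (dTab y).2
        rw [D.w_mul, six_tab.1 x y]
  have hψinj : Function.Injective ψ := (injective_iff_map_eq_one _).2 fun x hx => by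
    obtain ⟨e, he, h1⟩ := hSYmem (mem_subgroupOf.1 ((QuotientGroup.eq_one_iff _).1 hx))
    obtain ⟨c, -, hce⟩ := (hEmem e).1 he
    rcases hπ _ _ h1 with h2 | h2
    · have h3 : D.w (dTab x).1 (dTab x).2 = S.F.v c := (congrArg Subtype.val h2).trans hce
      have h4 := S.F.actsAs_v c
      rw [← h3] at h4
      obtain ⟨e1, e2⟩ := S.F.actsAs_unique (D.w_spec _ _).2.1 h4
      exact six_tab.2.2.1 x (Prod.ext e1 e2)
    · have h3 : D.w (dTab x).1 (dTab x).2 = S.F.v c * s := by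
        rw [← hce]; exact congrArg Subtype.val h2
      have h4 := (S.F.actsAs_v c).comp (D.w_spec 1 0).2.1
      rw [← hs, ← h3] at h4
      obtain ⟨e1, e2⟩ := S.F.actsAs_unique (D.w_spec _ _).2.1 h4
      exact (pdt1 x (Prod.ext (e1.trans (by decide +kernel)) (e2.trans (by decide +kernel)))).elim
  have hψsurj : Function.Surjective ψ := fun q => by
    obtain ⟨⟨r, hr⟩, rfl⟩ := QuotientGroup.mk'_surjective _ q
    obtain ⟨y, rfl⟩ := QuotientGroup.mk'_surjective _ r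
    obtain ⟨i, a, k, e, hk⟩ := D.exists_eq ((hNJ y).2 hr)
    obtain ⟨⟨x, hx⟩, -⟩ := pcomm a k (Frame.Full.w_act_comm D hk (hmem.1 y.2))
    refine ⟨x, QuotientGroup.eq.2 (mem_subgroupOf.2 ?_)⟩
    show (π ⟨_, hwX x⟩)⁻¹ * π y ∈ SY
    -- the product with the table element, corrected by the sign change
    obtain ⟨z, hz, hzπ⟩ : ∃ z : X, S.F.ActsAs (z : G) 0 0 ∧ π z = (π ⟨_, hwX x⟩)⁻¹ * π y := by
      have key : ∀ a k x, dTab x = (a, k) ∨ dTab x = (sComp 1 0 a, k) →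
          ∀ e, act a k e = act (dTab x).1 (dTab x).2 e ∨ act a k e = act (dTab x).1 (dTab x).2 (act 1 0 e) := by
        decide +kernel
      rcases hx with hx | hx
      · refine ⟨⟨_, hwX x⟩⁻¹ * y, fun e => ?_, by rw [map_mul, map_inv]⟩
        show (D.w _ _)⁻¹ * (y : G) * S.F.v e * ((D.w _ _)⁻¹ * (y : G))⁻¹ = S.F.v (act 0 0 e)
        rw [hx, show (D.w a k)⁻¹ * (y : G) * S.F.v e * ((D.w a k)⁻¹ * (y : G))⁻¹ =
          (D.w a k)⁻¹ * ((y : G) * S.F.v e * (y : G)⁻¹) * D.w a k by group, Frame.actsAs_act hk,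
          ← Frame.actsAs_act (D.w_spec a k).2.1 e, act_facts.1]
        group
      · refine ⟨sX * ⟨_, hwX x⟩⁻¹ * y, fun e => ?_, by
          rw [map_mul, map_mul, map_inv, show π sX = 1 from (QuotientGroup.eq_one_iff _).2 (mem_zpowers _), one_mul]⟩
        show s * (D.w _ _)⁻¹ * (y : G) * S.F.v e * (s * (D.w _ _)⁻¹ * (y : G))⁻¹ = S.F.v (act 0 0 e)
        rw [hx, show s * (D.w (sComp 1 0 a) k)⁻¹ * (y : G) * S.F.v e * (s * (D.w (sComp 1 0 a) k)⁻¹ * (y : G))⁻¹ =
          s * ((D.w (sComp 1 0 a) k)⁻¹ * ((y : G) * S.F.v e * (y : G)⁻¹) * D.w (sComp 1 0 a) k) * s⁻¹ by group,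
          Frame.actsAs_act hk, ← Frame.actsAs_act (D.w_spec a k).2.1 e, act_facts.1]
        have hmul : D.w a k = s * D.w (sComp 1 0 a) k := by
          have key0 : ∀ k, kmul 0 k = k := by decide +kernel
          have key1 : ∀ a, sComp 1 0 (sComp 1 0 a) = a := by decide +kernel
          rw [hs, D.w_mul, key0, key1]
        have hcw : Commute (D.w (sComp 1 0 a) k)⁻¹ s := by
          have h0 := hmem.1 (hwX x)
          rw [hx] at h0
          exact (show Commute (D.w (sComp 1 0 a) k) s from h0).inv_left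
        rw [hmul]
        set w' := D.w (sComp 1 0 a) k
        calc s * (w'⁻¹ * (s * w' * S.F.v e * (s * w')⁻¹) * w') * s⁻¹
            = s * (w'⁻¹ * s) * w' * S.F.v e * w'⁻¹ * (w'⁻¹ * s)⁻¹ * s⁻¹ := by group
          _ = (s * s) * S.F.v e * (s * s)⁻¹ := by rw [hcw.eq]; group
          _ = S.F.v e := by rw [hss]; group
    rw [← hzπ]
    exact ⟨z, mem_subgroupOf.2 (Frame.mem_J_of_act hz), rfl⟩
  -- the character
  have hnegconj : ∀ (u : X), u * u = 1 → (u : G) ∈ normalizer (S.F.J : Set G) →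
      (u : G) * S.F.v 1 ≠ S.F.v 1 * (u : G) →
      (u : G) = s ∨ ∀ g : G, g * s * g⁻¹ ≠ (u : G) := by
    intro u hu2 huN hu1
    obtain ⟨i, a, k, e, hk⟩ := D.exists_eq huN
    have hc := Frame.Full.w_act_comm D hk (hmem.1 u.2)
    have huu : (u : G) * u = 1 := congrArg Subtype.val hu2
    have hinv : ∀ e, act a k (act a k e) = e := fun e' => S.F.vinj (by
      rw [← Frame.actsAs_act hk, ← Frame.actsAs_act hk]
      calc (u : G) * ((u : G) * S.F.v e' * (u : G)⁻¹) * (u : G)⁻¹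
          = ((u : G) * u) * S.F.v e' * ((u : G) * u)⁻¹ := by group
        _ = S.F.v e' := by rw [huu]; group)
    have h1 : act a k 1 = vSmul 2 1 := by
      refine (pcomm a k hc).2.resolve_left fun h1 => hu1 (mul_inv_eq_iff_eq_mul.1 ?_)
      rw [Frame.actsAs_act hk, h1]
    set τ := D.w a k with hτ
    have hττ : τ * τ = 1 := by
      obtain ⟨e1, e2⟩ := S.F.actsAs_unique (hk.comp hk)
        (show S.F.ActsAs ((u : G) * u) 0 0 from fun e' => by
          show _ = S.F.v (act 0 0 e')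
          rw [huu, act_facts.1]; group)
      exact D.w_sq e1 e2
    -- the element is conjugate to its table value by an element of `J`
    have hi : act a k i = vSmul 2 i := by
      refine S.F.vinj ?_
      rw [← Frame.actsAs_act (D.w_spec a k).2.1, ← S.F.v_inv, eq_inv_iff_mul_eq_one]
      have h0 : S.F.v i * τ * (S.F.v i * τ) = 1 := by rw [hτ, ← e]; exact huu
      calc τ * S.F.v i * τ⁻¹ * S.F.v i = (S.F.v i)⁻¹ * (S.F.v i * τ * (S.F.v i * τ)) * S.F.v i * (S.F.v i)⁻¹ *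
            (τ * τ)⁻¹ * S.F.v i := by group
        _ = 1 := by rw [h0, hττ]; group
    have hconjJ : (S.F.v i)⁻¹ * τ * S.F.v i = u := by
      rw [e]
      have h2 : τ * S.F.v i = (S.F.v i)⁻¹ * τ := by
        rw [S.F.v_inv, ← hi, ← Frame.actsAs_act (D.w_spec a k).2.1, inv_mul_cancel_right]
      rw [mul_assoc, h2, ← mul_assoc, ← mul_inv_rev, ← S.F.vmul, S.F.v_inv]
      congr 2
      have key : ∀ i : Fin 27, vSmul 2 (vAdd i i) = i := by decide +kernel
      exact key i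
    rcases pinv a k hinv hc h1 with ⟨rfl, rfl⟩ | ⟨t, l, htl⟩
    · left
      rw [← hconjJ, hτ]
      have h3 : i ∈ mult 1 := pneg i hi
      have hz : S.F.v i * s = s * S.F.v i := by
        have hcomm := hmem.1 u.2
        rw [e, hτ, ← hs] at hcomm
        calc S.F.v i * s = S.F.v i * (s * s) * s := by rw [hss, mul_one]
          _ = s * (S.F.v i * s) * s := by rw [← mul_assoc (S.F.v i), hcomm]
          _ = s * S.F.v i := by rw [mul_assoc s, mul_assoc (S.F.v i), hss, mul_one]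
      show (S.F.v i)⁻¹ * s * S.F.v i = s
      rw [mul_assoc, ← hz, inv_mul_cancel_left]
    · right
      intro g
      refine Frame.Full.ne_t_of_conj S D
        (v := if (sComp t l a, kmul l k) = (sComp 6 0 t, kmul 0 l) then D.w 6 0 else
          if (sComp t l a, kmul l k) = (sComp 7 0 t, kmul 0 l) then D.w 7 0 else D.w 1 2)
        ⟨D.w t l * S.F.v i, ?_⟩ (by split_ifs <;> simp) g
      have hq : D.w t l * S.F.v i * (u : G) * (D.w t l * S.F.v i)⁻¹ = D.w t l * τ * (D.w t l)⁻¹ := by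
        rw [← hconjJ]; group
      rw [hq, mul_inv_eq_iff_eq_mul, hτ, D.w_mul]
      split_ifs with e1 e2
      · rw [D.w_mul, show sComp t l a = _ from (Prod.ext_iff.1 e1).1, show kmul l k = _ from (Prod.ext_iff.1 e1).2]
      · rw [D.w_mul, show sComp t l a = _ from (Prod.ext_iff.1 e2).1, show kmul l k = _ from (Prod.ext_iff.1 e2).2]
      · rcases htl with h' | h' | h'
        exacts [absurd h' e1, absurd h' e2, by rw [D.w_mul, show sComp t l a = _ from (Prod.ext_iff.1 h').1, show kmul l k = _ from (Prod.ext_iff.1 h').2]]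
  rcases Cfsg.Agent.S3333.result PY SY hPY hcard hC
    (MulEquiv.ofBijective ψ ⟨hψinj, hψsurj⟩).symm hcent with hnor | ⟨⟨e⟩⟩
  · -- everything normalises `J`
    have hall : ∀ y : X, (y : G) ∈ normalizer (S.F.J : Set G) := fun y =>
      (hNJ y).2 (by rw [normalizer_eq_top_iff.2 hnor]; exact mem_top _)
    have hsign : ∀ y : X, (y : G) * S.F.v 1 * (y : G)⁻¹ = S.F.v 1 ∨ (y : G) * S.F.v 1 * (y : G)⁻¹ = S.F.v (vSmul 2 1) := by
      intro y
      obtain ⟨a, k, -, hk⟩ := D.isCase.exists_act (hall y)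
      rw [Frame.actsAs_act hk]
      rcases (pcomm a k (Frame.Full.w_act_comm D hk (hmem.1 y.2))).2 with h | h <;> rw [h] <;> simp
    have h12 : S.F.v (vSmul 2 1) ≠ S.F.v 1 := fun h => absurd (S.F.vinj h) (by decide +kernel)
    let χ : X →* ℤˣ := MonoidHom.mk'
      (fun y => if (y : G) * S.F.v 1 * (y : G)⁻¹ = S.F.v 1 then 1 else -1) fun a b => by
        have hab : ((a * b : X) : G) * S.F.v 1 * ((a * b : X) : G)⁻¹ = (a : G) * ((b : G) * S.F.v 1 * (b : G)⁻¹) * (a : G)⁻¹ := by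
          rw [Subgroup.coe_mul]; group
        have hneg : ∀ y : G, y * (S.F.v 1)⁻¹ * y⁻¹ = (y * S.F.v 1 * y⁻¹)⁻¹ := fun y => by group
        have h12' : (S.F.v 1)⁻¹ ≠ S.F.v 1 := S.F.v_inv 1 ▸ h12
        rw [hab]
        rcases hsign b with hb | hb <;> rcases hsign a with ha | ha <;>
          simp only [hb, ← S.F.v_inv, hneg, ha, inv_inv] <;> simp [h12']
    refine ⟨χ, ?_, fun u hu hχ => hnegconj u hu (hall u) fun hc => ?_⟩
    · have hv : s * S.F.v 1 * s⁻¹ = S.F.v (vSmul 2 1) := by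
        rw [Frame.actsAs_act (D.w_spec 1 0).2.1]
        exact congrArg S.F.v (by decide +kernel)
      show (if s * S.F.v 1 * s⁻¹ = S.F.v 1 then (1 : ℤˣ) else -1) = -1
      rw [if_neg (by rw [hv]; exact h12)]
    · have h1 : (u : G) * S.F.v 1 * (u : G)⁻¹ = S.F.v 1 := by rw [hc, mul_inv_cancel_right]
      have h2 : (if (u : G) * S.F.v 1 * (u : G)⁻¹ = S.F.v 1 then (1 : ℤˣ) else -1) = -1 := hχ
      rw [if_pos h1] at h2
      exact absurd h2 (by decide)
  -- the quotient is the symmetric group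
  obtain ⟨t0e, m1, m4, t12, g6, c45, c54, g7, g22, -, g5, g11, g46, g67, -, g10, g00, q1, q1', -, -⟩ := six_misc
  obtain ⟨-, -, -, -, -, -, -, -, -, -, f11, f12, f13, f14, f15, f16, -⟩ := six_facts
  obtain ⟨ga, gb, gab, -, gt2, gt0, -, -⟩ := f16 0 0
  obtain ⟨m9, m3, m39, m399, c9, c3, d9, d3⟩ := six_mult
  have hw02 : D.w 0 2 * s = s * D.w 0 2 := D.w_mem_cent (by decide +kernel)
  let cA : X := ⟨S.F.v 9, hvX p9⟩
  let cB : X := ⟨S.F.v 3, hvX p3⟩
  let cEA : X := ⟨D.w 4 0, hmem.2 (D.w_mem_cent (by decide +kernel))⟩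
  let cEB : X := ⟨D.w 2 0, hmem.2 (D.w_mem_cent (by decide +kernel))⟩
  let cT : X := ⟨D.w 0 2, hmem.2 hw02⟩
  have hA3 : cA ^ 3 = 1 := Subtype.ext (by simpa using S.F.v_cube 9)
  have hB3 : cB ^ 3 = 1 := Subtype.ext (by simpa using S.F.v_cube 3)
  have hconj : ∀ {a : Fin 8} {k : Fin 6} {i j : Fin 27}, act a k i = j → D.w a k * S.F.v i = S.F.v j * D.w a k :=
    fun {a k i j} h => mul_inv_eq_iff_eq_mul.1 (by rw [Frame.actsAs_act (D.w_spec a k).2.1, h])
  have hne : ∀ {x y : X}, x ^ 3 = 1 → y ^ 3 = 1 → (x : G) ≠ y → π x ≠ π y :=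
    fun hx hy h e' => h (congrArg Subtype.val (hπ3 _ _ hy hx e'.symm))
  have hrel : SixP.Rel (π cA) (π cB) (π cEA) (π cEB) (π cT) := by
    constructor
    · rw [← map_mul, ← map_mul, ← pow_two, ← pow_succ, hA3, map_one]
    · rw [← map_one π]
      exact hne hA3 (one_pow 3) fun h => p90 (S.F.v_eq_one.1 h)
    · rw [← map_mul, ← map_mul, ← pow_two, ← pow_succ, hB3, map_one]
    · rw [← map_mul, ← map_mul]
      exact congrArg π (Subtype.ext (S.F.v_comm 9 3).eq)
    · rw [← map_one π]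
      exact hne hB3 (one_pow 3) fun h => absurd (S.F.v_eq_one.1 h) (by decide)
    · exact hne hB3 hA3 fun h => absurd (S.F.vinj h) (by decide)
    · rw [← map_mul]
      refine hne hB3 ?_ fun h => ?_
      · rw [← pow_two, ← pow_mul, mul_comm, pow_mul, hA3, one_pow]
      · have h' : S.F.v 3 = S.F.v (vAdd 9 9) := by rw [S.F.vmul]; exact h
        exact absurd (S.F.vinj h') (by decide +kernel)
    all_goals rw [← map_mul]
    any_goals rw [← map_mul]
    any_goals rw [← map_mul]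
    any_goals rw [← map_one π]
    all_goals refine congrArg π (Subtype.ext ?_)
    · show D.w 4 0 * D.w 4 0 = 1
      rw [D.w_mul, ga, g00, D.w_one]
    · show D.w 4 0 * S.F.v 9 = S.F.v 9 * S.F.v 9 * D.w 4 0
      rw [hconj f11, ← S.F.vmul, d9]
    · show D.w 4 0 * S.F.v 3 = S.F.v 3 * D.w 4 0
      exact hconj f12
    · show D.w 2 0 * D.w 2 0 = 1
      rw [D.w_mul, gb, g00, D.w_one]
    · show D.w 2 0 * S.F.v 9 = S.F.v 9 * D.w 2 0
      exact hconj f13
    · show D.w 2 0 * S.F.v 3 = S.F.v 3 * S.F.v 3 * D.w 2 0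
      rw [hconj f14, ← S.F.vmul, d3]
    · show D.w 4 0 * D.w 2 0 = D.w 2 0 * D.w 4 0
      rw [D.w_mul, D.w_mul, gab]
    · show D.w 0 2 * D.w 0 2 = 1
      rw [D.w_mul, g5, g22, D.w_one]
    · show D.w 0 2 * S.F.v 9 = S.F.v 3 * D.w 0 2
      exact hconj f15
    · show D.w 0 2 * D.w 4 0 = D.w 2 0 * D.w 0 2
      rw [D.w_mul, D.w_mul, g6, g7]
  obtain ⟨θ, -, -, tea, teb, tt⟩ := SixP.exists_std (hrel.map e)
  let e' := e.trans θ
  let η : X →* Perm (Fin 6) := e'.toMonoidHom.comp π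
  have hη : ∀ x y : X, η x = η y → y = x ∨ y = x * sX := fun x y h => hπ x y (e'.injective h)
  have hηs : η sX = 1 := by
    show e' (π sX) = 1
    rw [show π sX = 1 from (QuotientGroup.eq_one_iff _).2 (mem_zpowers _), map_one]
  -- the preferred lifts of transpositions
  let Good : X → Prop := fun x => ∃ g : X, g * cEA * g⁻¹ = x
  have hgood : ∀ x y : X, Good x → Good y → η x = η y → y = x := by
    rintro _ y ⟨g, rfl⟩ ⟨g', rfl⟩ h
    refine (hη _ _ h).resolve_right fun h' => ?_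
    have h2 := congrArg Subtype.val (congrArg (fun x => g⁻¹ * x * g) h')
    simp only [mul_assoc] at h2
    have h5 : (g : G)⁻¹ * g' * D.w 4 0 * ((g : G)⁻¹ * g')⁻¹ = D.w 5 0 := by
      have h3 : (g⁻¹ * (g' * cEA * g'⁻¹) * g : X) = cEA * sX := by
        rw [h', show g⁻¹ * (g * cEA * g⁻¹ * sX) * g = cEA * (g⁻¹ * (sX * g)) by group, ← hsc g, inv_mul_cancel_left]
      have h4 := congrArg Subtype.val h3
      calc (g : G)⁻¹ * g' * D.w 4 0 * ((g : G)⁻¹ * g')⁻¹
          = (g : G)⁻¹ * ((g' : G) * D.w 4 0 * (g' : G)⁻¹) * g := by group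
        _ = D.w 4 0 * s := h4
        _ = D.w 5 0 := by rw [hs, D.w_mul, c45, g00]
    refine S.t_not_z D (D.w 0 1 * ((g : G)⁻¹ * g') * (D.w 0 5)⁻¹) ?_
    have e1 : D.w 0 5 * D.w 4 0 * (D.w 0 5)⁻¹ = D.w 1 0 := by
      rw [mul_inv_eq_iff_eq_mul, D.w_mul, D.w_mul, six_misc.2.2.2.2.2.2.2.2.2.2.2.2.2.2.2.2.2.2.2.1,
        six_misc.2.2.2.2.2.2.2.2.2.2.2.2.2.2.2.2.2.2.2.2]
    have e2 : D.w 0 1 * D.w 5 0 * (D.w 0 1)⁻¹ = D.w 6 0 := by
      rw [mul_inv_eq_iff_eq_mul, D.w_mul, D.w_mul, q1, q1']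
    rw [← e2, ← h5, ← e1]
    group
  choose ρ hρ using six_swaps
  have hηsurj : Function.Surjective η := e'.surjective.comp (QuotientGroup.mk'_surjective _)
  choose lift hlift using hηsurj
  have hEA2 : cEA * cEA = 1 := Subtype.ext (by show D.w 4 0 * D.w 4 0 = 1; rw [D.w_mul, ga, g00, D.w_one])
  have hex : ∀ i : Fin 5, ∃ x : X, Good x ∧ η x = swap i.castSucc i.succ ∧ x * x = 1 := fun i => by
    refine ⟨lift (ρ i) * cEA * (lift (ρ i))⁻¹, ⟨_, rfl⟩, ?_, ?_⟩
    · rw [map_mul, map_mul, map_inv, hlift, show η cEA = swap 1 2 from tea, hρ, mul_inv_cancel_right]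
    · rw [show ∀ g : X, g * cEA * g⁻¹ * (g * cEA * g⁻¹) = g * (cEA * cEA) * g⁻¹ from fun g => by group, hEA2]
      group
  choose L hL hηL hLsq using hex
  have hGconj : ∀ (x g : X), Good x → Good (g * x * g⁻¹) := fun x g ⟨u, hu⟩ => ⟨g * u, by rw [← hu]; group⟩
  have hLadj : Cfsg.Lib.Fischer.LocalSym.AdjN L := by
    refine ⟨hLsq, fun i j hij => ?_, fun i j hij => ?_⟩
    · have h := hgood _ _ (hL j) (hGconj _ (L i) (hL j)) (by
        rw [map_mul, map_mul, map_inv, hηL, hηL, six_adj.far i j hij, mul_inv_cancel_right])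
      exact mul_inv_eq_iff_eq_mul.1 h
    · have hLi : ∀ i, (L i)⁻¹ = L i := fun i => inv_eq_of_mul_eq_one_right (hLsq i)
      have h1 := hGconj _ (L i) (hL j)
      have h2 := hGconj _ (L j) (hL i)
      rw [hLi] at h1 h2
      exact (hgood _ _ h1 h2 (by rw [map_mul, map_mul, map_mul, map_mul, hηL, hηL, six_adj.near i j hij])).symm
  obtain ⟨φ, hφ⟩ := Cfsg.Lib.Fischer.LocalSym.exists_homN hLadj six_adj
  have hsec : ∀ σ, η (φ σ) = σ := fun σ => by
    have hσ : σ ∈ Submonoid.closure (Set.range fun i : Fin 5 => swap i.castSucc i.succ) := by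
      rw [Equiv.Perm.mclosure_swap_castSucc_succ 5]; trivial
    induction hσ using Submonoid.closure_induction with
    | mem x hx => obtain ⟨i, rfl⟩ := hx; rw [hφ, hηL]
    | one => rw [map_one, map_one]
    | mul x y _ _ hx hy => rw [map_mul, map_mul, hx, hy]
  have hcases : ∀ x : X, x = φ (η x) ∨ x = φ (η x) * sX := fun x => hη _ _ (by rw [hsec])
  have hne_s : ∀ x : X, x * sX ≠ x := fun x h => hs1 (congrArg Subtype.val (mul_eq_left.1 h))
  let χ : X →* ℤˣ := MonoidHom.mk' (fun x => if x = φ (η x) then 1 else -1) fun a b => by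
    have hcc : ∀ p q : X, p * sX * (q * sX) = p * q := fun p q => by
      rw [show p * sX * (q * sX) = p * (sX * q) * sX by group, ← hsc q,
        show p * (q * sX) * sX = p * q * (sX * sX) by group, hsX2, mul_one]
    rcases hcases a with ha | ha <;> rcases hcases b with hb | hb
    · rw [if_pos ha, if_pos hb, if_pos (by rw [map_mul, map_mul, ← ha, ← hb]), one_mul]
    · have hbn : b ≠ φ (η b) := fun h => hne_s _ (hb.symm.trans h)
      rw [if_pos ha, if_neg hbn, if_neg, one_mul]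
      intro h
      rw [map_mul, map_mul, ← ha] at h
      exact hbn (mul_left_cancel h)
    · have han : a ≠ φ (η a) := fun h => hne_s _ (ha.symm.trans h)
      rw [if_neg han, if_pos hb, if_neg, mul_one]
      intro h
      rw [map_mul, map_mul, ← hb] at h
      exact han (mul_right_cancel h)
    · have han : a ≠ φ (η a) := fun h => hne_s _ (ha.symm.trans h)
      have hbn : b ≠ φ (η b) := fun h => hne_s _ (hb.symm.trans h)
      rw [if_neg han, if_neg hbn, if_pos (by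
        conv_lhs => rw [ha, hb, hcc]
        rw [map_mul, map_mul])]
      decide
  refine ⟨χ, ?_, fun u hu hχ => ?_⟩
  · show (if sX = φ (η sX) then (1 : ℤˣ) else -1) = -1
    rw [if_neg (by rw [hηs, map_one]; exact fun h => hs1 (congrArg Subtype.val h))]
  have hu' : u = φ (η u) * sX := by
    refine (hcases u).resolve_left fun h => ?_
    have h2 : (if u = φ (η u) then (1 : ℤˣ) else -1) = -1 := hχ
    rw [if_pos h] at h2
    exact absurd h2 (by decide)
  have hσ2 : η u * η u = 1 := by rw [← map_mul, hu, map_one]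
  rcases six_inv _ hσ2 with h1 | ⟨σ, hσ⟩
  · left
    rw [hu', h1, map_one, one_mul]
  right
  -- the images of the three classes
  have hφ1 : φ (swap 1 2) = cEA := by
    rw [← m1, hφ]
    exact hgood _ _ ⟨1, by group⟩ (hL 1) (by rw [hηL, m1]; exact tea)
  have hEB : cEB = cT * cEA * cT⁻¹ := Subtype.ext (by
    show D.w 2 0 = D.w 0 2 * D.w 4 0 * (D.w 0 2)⁻¹
    rw [eq_mul_inv_iff_mul_eq, D.w_mul, D.w_mul, g6, g7])
  have hφ4 : φ (swap 4 5) = cEB := by
    rw [← m4, hφ]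
    exact hgood _ _ ⟨cT, hEB.symm⟩ (hL 4) (by rw [hηL, m4]; exact teb)
  have hval : ∀ τ : Perm (Fin 6), σ * η u = τ * σ →
      ∃ q : G, q * (u : G) * q⁻¹ = ((φ τ : X) : G) * s := fun τ hτ => by
    refine ⟨(φ σ : X), ?_⟩
    show ((φ σ : X) : G) * (u : G) * ((φ σ : X) : G)⁻¹ = _
    have h : φ σ * u * (φ σ)⁻¹ = φ τ * sX := by
      conv_lhs => rw [hu']
      rw [← mul_assoc, ← map_mul, hτ, map_mul, mul_assoc (φ τ * φ σ), ← hsc (φ σ)⁻¹]
      group
    exact congrArg Subtype.val h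
  intro g
  rcases hσ with hσ | hσ | hσ
  · obtain ⟨q, hq⟩ := hval _ hσ
    refine Frame.Full.ne_t_of_conj S D (v := D.w 6 0) ⟨D.w 0 1 * q, ?_⟩ (Or.inl rfl) g
    rw [hφ1] at hq
    have hq' : q * (u : G) * q⁻¹ = D.w 5 0 := hq.trans (by
      show D.w 4 0 * s = _
      rw [hs, D.w_mul, c45, g00])
    calc D.w 0 1 * q * (u : G) * (D.w 0 1 * q)⁻¹ = D.w 0 1 * (q * (u : G) * q⁻¹) * (D.w 0 1)⁻¹ := by group
      _ = D.w 6 0 := by rw [hq', mul_inv_eq_iff_eq_mul, D.w_mul, D.w_mul, q1, q1']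
  · obtain ⟨q, hq⟩ := hval _ hσ
    refine Frame.Full.ne_t_of_conj S D (v := D.w 7 0) ⟨q, ?_⟩ (Or.inr (Or.inl rfl)) g
    rw [hq, map_mul, hφ1, hφ4]
    show D.w 4 0 * D.w 2 0 * s = _
    rw [hs, D.w_mul, g00, g46, D.w_mul, g67, g00]
  · obtain ⟨q, hq⟩ := hval _ hσ
    have hτ : φ (swap 0 3 * swap 1 4 * swap 2 5) = cT ∨ φ (swap 0 3 * swap 1 4 * swap 2 5) = cT * sX :=
      hη _ _ (by rw [hsec, show η cT = SixP.t0 from tt, t0e])
    intro hg
    have hqg : (q * g) * s * (q * g)⁻¹ = ((φ (swap 0 3 * swap 1 4 * swap 2 5) : X) : G) * s := by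
      rw [← hq, ← hg]; group
    rcases hτ with h | h <;> rw [h] at hqg
    · refine S.t_not_zp D (q * g) (hqg.trans ?_)
      show D.w 0 2 * s = _
      rw [hw02, hs, D.w_mul, g10, show kmul 0 2 = 2 by decide +kernel]
    · refine D.t_not_i (q * g) (hqg.trans ?_)
      show D.w 0 2 * s * s = _
      rw [mul_assoc, hss, mul_one]

end Setting

end Cfsg.Lib.PSpThree
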