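import Cfsg.Agent.Lib.PSpThree.CaseTwo
import Cfsg.Agent.Lib.Recog.TwoTimesAlt.Transfer
import Cfsg.Agent.Lib.SmithTyrer.Reduction
import Cfsg.Agent.Lib.Coprime.Generation
import Cfsg.Agent.Lib.ZStar.Main

/-!
# The signs are scalars: the central subgroup is normal

The centralizer of the swapping involution lies in the normalizer `H` of the central subgroup, the involution
is isolated, and a nontrivial normal subgroup of odd order is a 3-group.
-/

set_option autoImplicit false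
set_option maxHeartbeats 1600000
set_option maxRecDepth 100000
set_option linter.unusedSectionVars false
set_option linter.style.haveILetI false

namespace Cfsg.Lib.PSpThree

open Subgroup Cfsg.Lib.SymNine

theorem one_facts :
    (∀ c, c ≠ 0 → c ≠ one1 → c ≠ vSmul 2 one1 → xType 1 c = false) ∧
    (∀ s k, signSets 1 s = true → act s k one1 = one1 ∨ act s k one1 = vSmul 2 one1) ∧
    (∀ s k c, signSets 1 s = true → sumz c = true → sumz (act s k c) = true) ∧
    (∀ c, act 0 2 c = c → sumz c = true → c = 0 ∨ c = one1 ∨ c = vSmul 2 one1) ∧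
    (∀ k, act 0 2 (act 0 k 1) = act 0 k 1 → act 0 k 1 = 1) ∧
    (∀ k, act 0 k 1 = 1 → k = 0 ∨ k = 2) ∧
    (act 0 2 1 = 1 ∧ act 0 2 one1 = one1 ∧ signSets 1 7 = true ∧ (1 : Fin 27) ≠ 0) ∧
    (∀ c, act 0 2 c = c → ∃ i j : Fin 3, c = vAdd (vSmul i.val one1) (vSmul j.val 1)) ∧
    (∀ i, act 7 0 i = vSmul 2 i) := by
  refine ⟨?_, ?_, ?_, ?_, ?_, ?_, ?_, ?_, ?_⟩ <;> decide +kernel

theorem inv_unique {G : Type*} [Group G] {x : G} (h : x * x = 1) (ho : Odd (orderOf x)) : x = 1 := by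
  rw [← orderOf_eq_one_iff]
  have h2 : orderOf x ∣ 2 := orderOf_dvd_of_pow_eq_one (by rw [pow_two, h])
  rcases (Nat.dvd_prime Nat.prime_two).1 h2 with e | e
  · exact e
  · rw [e] at ho; exact absurd ho (by decide)

/-- A homomorphism into a quotient of a 3-group kills elements of order prime to three. -/
theorem map_eq_one_of_coprime {M A T : Type*} [Group M] [Group A] [Group T] (f : M →* A) (q : T →* A)
    (hq : Function.Surjective q) (hT : IsPGroup 3 T) {z : M} (hz : ¬ 3 ∣ orderOf z) : f z = 1 := by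
  obtain ⟨n, hn⟩ := hT (hq (f z)).choose
  have h1 : (f z) ^ 3 ^ n = 1 := by rw [← (hq (f z)).choose_spec, ← map_pow, hn, map_one]
  rw [← orderOf_eq_one_iff]
  exact Nat.eq_one_of_dvd_coprimes
    (((Nat.Prime.coprime_iff_not_dvd Nat.prime_three).2 hz).pow_left n)
    (orderOf_dvd_of_pow_eq_one h1) (orderOf_map_dvd f z)

/-- Closure by generators killed by a homomorphism. -/
theorem map_eq_one_of_closure {G A : Type*} [Group G] [Group A] (s : Set G) (f : ↥(Subgroup.closure s) →* A)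
    (h : ∀ z, ∀ hz : z ∈ s, f ⟨z, subset_closure hz⟩ = 1) (y : ↥(Subgroup.closure s)) : f y = 1 := by
  obtain ⟨y, hy⟩ := y
  induction hy using closure_induction with
  | mem z hz => exact h z hz
  | one => exact map_one f
  | mul u w hu hw ihu ihw =>
    exact (map_mul f ⟨u, hu⟩ ⟨w, hw⟩).trans (by rw [ihu, ihw, one_mul])
  | inv u hu ih => exact (map_inv f ⟨u, hu⟩).trans (by rw [ih, inv_one])

namespace Setting

variable {G : Type*} [Group G] [Finite G] (S : Setting G)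

/-- The normalizer of the central subgroup. -/
def Ha : Subgroup G := normalizer ((zpowers S.D.a : Subgroup G) : Set G)

theorem a_inv : S.D.a⁻¹ = S.D.a * S.D.a :=
  inv_eq_of_mul_eq_one_right (by rw [← pow_two, ← pow_succ', S.D.a_cube])

theorem mem_Ha {g : G} : g ∈ S.Ha ↔ g * S.D.a * g⁻¹ = S.D.a ∨ g * S.D.a * g⁻¹ = S.D.a⁻¹ := by
  constructor
  · intro hg
    rcases S.D.mem_zpowers_a ((mem_normalizer_iff.1 hg _).1 (mem_zpowers _)) with e | e | e
    · exact absurd (conj_eq_one_iff.1 e) S.D.a_ne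
    · exact Or.inl e
    · exact Or.inr (S.a_inv ▸ e)
  · intro hg
    refine Fusion.le_normalizer_of_conj_mem fun y ⟨n, hn⟩ => ?_
    subst hn
    show g * S.D.a ^ n * g⁻¹ ∈ _
    rw [← conj_zpow]
    rcases hg with e | e <;> rw [e]
    · exact zpow_mem (mem_zpowers _) _
    · exact zpow_mem (inv_mem (mem_zpowers _)) _

theorem C_le_Ha : S.D.C ≤ S.Ha := fun g hg =>
  S.mem_Ha.2 (Or.inl (mul_inv_eq_iff_eq_mul.2 (S.D.comm_a hg)))

/-- Elements of odd order in the normalizer centralise. -/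
theorem odd_mem_C {g : G} (hg : g ∈ S.Ha) (ho : Odd (orderOf g)) : g ∈ S.D.C := by
  refine S.D.mem_C.2 ?_
  obtain ⟨n, hn⟩ := ho
  rcases S.mem_Ha.1 hg with e | e
  · exact mul_inv_eq_iff_eq_mul.1 e
  have hsq : (g * g) * S.D.a * (g * g)⁻¹ = S.D.a := by
    rw [show g * g * S.D.a * (g * g)⁻¹ = g * (g * S.D.a * g⁻¹) * g⁻¹ by group, e,
      show g * S.D.a⁻¹ * g⁻¹ = (g * S.D.a * g⁻¹)⁻¹ by group, e, inv_inv]
  have hc : Commute ((g * g) ^ (n + 1)) S.D.a :=
    (show Commute (g * g) S.D.a from mul_inv_eq_iff_eq_mul.1 hsq).pow_left _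
  have hg1 : (g * g) ^ (n + 1) = g := by
    rw [← pow_two, ← pow_mul, show 2 * (n + 1) = orderOf g + 1 by omega, pow_succ, pow_orderOf_eq_one, one_mul]
  exact hg1 ▸ hc.eq

variable {S}

section One

variable (h : S.F.IsCase 1)
include h

theorem conj_a {g : G} (hg : g * S.D.a * g⁻¹ ∈ S.D.J) : g ∈ S.Ha := by
  obtain ⟨c, hc⟩ := S.F.mem_J.1 (S.hJ ▸ hg)
  obtain ⟨s, k, hs, hk⟩ := h.conj_cases (i := one1) (j := c) (g := g) (by rw [S.a_eq, hc])
  refine S.mem_Ha.2 ?_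
  rw [← hc, ← hk]
  rcases one_facts.2.1 s k hs with e | e <;> rw [e]
  · exact Or.inl S.a_eq
  · exact Or.inr (by rw [← S.F.v_inv, S.a_eq])

theorem N_le_Ha : normalizer (S.F.J : Set G) ≤ S.Ha := fun g hg =>
  conj_a h (S.hJ ▸ (mem_normalizer_iff.1 hg _).1 (S.hJ.symm ▸ S.D.a_mem_J))

theorem cent_v_le {c : Fin 27} (hc0 : c ≠ 0) {g : G} (hg : g * S.F.v c = S.F.v c * g) : g ∈ S.Ha := by
  by_cases h1 : c = one1
  · subst h1
    exact S.C_le_Ha (S.D.mem_C.2 (S.a_eq ▸ hg))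
  by_cases h2 : c = vSmul 2 one1
  · subst h2
    rw [← S.F.v_inv, S.a_eq] at hg
    exact S.C_le_Ha (S.D.mem_C.2 (Commute.inv_right_iff.1 hg))
  exact N_le_Ha h (h.cent_le_of_small hc0 (one_facts.1 c hc0 h1 h2) (Or.inl (by decide)) hg)

theorem cent_R_le {x : G} (hx : x ∈ S.D.R) (hx1 : x ≠ 1) {g : G} (hg : g * x = x * g) : g ∈ S.Ha := by
  obtain ⟨u, hu, c, -, e⟩ := S.conj_into_J hx
  have hc0 : c ≠ 0 := fun e' => hx1 (conj_eq_one_iff.1 (e.trans (by rw [e', S.F.v0])))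
  have h1 : u * g * u⁻¹ ∈ S.Ha := cent_v_le h hc0 (by
    rw [← e, show u * g * u⁻¹ * (u * x * u⁻¹) = u * (g * x) * u⁻¹ by group, hg]; group)
  simpa [mul_assoc] using mul_mem (mul_mem (inv_mem (S.C_le_Ha hu)) h1) (S.C_le_Ha hu)

/-- A conjugate of the central element in `R` is central there. -/
theorem conj_a_R {g : G} (hg : g * S.D.a * g⁻¹ ∈ S.D.R) : g ∈ S.Ha := by
  obtain ⟨u, hu, c, -, e⟩ := S.conj_into_J hg
  have h1 : u * g ∈ S.Ha := conj_a h (by
    rw [show u * g * S.D.a * (u * g)⁻¹ = u * (g * S.D.a * g⁻¹) * u⁻¹ by group, e]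
    exact S.v_mem_J c)
  simpa using mul_mem (inv_mem (S.C_le_Ha hu)) h1

/-- Conjugate elements of `R` are conjugate in `H`, and only so. -/
theorem mem_Ha_of_conj {x g : G} (hx : x ∈ S.D.R) (hx1 : x ≠ 1) (hg : g * x * g⁻¹ ∈ S.D.R) : g ∈ S.Ha := by
  obtain ⟨u, hu, c, -, e⟩ := S.conj_into_J hx
  obtain ⟨w, hw, d, -, e'⟩ := S.conj_into_J hg
  obtain ⟨n, hn, -, hn'⟩ := Frame.exists_normalizer_conj (F := S.F) (W := ∅) (Set.empty_subset _)
    (g := w * g * u⁻¹) (i := c) (j := d) (by simp) (by rw [← e, ← e']; group)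
  have h1 : g⁻¹ * (w⁻¹ * n * u) ∈ S.Ha := cent_R_le h hx hx1 (by
    have e2 : (w⁻¹ * n * u) * x * (w⁻¹ * n * u)⁻¹ = g * x * g⁻¹ := by
      rw [show w⁻¹ * n * u * x * (w⁻¹ * n * u)⁻¹ = w⁻¹ * (n * (u * x * u⁻¹) * n⁻¹) * w by group, e, hn', ← e']
      group
    calc g⁻¹ * (w⁻¹ * n * u) * x = g⁻¹ * ((w⁻¹ * n * u) * x * (w⁻¹ * n * u)⁻¹) * (w⁻¹ * n * u) := by group
      _ = x * (g⁻¹ * (w⁻¹ * n * u)) := by rw [e2]; group)
  have h2 : w⁻¹ * n * u ∈ S.Ha :=
    mul_mem (mul_mem (inv_mem (S.C_le_Ha hw)) (N_le_Ha h hn)) (S.C_le_Ha hu)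
  have h3 := mul_mem h2 (inv_mem h1)
  rwa [show w⁻¹ * n * u * (g⁻¹ * (w⁻¹ * n * u))⁻¹ = g by group] at h3

theorem conj_R {g x : G} (hg : g ∈ S.Ha) (hx : x ∈ S.D.R) : g * x * g⁻¹ ∈ S.D.R := by
  have hC : ∀ {g y : G}, g ∈ S.Ha → y ∈ S.D.C → g * y * g⁻¹ ∈ S.D.C := fun {g y} hg hy => by
    refine S.D.mem_C.2 ?_
    have hy' := S.D.comm_a hy
    rcases S.mem_Ha.1 (inv_mem hg) with e | e <;> rw [inv_inv] at e
    all_goals
      have h2 : Commute y (g⁻¹ * S.D.a * g) := by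
        rw [e]; first | exact hy' | exact (show Commute y S.D.a from hy').inv_right
      calc g * y * g⁻¹ * S.D.a = g * (y * (g⁻¹ * S.D.a * g)) * g⁻¹ := by group
        _ = S.D.a * (g * y * g⁻¹) := by rw [h2.eq]; group
  -- the image of the conjugate of `R` is a normal subgroup consisting of cubic roots of one
  have hxC := hC hg (S.D.R_le hx)
  refine (S.D.ker ⟨_, hxC⟩).1 ?_
  by_contra hne
  have hcube : ∀ {y : G}, y ∈ S.D.R → ∀ hy : g * y * g⁻¹ ∈ S.D.C, S.D.π ⟨_, hy⟩ ≠ -1 := fun {y} hy hy' e => by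
    have h3 : (⟨_, hy'⟩ : S.D.C) ^ 3 = 1 := Subtype.ext (by
      rw [SubmonoidClass.coe_pow, conj_pow, S.D.R_exp y hy]; simp)
    have := congrArg S.D.π h3
    rw [map_pow, e, map_one] at this
    exact absurd this (by decide +kernel)
  rcases sl_normal_facts _ hne with e | e | e | ⟨t, e⟩
  · exact hcube hx hxC e
  · refine hcube (mul_mem hx hx) (hC hg (S.D.R_le (mul_mem hx hx))) ?_
    rw [← e, ← map_mul]
    exact congrArg S.D.π (Subtype.ext (by simp [mul_assoc]))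
  · refine hcube (mul_mem (mul_mem hx hx) hx) (hC hg (S.D.R_le (mul_mem (mul_mem hx hx) hx))) ?_
    rw [← e, ← map_mul, ← map_mul]
    exact congrArg S.D.π (Subtype.ext (by simp [mul_assoc]))
  · obtain ⟨⟨u, hu⟩, rfl⟩ := S.D.surj t
    set u' := g⁻¹ * u * g
    have hu' : u' ∈ S.D.C := by simpa [u'] using hC (inv_mem hg) hu
    have hr : u' * x * u'⁻¹ * x⁻¹ ∈ S.D.R := mul_mem (S.D.R_normal hu' hx) (inv_mem hx)
    refine hcube (mul_mem hr hr) (hC hg (S.D.R_le (mul_mem hr hr))) ?_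
    rw [← e, ← map_inv, ← map_mul, ← map_mul, ← map_inv, ← map_mul, ← map_mul]
    exact congrArg S.D.π (Subtype.ext (by simp [u', mul_assoc]))

/-- An involution inverting the central element fixes a further element of `R`. -/
theorem exists_fixed {t : G} (ht : t * t = 1) (hta : t * S.D.a * t⁻¹ = S.D.a⁻¹) :
    ∃ d ∈ S.D.R, d ≠ 1 ∧ d ∉ zpowers S.D.a ∧ t * d * t⁻¹ = d := by
  have htH : t ∈ S.Ha := S.mem_Ha.2 (Or.inr hta)
  by_contra hne
  push Not at hne
  let φ : S.D.R →* S.D.R := MonoidHom.mk' (fun r => ⟨t * r * t⁻¹, conj_R h htH r.2⟩)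
    fun x y => Subtype.ext (by simp [mul_assoc])
  have hfp : MonoidHom.FixedPointFree φ := fun r hr => by
    by_contra hr1
    have he : t * (r : G) * t⁻¹ = r := congrArg Subtype.val hr
    have hrZ : (r : G) ∈ zpowers S.D.a := by
      by_contra hrZ
      exact hne r r.2 (fun e => hr1 (Subtype.ext e)) hrZ he
    obtain ⟨n, hn⟩ := hrZ
    have h2 : t * (r : G) * t⁻¹ = (r : G)⁻¹ := by
      rw [← hn]
      show t * S.D.a ^ n * t⁻¹ = (S.D.a ^ n)⁻¹
      rw [← conj_zpow, hta, inv_zpow]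
    refine hr1 (Subtype.ext ?_)
    have h3 := S.D.R_exp _ r.2
    have h4 : (r : G) * r = 1 := eq_inv_iff_mul_eq_one.1 (he.symm.trans h2)
    rwa [pow_succ, pow_two, h4, one_mul] at h3
  have hinv : Function.Involutive φ := fun r => Subtype.ext (by
    show t * (t * (r : G) * t⁻¹) * t⁻¹ = r
    rw [show t * (t * (r : G) * t⁻¹) * t⁻¹ = (t * t) * r * (t * t)⁻¹ by group, ht, one_mul, inv_one, mul_one])
  obtain ⟨x, hx, y, hy, hxy⟩ := S.D.R_nab
  have hodd : Odd (Nat.card S.D.R) := by rw [S.D.R_card]; decide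
  exact hxy (congrArg Subtype.val (hfp.commute_all_of_involutive hinv ⟨x, hx⟩ ⟨y, hy⟩).eq)

omit h in
theorem i_sq : S.F.p 2 * S.F.p 2 = 1 := S.p_sq (by decide +kernel)

omit h in
theorem comm_i {c : Fin 27} : S.F.v c * S.F.p 2 = S.F.p 2 * S.F.v c ↔ act 0 2 c = c :=
  Frame.comm_v_iff (S.F.actsAs_p 2) c

/-- The involutions of the centralizer of the central element commuting with the swap. -/
theorem eq_i {t : G} (htC : t ∈ S.D.C) (ht : t * t = 1) (ht1 : t ≠ 1) (htc : t * S.F.p 2 = S.F.p 2 * t) :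
    t = S.F.p 2 := by
  have h1 := S.neg_of_sq htC ht ht1
  have h2 := S.neg_of_sq (S.p_mem_C 2) i_sq (S.p_ne (by decide))
  have hr : S.F.p 2 * t ∈ S.D.R := (S.D.ker (⟨_, S.p_mem_C 2⟩ * ⟨t, htC⟩)).1
    (by rw [map_mul, h1, h2, sl_facts.2.1])
  have hsq : (S.F.p 2 * t) * (S.F.p 2 * t) = 1 := by
    rw [show S.F.p 2 * t * (S.F.p 2 * t) = S.F.p 2 * (t * S.F.p 2) * t by group, htc, ← mul_assoc (S.F.p 2), i_sq,
      one_mul, ht]
  have h3 := S.D.R_exp _ hr
  rw [pow_succ, pow_two, hsq, one_mul] at h3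
  rw [← inv_eq_of_mul_eq_one_right h3, inv_eq_of_mul_eq_one_right i_sq]

/-- The centralizer of the swap lies in the normalizer, and its elements of order three are fused into `J`. -/
theorem cent_i : centralizer ({S.F.p 2} : Set G) ≤ S.Ha ∧
    ∀ y ∈ centralizer ({S.F.p 2} : Set G), y ^ 3 = 1 →
      ∃ g : G, ∃ c, act 0 2 c = c ∧ g * y * g⁻¹ = S.F.v c := by
  classical
  haveI : Fact (Nat.Prime 3) := ⟨Nat.prime_three⟩
  set τ := S.F.p 2 with hτ
  set X := centralizer ({τ} : Set G) with hX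
  set E : Subgroup X := S.F.J.subgroupOf X with hE
  have hmemX : ∀ {y : G}, y ∈ X ↔ y * τ = τ * y := mem_centralizer_singleton_iff
  have haX : S.F.v one1 ∈ X := hmemX.2 (comm_i.2 one_facts.2.2.2.2.2.2.1.2.1)
  have h1X : S.F.v 1 ∈ X := hmemX.2 (comm_i.2 one_facts.2.2.2.2.2.2.1.1)
  have hEmem : ∀ y : X, y ∈ E ↔ ∃ c, act 0 2 c = c ∧ (y : G) = S.F.v c := fun y => by
    rw [hE, mem_subgroupOf, S.F.mem_J]
    exact ⟨fun ⟨c, hc⟩ => ⟨c, comm_i.1 (hc ▸ hmemX.1 y.2), hc.symm⟩, fun ⟨c, _, hc⟩ => ⟨c, hc.symm⟩⟩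
  have hEp : IsPGroup 3 E := fun y => ⟨1, Subtype.ext (Subtype.ext (by simpa using S.F.J_cube y.2))⟩
  have hEcent : ∀ y : X, (y : G) * S.F.v one1 = S.F.v one1 * y → (y : G) * S.F.v 1 = S.F.v 1 * y →
      y ∈ centralizer (E : Set X) := by
    intro y hya hy1
    refine mem_centralizer_iff.2 fun e he => Subtype.ext ?_
    obtain ⟨c, hc, hce⟩ := (hEmem e).1 he
    obtain ⟨i, j, rfl⟩ := one_facts.2.2.2.2.2.2.2.1 c hc
    show (e : G) * y = y * e
    rw [hce, S.F.vmul, S.F.v_smul i.2, S.F.v_smul j.2]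
    exact (((show Commute (y : G) (S.F.v one1) from hya).pow_right _).mul_right
      ((show Commute (y : G) (S.F.v 1) from hy1).pow_right _)).eq.symm
  have hNH : ∀ y : X, y ∈ normalizer (E : Set X) → (y : G) ∈ S.Ha := by
    intro y hy
    refine conj_a h (S.hJ ▸ ?_)
    rw [← S.a_eq]
    exact (mem_normalizer_iff.1 hy ⟨_, haX⟩).1 (S.F.v_mem one1)
  -- normalising elements centralising the central element centralise
  have hNC : ∀ y : X, y ∈ normalizer (E : Set X) → (y : G) ∈ S.D.C → y ∈ centralizer (E : Set X) := by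
    intro y hy hyC
    refine hEcent y (S.a_eq ▸ S.D.comm_a hyC) ?_
    obtain ⟨c, hc, e⟩ := (hEmem _).1 ((mem_normalizer_iff.1 hy ⟨_, h1X⟩).1 (S.F.v_mem 1))
    replace e : (y : G) * S.F.v 1 * (y : G)⁻¹ = S.F.v c := e
    obtain ⟨n, hn, hnW, hne⟩ := Frame.exists_normalizer_conj (F := S.F) (W := {S.F.v one1})
      (by simpa using S.F.v_mem one1) (by simpa [S.a_eq] using S.D.comm_a hyC) e
    obtain ⟨d, k, rfl⟩ := S.F.cent n (fun i => ⟨_, S.F.v_lin hn i⟩) (hnW _ rfl)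
    rw [Frame.actsAs_act (Frame.actsAs_vp d k)] at hne
    rw [← S.F.vinj hne, one_facts.2.2.2.2.1 k (by rw [S.F.vinj hne]; exact hc)] at e
    exact mul_inv_eq_iff_eq_mul.1 e
  obtain ⟨P, hP⟩ := hEp.exists_le_sylow
  have hPE : (P : Subgroup X) = E := by
    by_contra hne
    haveI : Group.IsNilpotent (P : Subgroup X) := P.isPGroup'.isNilpotent
    have hlt : E.subgroupOf (P : Subgroup X) < ⊤ := by
      rw [lt_top_iff_ne_top, Ne, subgroupOf_eq_top]
      exact fun h' => hne (le_antisymm h' hP)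
    obtain ⟨y, hy, hyE⟩ := SetLike.exists_of_lt (Group.normalizerCondition_of_isNilpotent _ hlt)
    rw [mem_subgroupOf] at hyE
    have hyN : (y : X) ∈ normalizer (E : Set X) := Fusion.le_normalizer_of_conj_mem fun e he => by
      have := (mem_normalizer_iff.1 hy ⟨e, hP he⟩).1 he
      simpa [mem_subgroupOf] using this
    obtain ⟨m, hm⟩ := P.isPGroup' y
    have hm' : ((y : X) : G) ^ 3 ^ m = 1 := congrArg (fun z : (P : Subgroup X) => ((z : X) : G)) hm
    have hodd : Odd (orderOf ((y : X) : G)) :=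
      (Odd.pow (by decide : Odd 3)).of_dvd_nat (orderOf_dvd_of_pow_eq_one hm')
    have hyC := S.odd_mem_C (hNH _ hyN) hodd
    have hy1 := hNC _ hyN hyC
    have hc1 : ((y : X) : G) * S.F.v 1 = S.F.v 1 * ((y : X) : G) :=
      (congrArg Subtype.val (mem_centralizer_iff.1 hy1 ⟨_, h1X⟩ (S.F.v_mem 1))).symm
    have hxt : xType 1 1 = false := by decide +kernel
    have hyJ : ((y : X) : G) ∈ normalizer (S.F.J : Set G) :=
      h.cent_le_of_small one_facts.2.2.2.2.2.2.1.2.2.2 hxt (Or.inl (by decide)) hc1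
    obtain ⟨d, k, e⟩ := S.norm_mem_N hyJ hyC
    have hact : S.F.ActsAs ((y : X) : G) 0 k := e ▸ Frame.actsAs_vp d k
    have hk1 : act 0 k 1 = 1 := S.F.vinj (by
      rw [← Frame.actsAs_act hact, hc1, mul_inv_cancel_right])
    rcases one_facts.2.2.2.2.2.1 k hk1 with rfl | rfl
    · exact hyE ((hEmem _).2 ⟨d, comm_i.1 (by
        have := hmemX.1 (y : X).2
        rwa [e, S.F.p0, mul_one] at this), by rw [e, S.F.p0, mul_one]⟩)
    · obtain ⟨j, hj⟩ := (Odd.pow (by decide : Odd 3) : Odd (3 ^ m))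
      have h9 := Frame.ActsAs.pow hact (3 ^ m) 9
      rw [hm', inv_one, one_mul, mul_one, hj, Function.iterate_add, Function.comp_apply, Function.iterate_mul] at h9
      have hsq : (act 0 2)^[2] = id := funext (by decide +kernel)
      rw [hsq, Function.iterate_id, id] at h9
      exact absurd (S.F.vinj h9) (by decide +kernel)
  have hEeq : ∀ y, y ∈ (P : Subgroup X) ↔ y ∈ E := fun y => by rw [hPE]
  have hPab : IsMulCommutative (P : Subgroup X) := ⟨⟨fun u w => Subtype.ext (Subtype.ext (by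
    obtain ⟨c, -, hc⟩ := (hEmem u).1 ((hEeq _).1 u.2)
    obtain ⟨d, -, hd⟩ := (hEmem w).1 ((hEeq _).1 w.2)
    show ((u : X) : G) * (w : X) = (w : X) * (u : X)
    rw [hc, hd, (S.F.v_comm c d).eq]))⟩⟩
  obtain ⟨ι, -, hι, hιτ, -⟩ := h.exists_inv_lift (t := τ) i_sq (S.F.actsAs_p 2) (s' := 7) (k' := 0)
    one_facts.2.2.2.2.2.2.1.2.2.1 (by decide +kernel) (by decide +kernel)
  have hιX : ι ∈ X := hmemX.2 hιτ
  have hιinv : ∀ e : X, e ∈ E → ι * (e : G) * ι⁻¹ = (e : G)⁻¹ := fun e he => by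
    obtain ⟨c, -, hc⟩ := (hEmem e).1 he
    rw [hc, Frame.actsAs_act hι, one_facts.2.2.2.2.2.2.2.2, S.F.v_inv]
  have hιN : (⟨ι, hιX⟩ : X) ∈ normalizer (E : Set X) := by
    refine mem_normalizer_iff.2 fun e => ?_
    have hJ := mem_normalizer_iff.1 (Frame.ActsAs.mem_normalizer hι) (e : G)
    exact hJ
  have hιC : (⟨ι, hιX⟩ : X) ∉ centralizer (E : Set X) := fun hc => by
    have h1 : S.F.v 1 * ι = ι * S.F.v 1 :=
      congrArg Subtype.val (mem_centralizer_iff.1 hc ⟨_, h1X⟩ (S.F.v_mem 1))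
    have h2 := hιinv ⟨_, h1X⟩ (S.F.v_mem 1)
    rw [← h1, mul_inv_cancel_right, S.F.v_inv] at h2
    exact absurd (S.F.vinj h2) (by decide +kernel)
  have hdich : ∀ y : X, y ∈ normalizer (E : Set X) →
      y ∈ centralizer (E : Set X) ∨ (⟨ι, hιX⟩ : X)⁻¹ * y ∈ centralizer (E : Set X) := by
    intro y hy
    have haι : ι * S.D.a * ι⁻¹ = S.D.a⁻¹ := by
      rw [← S.a_eq, Frame.actsAs_act hι, one_facts.2.2.2.2.2.2.2.2, S.F.v_inv]
    rcases S.mem_Ha.1 (hNH y hy) with e | e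
    · exact Or.inl (hNC y hy (S.D.mem_C.2 (mul_inv_eq_iff_eq_mul.1 e)))
    · refine Or.inr (hNC _ (mul_mem (inv_mem hιN) hy) (S.D.mem_C.2 (mul_inv_eq_iff_eq_mul.1 ?_)))
      show ι⁻¹ * (y : G) * S.D.a * (ι⁻¹ * (y : G))⁻¹ = S.D.a
      rw [show ι⁻¹ * (y : G) * S.D.a * (ι⁻¹ * (y : G))⁻¹ = ι⁻¹ * ((y : G) * S.D.a * (y : G)⁻¹) * ι by group, e,
        ← haι]
      group
  have hCN : (centralizer ((P : Subgroup X) : Set X)).relIndex (normalizer ((P : Subgroup X) : Set X)) = 2 := by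
    rw [hPE, relIndex, index_eq_two_iff_exists_notMem_and]
    refine ⟨⟨_, inv_mem hιN⟩, ?_, fun n => ?_⟩
    · rw [mem_subgroupOf]
      exact fun hc => hιC (inv_mem_iff.1 hc)
    · simp only [mem_subgroupOf, Subgroup.coe_mul]
      rcases hdich n n.2 with hn | hn
      · exact Or.inr hn
      · refine Or.inl ?_
        refine mem_centralizer_iff.2 fun e he => ?_
        have he' : (⟨ι, hιX⟩ : X)⁻¹ * e * (⟨ι, hιX⟩ : X)⁻¹⁻¹ ∈ E := (mem_normalizer_iff.1 (inv_mem hιN) e).1 he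
        have h1 := mem_centralizer_iff.1 hn _ he'
        rw [inv_inv] at h1
        have h2 := congrArg (fun z => (⟨ι, hιX⟩ : X) * z * (⟨ι, hιX⟩ : X)⁻¹) h1
        simpa [mul_assoc] using h2
  have hfree : Block.FreeAction P := by
    intro v hv hv1
    rw [hPE]
    refine le_antisymm (fun y hy => ?_) (le_inf (fun y hy => mem_centralizer_singleton_iff.2
      (mem_centralizer_iff.1 hy v ((hEeq v).1 hv)).symm) (centralizer_le_normalizer _))
    rcases hdich y hy.2 with hy' | hy'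
    · exact hy'
    exfalso
    have hvE := (hEeq v).1 hv
    have h1 : ι⁻¹ * (y : G) * (v : G) = (v : G) * (ι⁻¹ * (y : G)) :=
      (congrArg Subtype.val (mem_centralizer_iff.1 hy' v hvE)).symm
    have h2 : (y : G) * (v : G) = (v : G) * (y : G) :=
      congrArg Subtype.val (mem_centralizer_singleton_iff.1 hy.1)
    have h3 : ι * (v : G) * ι⁻¹ = (v : G) := by
      calc ι * (v : G) * ι⁻¹ = ι * ((v : G) * (ι⁻¹ * y)) * (y : G)⁻¹ := by group
        _ = (y : G) * v * (y : G)⁻¹ := by rw [← h1]; group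
        _ = v := by rw [h2, mul_inv_cancel_right]
    rw [hιinv v hvE] at h3
    refine hv1 (Subtype.ext ?_)
    obtain ⟨c, -, hc⟩ := (hEmem v).1 hvE
    rw [hc, S.F.v_inv] at h3
    have key : ∀ c : Fin 27, vSmul 2 c = c → c = 0 := by decide +kernel
    rw [hc, key c (S.F.vinj h3), S.F.v0]
    rfl
  have hnc : ¬ IsCyclic (P : Subgroup X) := fun hc => by
    haveI := hc
    obtain ⟨g, hg⟩ := IsCyclic.exists_generator (α := (P : Subgroup X))
    obtain ⟨c, -, hgc⟩ := (hEmem g).1 ((hEeq _).1 g.2)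
    have hpow : ∀ d, act 0 2 d = d → d = 0 ∨ d = c ∨ d = vSmul 2 c := by
      intro d hd
      obtain ⟨n, hn⟩ := hg ⟨⟨S.F.v d, hmemX.2 (comm_i.2 hd)⟩, (hEeq _).2 (S.F.v_mem d)⟩
      have e : (S.F.v c) ^ n = S.F.v d := by
        rw [← hgc]
        exact (congrArg (fun z : (P : Subgroup X) => ((z : X) : G)) hn : _)
      obtain ⟨w, hw, e'⟩ := Frame.mem_zpowers_v.1 (⟨n, rfl⟩ : S.F.v c ^ n ∈ zpowers (S.F.v c))
      rw [e] at e'
      rw [← S.F.vinj e'.symm] at *
      simpa [mult] using hw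
    have key : ∀ c : Fin 27, ¬ ((1 : Fin 27) = 0 ∨ 1 = c ∨ 1 = vSmul 2 c) ∨
        ¬ (one1 = 0 ∨ one1 = c ∨ one1 = vSmul 2 c) := by decide +kernel
    rcases key c with hk | hk
    · exact hk (hpow 1 one_facts.2.2.2.2.2.2.1.1)
    · exact hk (hpow one1 one_facts.2.2.2.2.2.2.1.2.1)
  haveI := hPab
  obtain ⟨K, hK, hPK, hKN⟩ := SmithTyrer.exists_normal (P := P) (by norm_num) hnc hfree hCN
  let PK : Sylow 3 K := P.subtype hPK
  have hcen : normalizer ((PK : Subgroup K) : Set K) ≤ centralizer ((PK : Subgroup K) : Set K) := by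
    intro k hk
    have hk' : (k : X) ∈ normalizer ((P : Subgroup X) : Set X) := by
      refine mem_normalizer_iff.2 fun y => ⟨fun hy => (mem_normalizer_iff.1 hk ⟨y, hPK hy⟩).1 hy, fun hy => ?_⟩
      have hyK : y ∈ K := by simpa [mul_assoc] using hK.conj_mem _ (hPK hy) (k : X)⁻¹
      exact (mem_normalizer_iff.1 hk ⟨y, hyK⟩).2 hy
    exact mem_centralizer_iff.2 fun y hy =>
      Subtype.ext (mem_centralizer_iff.1 (hKN ⟨k.2, hk'⟩) y hy)
  have hMn : (MonoidHom.transferSylow PK hcen).ker.Normal := MonoidHom.normal_ker _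
  have hMd := MonoidHom.not_dvd_card_ker_transferSylow PK hcen
  have hMc := MonoidHom.ker_transferSylow_isComplement' PK hcen
  generalize (MonoidHom.transferSylow PK hcen).ker = M at hMn hMd hMc
  have hMH : (M.map K.subtype).map X.subtype ≤ S.Ha := by
    set K0 := (M.map K.subtype).map X.subtype with hK0
    set A := (P : Subgroup X).map X.subtype with hA
    haveI : IsMulCommutative A := Subgroup.map_isMulCommutative _ _
    have hAn : A ≤ normalizer (K0 : Set G) := by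
      rintro _ ⟨e, he, rfl⟩
      refine Fusion.le_normalizer_of_conj_mem fun y hy => ?_
      obtain ⟨_, ⟨k, hk, rfl⟩, rfl⟩ := hy
      refine ⟨_, ⟨_, hMn.conj_mem k hk ⟨e, hPK he⟩, rfl⟩, ?_⟩
      simp
    have hcop : (Nat.card A).Coprime (Nat.card K0) := by
      rw [card_map_of_injective X.subtype_injective, card_map_of_injective X.subtype_injective,
        card_map_of_injective K.subtype_injective]
      obtain ⟨a, ha⟩ := P.isPGroup'.exists_card_eq
      rw [ha]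
      exact ((Nat.Prime.coprime_iff_not_dvd Nat.prime_three).2 hMd).pow_left a
    have hAnc : ¬ IsCyclic A := fun hc => hnc
      ((MulEquiv.isCyclic ((P : Subgroup X).equivMapOfInjective _ X.subtype_injective)).2 hc)
    refine (Coprime.le_iSup_centralizer_of_not_isCyclic hAnc hAn hcop).trans (iSup_le ?_)
    rintro ⟨_, ⟨e, he, rfl⟩, he1⟩
    obtain ⟨c, -, hc⟩ := (hEmem e).1 ((hEeq _).1 he)
    intro g hg
    refine cent_v_le h (c := c) (fun e0 => he1 (show (e : G) = 1 by rw [hc, e0, S.F.v0])) ?_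
    rw [← hc]
    exact mem_centralizer_singleton_iff.1 hg.2
  have hPH : ∀ e : X, e ∈ (P : Subgroup X) → (e : G) ∈ S.Ha := fun e he => by
    obtain ⟨c, -, hc⟩ := (hEmem e).1 ((hEeq _).1 he)
    exact hc ▸ N_le_Ha h (S.F.v_mem_normalizer c)
  have hKH : ∀ k : X, k ∈ K → (k : G) ∈ S.Ha := by
    intro k hk
    obtain ⟨⟨m, p⟩, hmp⟩ := hMc.surjective ⟨k, hk⟩
    have e : ((m : K) : X) * ((p : K) : X) = k := congrArg Subtype.val hmp
    rw [← e]
    exact mul_mem (hMH ⟨_, ⟨_, m.2, rfl⟩, rfl⟩) (hPH _ p.2)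
  refine ⟨fun g hg => ?_, fun y hy hy3 => ?_⟩
  · have htop := Sylow.normalizer_sup_eq_top' P hPK
    have hgm : (⟨g, hg⟩ : X) ∈ normalizer ((P : Subgroup X) : Set X) ⊔ K := htop ▸ mem_top _
    obtain ⟨n, hn, k, hk, e⟩ := Subgroup.mem_sup_of_normal_right.1 hgm
    have e' : (n : G) * (k : G) = g := congrArg Subtype.val e
    rw [← e']
    exact mul_mem (hNH n (hPE ▸ hn)) (hKH k hk)
  · have hp : IsPGroup 3 (zpowers (⟨y, hy⟩ : X)) := by
      obtain ⟨m, -, hm⟩ := (Nat.dvd_prime_pow Nat.prime_three).1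
        (orderOf_dvd_of_pow_eq_one (show (⟨y, hy⟩ : X) ^ 3 ^ 1 = 1 from Subtype.ext (by simpa using hy3)))
      exact IsPGroup.of_card (n := m) (by rw [Nat.card_zpowers, hm])
    obtain ⟨T, hT⟩ := hp.exists_le_sylow
    obtain ⟨u, hu⟩ := MulAction.exists_smul_eq X T P
    have hin : u * ⟨y, hy⟩ * u⁻¹ ∈ ((u • T : Sylow 3 X) : Subgroup X) := by
      rw [Sylow.coe_subgroup_smul]; exact ⟨_, hT (mem_zpowers _), rfl⟩
    rw [hu] at hin
    obtain ⟨c, hc, e⟩ := (hEmem _).1 ((hEeq _).1 hin)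
    exact ⟨u, c, hc, e⟩

theorem isolated_i : IsIsolatedInvolution (S.F.p 2) := by
  haveI : Fact (Nat.Prime 2) := ⟨Nat.prime_two⟩
  refine ⟨orderOf_eq_prime (by rw [pow_two, i_sq]) (S.p_ne (by decide)), fun g hg => ?_⟩
  set t := g * S.F.p 2 * g⁻¹ with ht
  have ht2 : t * t = 1 := by
    rw [ht, show g * S.F.p 2 * g⁻¹ * (g * S.F.p 2 * g⁻¹) = g * (S.F.p 2 * S.F.p 2) * g⁻¹ by group, i_sq]; group
  have ht1 : t ≠ 1 := fun e => S.p_ne (by decide) (conj_eq_one_iff.1 e)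
  have htH : t ∈ S.Ha := (cent_i h).1 (mem_centralizer_singleton_iff.2 hg.eq.symm)
  rcases S.mem_Ha.1 htH with e | e
  · exact eq_i h (S.D.mem_C.2 (mul_inv_eq_iff_eq_mul.1 e)) ht2 ht1 hg.eq.symm
  exfalso
  obtain ⟨d, hd, hd1, hdZ, htd⟩ := exists_fixed h ht2 e
  have hdX : g⁻¹ * d * g ∈ centralizer ({S.F.p 2} : Set G) := mem_centralizer_singleton_iff.2 (by
    calc g⁻¹ * d * g * S.F.p 2 = g⁻¹ * (d * t) * g := by rw [ht]; group
      _ = g⁻¹ * (t * d) * g := by rw [mul_inv_eq_iff_eq_mul.1 htd]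
      _ = S.F.p 2 * (g⁻¹ * d * g) := by rw [ht]; group)
  obtain ⟨u, c, hc, hu⟩ := (cent_i h).2 _ hdX (by
    have := conj_pow (i := 3) (a := g⁻¹) (b := d)
    rw [inv_inv] at this
    rw [this, S.D.R_exp d hd]; group)
  obtain ⟨w, hw, b, hb, hwb⟩ := S.conj_into_J hd
  obtain ⟨s, k, hs, hk⟩ := h.conj_cases (i := b) (j := c) (g := u * g⁻¹ * w⁻¹) (by rw [← hwb, ← hu]; group)
  have hwH : w * S.D.a * w⁻¹ = S.D.a := mul_inv_eq_iff_eq_mul.2 (S.D.comm_a hw)
  have hcs : sumz c = true := hk ▸ one_facts.2.2.1 s k b hs hb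
  have hback : ∀ s k b, signSets 1 s = true → (act s k b = 0 ∨ act s k b = one1 ∨ act s k b = vSmul 2 one1) →
      b = 0 ∨ b = one1 ∨ b = vSmul 2 one1 := by decide +kernel
  have hbz : S.F.v b ∈ zpowers S.D.a := by
    rcases hback s k b hs (hk ▸ one_facts.2.2.2.1 c hc hcs) with e | e | e <;> rw [e]
    · rw [S.F.v0]; exact one_mem _
    · rw [S.a_eq]; exact mem_zpowers _
    · rw [← S.F.v_inv, S.a_eq]; exact inv_mem (mem_zpowers _)
  refine hdZ ?_
  obtain ⟨n, hn⟩ := hbz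
  refine ⟨n, ?_⟩
  have hn' : S.D.a ^ n = w * d * w⁻¹ := hn.trans hwb.symm
  have hwn : w * S.D.a ^ n * w⁻¹ = S.D.a ^ n := by rw [← conj_zpow, hwH]
  show S.D.a ^ n = d
  exact (mul_left_cancel (mul_right_cancel (hwn.trans hn')))

/-- A normal subgroup of odd order. -/
theorem odd_normal {N : Subgroup G} (hN : N.Normal) (hodd : Odd (Nat.card N)) :
    (∀ g : G, g ∈ S.Ha) ∨ N = ⊥ := by
  classical
  haveI : Fact (Nat.Prime 3) := ⟨Nat.prime_three⟩
  -- inside `H` such a subgroup lies in `R`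
  have hR : ∀ {M : Subgroup G}, M.Normal → M ≤ N → ∀ x ∈ M, x ∈ S.Ha → x ∈ S.D.R := by
    intro M hM hMN x hx hxH
    have ho : ∀ y ∈ M, Odd (orderOf y) := fun y hy =>
      hodd.of_dvd_nat (orderOf_dvd_natCard N (hMN hy))
    have hxC := S.odd_mem_C hxH (ho x hx)
    refine (S.D.ker ⟨x, hxC⟩).1 ?_
    by_contra hne
    have hneg : ∀ {y : G}, y ∈ M → ∀ hy : y ∈ S.D.C, S.D.π ⟨y, hy⟩ ≠ -1 := fun {y} hy hyC e => by
      obtain ⟨n, hn⟩ := ho y hy
      have h1 : (⟨y, hyC⟩ : S.D.C) ^ orderOf y = 1 := Subtype.ext (by simp [pow_orderOf_eq_one])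
      have := congrArg S.D.π h1
      rw [map_pow, e, map_one, hn, pow_succ, pow_mul, pow_two, sl_facts.2.1, one_pow, one_mul] at this
      exact sl_facts.2.2.1 this
    rcases sl_normal_facts _ hne with e | e | e | ⟨t, e⟩
    · exact hneg hx hxC e
    · exact hneg (mul_mem hx hx) (mul_mem hxC hxC) ((map_mul S.D.π ⟨x, hxC⟩ ⟨x, hxC⟩).trans e)
    · exact hneg (mul_mem (mul_mem hx hx) hx) (mul_mem (mul_mem hxC hxC) hxC) (by rw [← e, ← map_mul, ← map_mul]; rfl)
    · obtain ⟨⟨u, hu⟩, rfl⟩ := S.D.surj t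
      have hc : u * x * u⁻¹ * x⁻¹ ∈ M := mul_mem (hM.conj_mem x hx u) (inv_mem hx)
      have hcC : u * x * u⁻¹ * x⁻¹ ∈ S.D.C := mul_mem (mul_mem (mul_mem hu hxC) (inv_mem hu)) (inv_mem hxC)
      refine hneg (mul_mem hc hc) (mul_mem hcC hcC) ?_
      rw [← e, ← map_inv, ← map_mul, ← map_mul, ← map_inv, ← map_mul, ← map_mul]
      rfl
  -- the subgroup generated by the elements of order prime to three is trivial
  set L := Subgroup.closure {y | y ∈ N ∧ ¬ 3 ∣ orderOf y} with hL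
  have hLN : L ≤ N := (closure_le _).2 fun y hy => hy.1
  have hLn : L.Normal := by
    refine normalizer_eq_top_iff.1 (eq_top_iff.2 fun g _ => Fusion.le_normalizer_of_conj_mem fun y hy => ?_)
    induction hy using closure_induction with
    | mem z hz => exact subset_closure ⟨hN.conj_mem z hz.1 g, by
        rw [show g * z * g⁻¹ = MulAut.conj g z from rfl, MulEquiv.orderOf_eq]; exact hz.2⟩
    | one => simp
    | mul u w _ _ hu hw => rw [show g * (u * w) * g⁻¹ = (g * u * g⁻¹) * (g * w * g⁻¹) by group]; exact mul_mem hu hw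
    | inv u _ hu => rw [show g * u⁻¹ * g⁻¹ = (g * u * g⁻¹)⁻¹ by group]; exact inv_mem hu
  obtain ⟨Q, hQ⟩ := Frame.exists_sylow S.F
  have hQR : ∀ x ∈ L, x ∈ (Q : Subgroup G) → x ∈ S.D.R := fun x hx hxQ =>
    hR hLn hLN x hx (S.C_le_Ha (S.P_le_C (hQ ▸ hxQ)))
  have hL1 : L = ⊥ := by
    by_contra hne
    have h3 : 3 ∣ Nat.card L := by
      by_contra hd
      exact hne (S.D.sig L ((Nat.prime_three.coprime_iff_not_dvd).2 hd).symm fun j _ =>
        mem_normalizer_iff_map_conj_eq.1 (by rw [normalizer_eq_top_iff.2 hLn]; exact mem_top j))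
    have hLQ : ¬ 3 ∣ (((Q : Subgroup G) ⊓ L).subgroupOf L).index := by
      show ¬ 3 ∣ ((Q : Subgroup G) ⊓ L).relIndex L
      haveI := hLn
      refine fun hd => Q.not_dvd_index (hd.trans ?_)
      refine dvd_trans (dvd_of_eq ?_) (relIndex_dvd_index_of_le (le_sup_left : (Q : Subgroup G) ≤ (Q : Subgroup G) ⊔ L))
      have e1 := relIndex_mul_relIndex ⊥ (Q : Subgroup G) ((Q : Subgroup G) ⊔ L) bot_le le_sup_left
      have e2 := relIndex_mul_relIndex ⊥ L ((Q : Subgroup G) ⊔ L) bot_le le_sup_right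
      have e3 := relIndex_mul_relIndex ⊥ ((Q : Subgroup G) ⊓ L) (Q : Subgroup G) bot_le inf_le_left
      have e4 := relIndex_mul_relIndex ⊥ ((Q : Subgroup G) ⊓ L) L bot_le inf_le_right
      simp only [relIndex_bot_left] at e1 e2 e3 e4
      rw [relIndex_sup_right] at e2
      rw [inf_relIndex_left] at e3
      refine Nat.eq_of_mul_eq_mul_left (Nat.card_pos (α := (Q : Subgroup G))) ?_
      rw [e1, ← e2, ← e3, ← e4]
      ring
    let T : Sylow 3 L := (show IsPGroup 3 (((Q : Subgroup G) ⊓ L).subgroupOf L) from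
      (Q.isPGroup'.to_le inf_le_left).of_equiv (subgroupOfEquivOfLe inf_le_right).symm).toSylow hLQ
    have hT : ∀ y : L, y ∈ (T : Subgroup L) ↔ (y : G) ∈ (Q : Subgroup G) := fun y =>
      ⟨fun hy => (mem_subgroupOf.1 hy).1, fun hy => mem_subgroupOf.2 ⟨hy, y.2⟩⟩
    obtain ⟨x, hxT, hx1, hxc⟩ : ∃ x : L, x ∈ (T : Subgroup L) ∧ x ≠ 1 ∧
        ((x : G) ∉ zpowers S.D.a ∨ ∀ y ∈ (T : Subgroup L), (y : G) ∈ zpowers S.D.a) := by
      by_cases hall : ∀ y ∈ (T : Subgroup L), (y : G) ∈ zpowers S.D.a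
      · have hT1 : (T : Subgroup L) ≠ ⊥ := fun e => by
          have := Sylow.card_eq_multiplicity T
          rw [e, card_bot] at this
          have hpos : 0 < (Nat.card L).factorization 3 :=
            Nat.Prime.factorization_pos_of_dvd Nat.prime_three Nat.card_pos.ne' h3
          have := Nat.one_lt_pow hpos.ne' (show 1 < 3 by norm_num)
          omega
        obtain ⟨⟨x, hx⟩, hx1⟩ := ne_bot_iff_exists_ne_one.1 hT1
        exact ⟨x, hx, fun e => hx1 (Subtype.ext e), Or.inr hall⟩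
      · push Not at hall
        obtain ⟨x, hx, hxZ⟩ := hall
        exact ⟨x, hx, fun e => hxZ (by rw [e]; exact one_mem _), Or.inl hxZ⟩
    let φ : (T : Subgroup L) →* Abelianization (T : Subgroup L) := Abelianization.of
    have hxR : (x : G) ∈ S.D.R := hQR x x.2 ((hT x).1 hxT)
    have hcube : x ^ 3 = 1 := Subtype.ext (by rw [SubmonoidClass.coe_pow, S.D.R_exp _ hxR]; rfl)
    have key : ∀ g : L, ∀ hg : g⁻¹ * x * g ∈ (T : Subgroup L), φ ⟨_, hg⟩ = φ ⟨x, hxT⟩ := by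
      intro g hg
      have hg' := hQR _ (g⁻¹ * x * g).2 ((hT _).1 hg)
      have hgH : (g : G)⁻¹ ∈ S.Ha := mem_Ha_of_conj h hxR (fun e => hx1 (Subtype.ext e)) (by
        simpa [mul_assoc] using hg')
      have hgR : (g : G) ∈ S.D.R := hR hLn hLN g g.2 (inv_mem_iff.1 hgH)
      have hgT : g ∈ (T : Subgroup L) := by
        rw [hT, hQ]
        exact S.R_le_P hgR
      rw [show (⟨g⁻¹ * x * g, hg⟩ : (T : Subgroup L)) = (⟨g, hgT⟩)⁻¹ * ⟨x, hxT⟩ * ⟨g, hgT⟩ from rfl,
        map_mul, map_mul, map_inv, mul_comm (φ ⟨g, hgT⟩)⁻¹, mul_assoc, inv_mul_cancel, mul_one]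
    have htr := Cfsg.Lib.TwoTimesAlt.transfer_const T φ hcube (a := φ ⟨x, hxT⟩)
      (by rw [← map_pow, show (⟨x, hxT⟩ : (T : Subgroup L)) ^ 3 = 1 from Subtype.ext hcube, map_one]) key
    have hone : MonoidHom.transfer φ x = 1 := map_eq_one_of_closure _ (MonoidHom.transfer φ)
      (fun z hz => map_eq_one_of_coprime (MonoidHom.transfer φ) φ (fun q => QuotientGroup.mk'_surjective _ q) T.isPGroup'
        (by rw [orderOf_mk]; exact hz.2)) x
    rw [htr] at hone
    have hφ1 : φ ⟨x, hxT⟩ = 1 := by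
      rw [← orderOf_eq_one_iff]
      have h1 : orderOf (φ ⟨x, hxT⟩) ∣ 3 := orderOf_dvd_of_pow_eq_one (by
        rw [← map_pow, show (⟨x, hxT⟩ : (T : Subgroup L)) ^ 3 = 1 from Subtype.ext hcube, map_one])
      rcases (Nat.dvd_prime Nat.prime_three).1 h1 with e | e
      · exact e
      · have hd := orderOf_dvd_of_pow_eq_one hone
        rw [e] at hd
        exact absurd hd T.not_dvd_index
    have hder : (⟨x, hxT⟩ : (T : Subgroup L)) ∈ commutator (T : Subgroup L) := by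
      rw [← Abelianization.ker_of]; exact hφ1
    set f : (T : Subgroup L) →* G := L.subtype.comp (T : Subgroup L).subtype
    have hfR : ∀ y, f y ∈ S.D.R := fun y => hQR _ y.1.2 ((hT y).1 y.2)
    rcases hxc with hxZ | hall
    · refine hxZ ?_
      have hle : (commutator (T : Subgroup L)).map f ≤ zpowers S.D.a := by
        rw [_root_.commutator_def, map_commutator, commutator_le]
        rintro _ ⟨u, -, rfl⟩ _ ⟨w, -, rfl⟩
        rw [commutatorElement_def]
        exact S.D.R_comm _ (hfR u) _ (hfR w)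
      exact hle ⟨_, hder, rfl⟩
    · have hbot : commutator (T : Subgroup L) = ⊥ := by
        rw [_root_.commutator_def, eq_bot_iff, commutator_le]
        intro u _ w _
        refine mem_bot.2 (commutatorElement_eq_one_iff_mul_comm.2 (Subtype.ext (Subtype.ext ?_)))
        obtain ⟨m, hm⟩ := hall u u.2
        obtain ⟨n, hn⟩ := hall w w.2
        show ((u : L) : G) * (w : L) = (w : L) * (u : L)
        rw [← hm, ← hn]
        exact (Commute.refl S.D.a).zpow_zpow m n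
      rw [hbot, mem_bot] at hder
      exact hx1 (congrArg Subtype.val hder)
  -- so `N` is a 3-group
  by_cases hN1 : N = ⊥
  · exact Or.inr hN1
  refine Or.inl fun g => ?_
  have hp : IsPGroup 3 N := by
    intro y
    obtain ⟨m, k, hk, hmk⟩ := Nat.exists_eq_pow_mul_and_not_dvd (orderOf_pos (y : G)).ne' 3 (by norm_num)
    refine ⟨m, Subtype.ext ?_⟩
    have hmem : (y : G) ^ 3 ^ m ∈ L := subset_closure ⟨pow_mem y.2 _, by
      rw [orderOf_pow_of_dvd (pow_ne_zero _ (by norm_num)) ⟨k, hmk⟩, hmk,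
        Nat.mul_div_cancel_left _ (pow_pos (by norm_num) m)]
      exact hk⟩
    rw [hL1, mem_bot] at hmem
    rw [SubmonoidClass.coe_pow, hmem, Subgroup.coe_one]
  haveI := hN
  have hNP : N ≤ S.F.P := hQ ▸ hp.le_sylow_of_normal Q
  haveI hNn : (N.subgroupOf S.F.P).Normal := inferInstance
  have hnb : N.subgroupOf S.F.P ≠ ⊥ := by
    rw [Ne, subgroupOf_eq_bot, disjoint_iff, inf_eq_left.2 hNP]
    exact hN1
  obtain ⟨⟨z, hz⟩, hz1⟩ := ne_bot_iff_exists_ne_one.1
    (Cfsg.Lib.PGroup.inf_center_ne_bot (Frame.P_isPGroup (F := S.F)) hnb)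
  have haN : S.D.a ∈ N := by
    rw [← S.hx]
    have hzN : (z : G) ∈ N := hz.1
    rcases Frame.center_P z.2 (fun y hy => congrArg Subtype.val (mem_center_iff.1 hz.2 ⟨y, hy⟩)) with e | e | e
    · exact absurd (Subtype.ext (Subtype.ext e)) hz1
    · exact e ▸ hzN
    · exact inv_inv S.F.x ▸ inv_mem (e ▸ hzN)
  have hin : g * S.D.a * g⁻¹ ∈ N := hN.conj_mem _ haN g
  exact conj_a_R h (hR hN le_rfl _ hin (S.C_le_Ha (S.P_le_C (hNP hin))))

theorem normal_za : normalizer ((zpowers S.D.a : Subgroup G) : Set G) = ⊤ := by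
  refine eq_top_iff.2 fun g _ => ?_
  set O := oddCore G with hO
  rcases odd_normal h (N := O) (by rw [hO]; infer_instance) ZStar.odd_card_oddCore with hall | hbot
  · exact hall g
  · refine (cent_i h).1 (mem_centralizer_singleton_iff.2 ?_)
    exact (ZStar.commute_of_oddCore_bot hbot (ZStar.zStarHolds G _ (isolated_i h) g)).eq.symm

end One

end Setting

end Cfsg.Lib.PSpThree
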