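import Cfsg.Agent.Lib.PSpThree.Point
import Cfsg.Agent.Lib.PSpAmalgam.Main
import Cfsg.Agent.Lib.PGroup.Basic

/-!
# Even sign changes: the amalgam of PSp₄(3)

`N(J)/J` permutes four lines of `J` as the symmetric group, and with the centralizer of the central element this
gives the amalgam, as soon as no subgroup of index two contains both.
-/

set_option autoImplicit false
set_option maxHeartbeats 1600000
set_option maxRecDepth 100000
set_option linter.unusedSectionVars false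
set_option linter.style.haveILetI false

namespace Cfsg.Lib.PSpThree

open Subgroup Cfsg.Lib.SymNine

/-- The codes of the four lines. -/
def ln : Fin 4 → Fin 27 := ![13, 17, 23, 25]

/-- The permutation of the four lines. -/
def pTab (s : Fin 8) (k : Fin 6) (j : Fin 4) : Fin 4 :=
  if act s k (ln j) = ln 0 ∨ act s k (ln j) = vSmul 2 (ln 0) then 0
  else if act s k (ln j) = ln 1 ∨ act s k (ln j) = vSmul 2 (ln 1) then 1
  else if act s k (ln j) = ln 2 ∨ act s k (ln j) = vSmul 2 (ln 2) then 2 else 3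

theorem line_facts :
    (∀ s k, signSets 2 s = true → ∀ j, act s k (ln j) = ln (pTab s k j)) ∧
    (∀ s k, signSets 2 s = true → (∀ j, pTab s k j = j) → s = 0 ∧ k = 0) ∧
    (∀ σ : Equiv.Perm (Fin 4), ∃ s k, signSets 2 s = true ∧ ∀ j, pTab s k j = σ j) ∧
    (∀ i j : Fin 4, ln i = ln j → i = j) ∧
    (∀ c : Fin 27, ∃ i j l : Fin 3, c = vAdd (vSmul i.val (ln 0)) (vAdd (vSmul j.val (ln 1)) (vSmul l.val (ln 2)))) ∧
    (∀ j, ∃ s, signSets 2 s = true ∧ act s 0 one1 = ln j) ∧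
    (∀ s k, signSets 2 s = true → act s k one1 ≠ vSmul 2 one1) ∧
    (∀ c k, (k = 3 ∨ k = 4) → lap (lperm k) c = c → c = 0 ∨ c = one1 ∨ c = vSmul 2 one1) := by
  refine ⟨?_, ?_, ?_, ?_, ?_, ?_, ?_, ?_⟩ <;> decide +kernel

theorem sl_normal_facts : ∀ x : SL23, x ≠ 1 →
    x = -1 ∨ x * x = -1 ∨ x * x * x = -1 ∨ ∃ g, (g * x * g⁻¹ * x⁻¹) * (g * x * g⁻¹ * x⁻¹) = -1 := by
  decide +kernel

namespace Setting

variable {G : Type*} [Group G] [Finite G] (S : Setting G)

theorem normalizer_P_le {g : G} (hg : g ∈ normalizer (S.F.P : Set G)) : g ∈ normalizer (S.F.J : Set G) :=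
  Frame.mem_normalizer_of_le Frame.P_isPGroup Frame.J_le_P fun _ hj =>
    (mem_normalizer_iff.1 hg _).1 (Frame.J_le_P hj)

theorem P_le_C : S.F.P ≤ S.D.C := fun y hy => S.D.mem_C.2 (by
  rw [← S.hx]; exact mem_centralizer_singleton_iff.1 (Frame.P_le_cent hy))

theorem P_le_N : S.F.P ≤ normalizer (S.F.J : Set G) := by
  rintro _ ⟨c, k, -, rfl⟩
  exact mul_mem (S.F.v_mem_normalizer c) (S.F.p_mem_normalizer k)

/-- The elements acting trivially on `R` modulo the centre. -/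
theorem nat_mem_R {a : G} (ha : a ∈ S.D.C) :
    a ∈ S.D.R ↔ ∀ x ∈ S.D.R, a * x * a⁻¹ * x⁻¹ ∈ zpowers S.D.a := by
  refine ⟨fun h x hx => S.D.R_comm a h x hx, fun h => ?_⟩
  by_contra hn
  have hk : a ∈ S.D.kerMod := ⟨ha, h⟩
  have hsub : ∀ {y : G}, y ∈ S.D.kerMod → ∀ hy : y ∈ S.D.C, S.D.π ⟨y, hy⟩ = -1 → False := by
    intro y hy hyC e
    obtain ⟨i, hi, hi2, hin⟩ := S.D.exists_i
    obtain ⟨x, hx, hxn⟩ := S.D.not_central hi hi2 hin
    have hr : y⁻¹ * i ∈ S.D.R := (S.D.ker (⟨y, hyC⟩⁻¹ * ⟨i, hi⟩)).1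
      (by rw [map_mul, map_inv, e, hin, inv_mul_cancel])
    have hiK : i ∈ S.D.kerMod := by simpa using mul_mem hy (S.D.R_le_kerMod hr)
    exact hxn (hiK.2 x hx)
  rcases sl_normal_facts (S.D.π ⟨a, ha⟩) (fun e => hn ((S.D.ker _).1 e)) with e | e | e | ⟨t, e⟩
  · exact hsub hk ha e
  · exact hsub (mul_mem hk hk) (mul_mem ha ha) ((map_mul S.D.π ⟨a, ha⟩ ⟨a, ha⟩).trans e)
  · exact hsub (mul_mem (mul_mem hk hk) hk) (mul_mem (mul_mem ha ha) ha) (by
      rw [← e, ← map_mul, ← map_mul]; rfl)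
  · obtain ⟨⟨g, hg⟩, rfl⟩ := S.D.surj t
    have hc : g * a * g⁻¹ * a⁻¹ ∈ S.D.kerMod := mul_mem (S.D.conj_kerMod hg hk) (inv_mem hk)
    refine hsub (mul_mem hc hc) (mul_mem hc.1 hc.1) ?_
    rw [← e, ← map_inv, ← map_mul, ← map_mul, ← map_inv, ← map_mul, ← map_mul]
    rfl

theorem R_center_eq : zpowers S.D.a = S.D.R ⊓ centralizer (S.D.R : Set G) :=
  le_antisymm (le_inf (zpowers_le.2 S.D.a_mem) (zpowers_le.2 (mem_centralizer_iff.2 fun y hy =>
    S.D.comm_a (S.D.R_le hy)))) fun x hx => S.D.R_center x hx.1 fun y hy => (mem_centralizer_iff.1 hx.2 y hy).symm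

/-- Without inversion the normalizer of the central subgroup is the centralizer. -/
theorem normalizer_za (hinv : ∀ g : G, g * S.D.a * g⁻¹ ≠ S.D.a⁻¹) :
    normalizer ((zpowers S.D.a : Subgroup G) : Set G) = S.D.C := by
  refine le_antisymm (fun g hg => ?_) (fun g hg => ?_)
  · rcases S.D.mem_zpowers_a ((mem_normalizer_iff.1 hg _).1 (mem_zpowers _)) with e | e | e
    · exact absurd (conj_eq_one_iff.1 e) S.D.a_ne
    · exact S.D.mem_C.2 (mul_inv_eq_iff_eq_mul.1 e)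
    · refine absurd (e.trans ?_) (hinv g)
      rw [eq_inv_iff_mul_eq_one, ← pow_two, ← pow_succ, S.D.a_cube]
  · refine Fusion.le_normalizer_of_conj_mem fun y hy => ?_
    have hc : Commute g y := by
      obtain ⟨n, rfl⟩ := hy
      exact (show Commute g S.D.a from S.D.comm_a hg).zpow_right n
    rw [hc.eq, mul_inv_cancel_right]
    exact hy

/-- A subgroup of index two cannot contain a normalizer of a Sylow subgroup. -/
theorem no_index_two {H : Subgroup G} (hH : H.index = 2) (hN : normalizer (S.F.J : Set G) ≤ H) : False := by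
  haveI : Fact (Nat.Prime 3) := ⟨Nat.prime_three⟩
  haveI : H.Normal := normal_of_index_eq_two hH
  obtain ⟨Q, hQ⟩ := Frame.exists_sylow S.F
  have hQH : (Q : Subgroup G) ≤ H := hQ ▸ S.P_le_N.trans hN
  have htop : (⊤ : Subgroup G) ≤ H := (Sylow.normalizer_sup_eq_top' Q hQH).ge.trans
    (sup_le (fun g hg => hN (S.normalizer_P_le (by rw [← hQ]; exact hg))) le_rfl)
  rw [top_le_iff.1 htop, index_top] at hH
  norm_num at hH

theorem exists_cfg (h : S.F.IsCase 2) (hinv : ∀ g : G, g * S.D.a * g⁻¹ ≠ S.D.a⁻¹) :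
    Nonempty (Cfsg.Lib.PSpAmalgam.Cfg G) := by
  classical
  haveI : Fact (Nat.Prime 3) := ⟨Nat.prime_three⟩
  set N : Subgroup G := normalizer (S.F.J : Set G) with hN
  have hact : ∀ n : N, ∃ σ : Fin 4 → Fin 4, ∀ j, (n : G) * S.F.v (ln j) * (n : G)⁻¹ = S.F.v (ln (σ j)) := fun n => by
    obtain ⟨s, k, hs, hk⟩ := h.exists_act n.2
    exact ⟨pTab s k, fun j => by rw [Frame.actsAs_act hk, line_facts.1 s k hs j]⟩
  choose σ hσ using hact
  have huni : ∀ (n : N) (τ : Fin 4 → Fin 4), (∀ j, (n : G) * S.F.v (ln j) * (n : G)⁻¹ = S.F.v (ln (τ j))) →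
      σ n = τ := fun n τ ht => funext fun j => line_facts.2.2.2.1 _ _ (S.F.vinj ((hσ n j).symm.trans (ht j)))
  have hmul : ∀ n m : N, σ (n * m) = σ n ∘ σ m := fun n m => huni _ _ fun j => by
    rw [Subgroup.coe_mul, show (n : G) * m * S.F.v (ln j) * ((n : G) * m)⁻¹ =
      (n : G) * ((m : G) * S.F.v (ln j) * (m : G)⁻¹) * (n : G)⁻¹ by group, hσ, hσ]
    rfl
  have hone : σ 1 = id := huni _ _ fun j => by simp
  let π₁ : N →* Equiv.Perm (Fin 4) := MonoidHom.mk'
    (fun n => ⟨σ n, σ n⁻¹, fun j => congrFun ((hmul n⁻¹ n).symm.trans (by rw [inv_mul_cancel, hone]) : σ n⁻¹ ∘ σ n = id) j,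
      fun j => congrFun ((hmul n n⁻¹).symm.trans (by rw [mul_inv_cancel, hone]) : σ n ∘ σ n⁻¹ = id) j⟩)
    fun n m => Equiv.ext (congrFun (hmul n m))
  have hsurj : Function.Surjective π₁ := fun τ => by
    obtain ⟨s, k, hs, hτ⟩ := line_facts.2.2.1 τ
    obtain ⟨n, hn, hk⟩ := h.exists_of_act hs k
    exact ⟨⟨n, hn⟩, Equiv.ext (congrFun (huni ⟨n, hn⟩ τ fun j => by
      rw [Frame.actsAs_act hk, line_facts.1 s k hs j, hτ]))⟩
  have hker : ∀ n : N, π₁ n = 1 ↔ (n : G) ∈ S.F.J := by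
    intro n
    constructor
    · intro e
      obtain ⟨s, k, hs, hk⟩ := h.exists_act n.2
      have hid : σ n = id := funext fun j => Equiv.ext_iff.1 e j
      obtain ⟨rfl, rfl⟩ := line_facts.2.1 s k hs fun j =>
        congrFun ((huni n (pTab s k) fun i => by rw [Frame.actsAs_act hk, line_facts.1 s k hs i]).symm.trans hid) j
      exact Frame.mem_J_of_act hk
    · intro hn
      obtain ⟨c, hc⟩ := S.F.mem_J.1 hn
      refine Equiv.ext (congrFun (huni n id fun j => ?_))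
      rw [← hc, (S.F.v_comm c (ln j)).eq, mul_inv_cancel_right]
      rfl
  refine ⟨{ A₁ := N, A₂ := S.D.C, Q₁ := S.F.J, Q₂ := S.D.R, Z := zpowers S.D.a, π₁ := π₁, π₂ := S.D.π,
            surj₁ := hsurj, surj₂ := S.D.surj, ker₁ := hker, ker₂ := S.D.ker,
            le₁ := le_normalizer, le₂ := S.D.R_le, card_Q₁ := Frame.card_J S.F, card_Q₂ := S.D.R_card,
            ab₁ := fun a ha b hb => S.D.J_comm a (S.hJ ▸ ha) b (S.hJ ▸ hb)
            exp₁ := fun a ha => Frame.J_cube S.F ha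
            faith := by rw [Frame.cent_J]; exact inf_eq_right.2 le_normalizer
            nab₂ := S.D.R_nab, Z_eq := S.R_center_eq
            card_Z := by rw [Nat.card_zpowers, S.D.ha]
            nat := fun a ha => S.nat_mem_R ha
            N₁ := rfl, N₂ := S.normalizer_za hinv
            sig := ?_, syl₁ := ?_, core := ?_
            gen := fun H hH h1 _ => S.no_index_two hH h1 }⟩
  · intro K hK hn
    refine S.D.sig K hK fun j hj => ?_
    exact mem_normalizer_iff_map_conj_eq.1 (hn (S.hJ ▸ hj))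
  · obtain ⟨Q, hQ⟩ := Frame.exists_sylow S.F
    intro hd
    refine Q.not_dvd_index (hd.trans ?_)
    rw [hQ]
    exact ((relIndex_dvd_of_le_left N (le_inf S.P_le_N S.P_le_C)).trans
      (relIndex_dvd_index_of_le S.P_le_N))
  · intro M hM h1 h2
    by_contra hne
    have h3 : 3 ∣ Nat.card M := by
      by_contra hd
      refine hne (S.D.sig M ((Nat.prime_three.coprime_iff_not_dvd).2 hd).symm fun j hj => ?_)
      exact mem_normalizer_iff_map_conj_eq.1 (h1 (Subgroup.le_normalizer (S.hJ ▸ hj)))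
    obtain ⟨y, hy3⟩ := exists_prime_orderOf_dvd_card' (G := M) 3 h3
    obtain ⟨Q, hQ⟩ := Frame.exists_sylow S.F
    -- `M` meets the Sylow subgroup in a normal subgroup, which meets the centre
    have hMC : M ≤ S.D.C := hM.trans inf_le_right
    haveI hMn : (M.subgroupOf S.D.C).Normal := (normal_subgroupOf_iff_le_normalizer hMC).2 h2
    let QC : Sylow 3 ↥S.D.C := Q.subtype (hQ ▸ S.P_le_C)
    have hy' : orderOf (⟨(y : G), hMC y.2⟩ : S.D.C) = 3 := by rw [orderOf_mk]; exact orderOf_coe y ▸ hy3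
    obtain ⟨T, hT⟩ := (IsPGroup.of_card (p := 3) (n := 1)
      (G := zpowers (⟨(y : G), hMC y.2⟩ : S.D.C)) (by rw [Nat.card_zpowers, hy', pow_one])).exists_le_sylow
    obtain ⟨c, hc⟩ := MulAction.exists_smul_eq S.D.C T QC
    have hyQ : (c : G) * (y : G) * (c : G)⁻¹ ∈ M ∧ (c : G) * (y : G) * (c : G)⁻¹ ∈ S.F.P := by
      refine ⟨(mem_normalizer_iff.1 (h2 c.2) _).1 y.2, ?_⟩
      have : c * ⟨(y : G), hMC y.2⟩ * c⁻¹ ∈ ((c • T : Sylow 3 S.D.C) : Subgroup S.D.C) := by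
        rw [Sylow.coe_subgroup_smul]; exact ⟨_, hT (mem_zpowers _), rfl⟩
      rw [hc] at this
      rw [← hQ]
      exact this
    haveI hPn : ((M ⊓ S.F.P).subgroupOf S.F.P).Normal := ⟨fun x hx g => ⟨
      (mem_normalizer_iff.1 (h2 (S.P_le_C g.2)) _).1 hx.1, S.F.P.mul_mem (S.F.P.mul_mem g.2 x.2) (S.F.P.inv_mem g.2)⟩⟩
    have hnb : (M ⊓ S.F.P).subgroupOf S.F.P ≠ ⊥ := fun e => by
      have h' : (⟨_, hyQ.2⟩ : S.F.P) ∈ (M ⊓ S.F.P).subgroupOf S.F.P := ⟨hyQ.1, hyQ.2⟩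
      rw [e, mem_bot] at h'
      have e1 : (y : G) = 1 := conj_eq_one_iff.1 (congrArg Subtype.val h')
      have e2 : orderOf (y : G) = 3 := orderOf_coe y ▸ hy3
      rw [e1, orderOf_one] at e2
      norm_num at e2
    obtain ⟨⟨z, hz⟩, hz1'⟩ := Subgroup.ne_bot_iff_exists_ne_one.1
      (Cfsg.Lib.PGroup.inf_center_ne_bot (Frame.P_isPGroup (F := S.F)) hnb)
    have hz1 : z ≠ 1 := fun e => hz1' (Subtype.ext e)
    have haM : S.F.x ∈ M := by
      have hzM : (z : G) ∈ M := hz.1.1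
      rcases Frame.center_P z.2 (fun y hy => congrArg Subtype.val (mem_center_iff.1 hz.2 ⟨y, hy⟩)) with e | e | e
      · exact absurd (Subtype.ext e) hz1
      · exact e ▸ hzM
      · exact inv_inv S.F.x ▸ inv_mem (e ▸ hzM)
    have hJM : S.F.J ≤ M := by
      rintro _ ⟨c, rfl⟩
      have hl : ∀ j, S.F.v (ln j) ∈ M := fun j => by
        obtain ⟨s, hs, e⟩ := line_facts.2.2.2.2.2.1 j
        obtain ⟨n, hn, hk⟩ := h.exists_of_act hs 0
        rw [← e, ← Frame.actsAs_act hk]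
        exact (mem_normalizer_iff.1 (h1 hn) _).1 haM
      obtain ⟨i, j, l, rfl⟩ := line_facts.2.2.2.2.1 c
      rw [S.F.vmul, S.F.vmul, S.F.v_smul i.2, S.F.v_smul j.2, S.F.v_smul l.2]
      exact mul_mem (pow_mem (hl 0) _) (mul_mem (pow_mem (hl 1) _) (pow_mem (hl 2) _))
    -- conjugates of `J` in the centralizer of the central element reach the permutations
    obtain ⟨g, hg, x, hx, hgx⟩ := S.exists_move
    obtain ⟨c, k, -, hk, e⟩ := S.mem_R_iff.1 (S.D.R_normal hg hx.2)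
    rcases hk with rfl | hk
    · exact hgx (by rw [e, S.F.p0, mul_one]; exact S.v_mem_J c)
    have hp : S.F.p k ∈ M := by
      have h' : g * x * g⁻¹ ∈ M := (mem_normalizer_iff.1 (h2 hg) _).1 (hJM (S.hJ.symm ▸ hx.1))
      rw [e] at h'
      simpa using mul_mem (inv_mem (hJM (S.F.v_mem c))) h'
    obtain ⟨n, hn, hsn⟩ := h.exists_of_act (s := 3) (by decide +kernel) 0
    have hpn : n * S.F.p k * n⁻¹ * S.D.a = S.D.a * (n * S.F.p k * n⁻¹) :=
      S.D.comm_a (hMC ((mem_normalizer_iff.1 (h1 hn) _).1 hp))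
    have hfix : act 3 0 one1 = ln 1 ∧ ∀ k, (k = 3 ∨ k = 4) → act 0 k (ln 1) ≠ ln 1 := by decide +kernel
    obtain ⟨hl, hl'⟩ := hfix
    refine hl' k hk (S.F.vinj ?_)
    rw [← Frame.actsAs_act (S.F.actsAs_p k)]
    rw [← S.a_eq] at hpn
    have e1 : n * S.F.v one1 * n⁻¹ = S.F.v (ln 1) := by rw [Frame.actsAs_act hsn, hl]
    have e2 : n⁻¹ * S.F.v one1 * n = S.F.v (ln 1) := by
      have hsq : act 3 0 (act 3 0 one1) = one1 := by decide +kernel
      calc n⁻¹ * S.F.v one1 * n = n⁻¹ * (n * (n * S.F.v one1 * n⁻¹) * n⁻¹) * n := by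
            rw [e1, ← hl, Frame.actsAs_act hsn, hsq]
        _ = n * S.F.v one1 * n⁻¹ := by group
        _ = _ := e1
    rw [← e2]
    calc S.F.p k * (n⁻¹ * S.F.v one1 * n) * (S.F.p k)⁻¹
        = n⁻¹ * ((n * S.F.p k * n⁻¹) * S.F.v one1 * (n * S.F.p k * n⁻¹)⁻¹) * n := by group
      _ = n⁻¹ * S.F.v one1 * n := by rw [hpn, mul_inv_cancel_right]

theorem recognition_two (h : S.F.IsCase 2) (hinv : ∀ g : G, g * S.D.a * g⁻¹ ≠ S.D.a⁻¹)
    (K : Type*) [Field K] [Fintype K] (hK : Fintype.card K = 3) : Nonempty (G ≃* Cfsg.PSp 2 K) := by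
  classical
  haveI : Fintype G := Fintype.ofFinite G
  exact (S.exists_cfg h hinv).some.recognition hK

end Setting

end Cfsg.Lib.PSpThree
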