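import Cfsg.Agent.Lib.PSpThree.Point
import Cfsg.Agent.Lib.Recog.TwoTimesAlt.Transfer

/-!
# No signs: a normal subgroup of index three

Without signs the digit sum is invariant under fusion, and the transfer sends the first basis vector to a
generator.
-/

set_option autoImplicit false
set_option maxHeartbeats 1600000
set_option maxRecDepth 100000
set_option linter.unusedSectionVars false
set_option linter.style.haveILetI false

namespace Cfsg.Lib.PSpThree

open Subgroup Cfsg.Lib.SymNine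

/-- The digit sum modulo three. -/
def sum3 (c : Fin 27) : ZMod 3 := ((c.val / 9 + c.val / 3 % 3 + c.val % 3 : ℕ) : ZMod 3)

theorem sum3_facts :
    (∀ c k, sum3 (lap (lperm k) c) = sum3 c) ∧ (∀ c d, sum3 (vAdd c d) = sum3 c + sum3 d) ∧
    (∀ c, sumz c = true → sum3 c = 0) ∧
    (∀ s k c, signSets 0 s = true → act s k 9 = c → sum3 c = 1) ∧ sum3 9 = 1 := by
  refine ⟨?_, ?_, ?_, ?_, ?_⟩ <;> decide +kernel

namespace Setting

variable {G : Type*} [Group G] [Finite G] (S : Setting G)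

theorem exists_index_three (h : S.F.IsCase 0) : ∃ N : Subgroup G, N.Normal ∧ N.index = 3 := by
  classical
  haveI : Fact (Nat.Prime 3) := ⟨Nat.prime_three⟩
  obtain ⟨Q, hQ⟩ := Frame.exists_sylow S.F
  have hmem : ∀ q : (Q : Subgroup G), ∃ c k, (k = 0 ∨ k = 3 ∨ k = 4) ∧ (q : G) = S.F.v c * S.F.p k :=
    fun q => (hQ ▸ q.2 : (q : G) ∈ S.F.P)
  have hval : ∀ (q : (Q : Subgroup G)) (c : Fin 27) (k : Fin 6), (q : G) = S.F.v c * S.F.p k →
      sum3 (hmem q).choose = sum3 c := fun q c k e => by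
    obtain ⟨l, -, hl⟩ := (hmem q).choose_spec
    rw [(S.F.vp_eq (hl.symm.trans e)).1]
  let φ : (Q : Subgroup G) →* Multiplicative (ZMod 3) := MonoidHom.mk'
    (fun q => Multiplicative.ofAdd (sum3 (hmem q).choose)) fun a b => by
      obtain ⟨c, k, -, hc⟩ := hmem a
      obtain ⟨d, l, -, hd⟩ := hmem b
      have hab : ((a * b : (Q : Subgroup G)) : G) =
          S.F.v (vAdd c (lap (lperm k) d)) * S.F.p (kmul k l) := by
        rw [coe_mul, hc, hd, S.F.vmul, S.F.pmul, mul_assoc, ← mul_assoc (S.F.p k), S.F.pv]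
        group
      rw [hval _ _ _ hab, hval _ _ _ hc, hval _ _ _ hd, sum3_facts.2.1, sum3_facts.1, ofAdd_add]
  have key : ∀ g : G, ∀ hg : g⁻¹ * S.F.v 9 * g ∈ (Q : Subgroup G),
      φ ⟨_, hg⟩ = Multiplicative.ofAdd (1 : ZMod 3) := by
    intro g hg
    obtain ⟨c, k, hk, e⟩ := hmem ⟨_, hg⟩
    show Multiplicative.ofAdd (sum3 (hmem ⟨_, hg⟩).choose) = _
    rw [hval _ c k e]
    congr 1
    rcases hk with rfl | hk
    · obtain ⟨s, l, hs, hl⟩ := h.conj_cases (i := 9) (j := c) (g := g⁻¹)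
        (by rw [inv_inv]; simpa [S.F.p0] using e)
      exact sum3_facts.2.2.2.1 s l c hs hl
    · exfalso
      have e' : g⁻¹ * S.F.v 9 * g = S.F.v c * S.F.p k := e
      have h3 : (g⁻¹ * S.F.v 9 * g) ^ 3 = 1 := by
        have := conj_pow (i := 3) (a := g⁻¹) (b := S.F.v 9)
        rw [inv_inv] at this
        rw [this, S.F.v_cube]; group
      have hR : g⁻¹ * S.F.v 9 * g ∈ S.D.R :=
        S.mem_R_iff.2 ⟨c, k, S.cube_sum hk (e' ▸ h3), Or.inr hk, e'⟩
      obtain ⟨u, -, d, hd, hu⟩ := S.conj_into_J hR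
      obtain ⟨s, l, hs, hl⟩ := h.conj_cases (i := 9) (j := d) (g := u * g⁻¹) (by rw [← hu]; group)
      have := sum3_facts.2.2.2.1 s l d hs hl
      rw [sum3_facts.2.2.1 d hd] at this
      exact zero_ne_one this
  have htr := Cfsg.Lib.TwoTimesAlt.transfer_const Q φ (a := Multiplicative.ofAdd (1 : ZMod 3)) (S.F.v_cube 9)
    (by rw [← ofAdd_nsmul, nsmul_one, Nat.cast_ofNat]; rfl) key
  have hne : MonoidHom.transfer φ (S.F.v 9) ≠ 1 := fun e => by
    rw [htr, ← ofAdd_nsmul, nsmul_one, ofAdd_eq_one, ZMod.natCast_eq_zero_iff] at e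
    exact Q.not_dvd_index e
  refine ⟨(MonoidHom.transfer φ).ker, inferInstance, ?_⟩
  rw [Subgroup.index_ker]
  have hle := Subgroup.card_subgroup_dvd_card (MonoidHom.transfer φ).range
  rw [Nat.card_congr Multiplicative.toAdd, Nat.card_zmod] at hle
  rcases (Nat.dvd_prime Nat.prime_three).1 hle with h1 | h1
  · refine absurd ?_ hne
    exact Subgroup.mem_bot.1 ((Subgroup.card_eq_one.1 h1) ▸ (MonoidHom.mem_range.2 ⟨_, rfl⟩))
  · exact h1

end Setting

end Cfsg.Lib.PSpThree
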