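import Cfsg.Agent.Lib.PSpThree.FullN
import Cfsg.Agent.Lib.SymNine.OuterSix
import Cfsg.Agent.S3333

/-!
# The centralizer of an axis

When it is not contained in `N(J)`, the centralizer of an axis is the product of the axis and a symmetric group of
degree six centralising the sign change of that axis.
-/

set_option autoImplicit false
set_option maxHeartbeats 1600000
set_option maxRecDepth 100000
set_option linter.unusedSectionVars false
set_option linter.style.haveILetI false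

namespace Cfsg.Lib.PSpThree

open Subgroup Cfsg.Lib.SymNine

/-- The stabiliser of the last axis, as a dihedral group. -/
def dTab : DihedralGroup 4 → Fin 8 × Fin 6
  | .r i => (![(0, 0), (4, 2), (6, 0), (2, 2)] : Fin 4 → Fin 8 × Fin 6) i
  | .sr i => (![(0, 2), (2, 0), (6, 2), (4, 0)] : Fin 4 → Fin 8 × Fin 6) i

theorem six_tab :
    (∀ x y, dTab (x * y) = (sComp (dTab x).1 (dTab x).2 (dTab y).1, kmul (dTab x).2 (dTab y).2)) ∧
    (∀ x, signSets 3 (dTab x).1 = true ∧ act (dTab x).1 (dTab x).2 1 = 1) ∧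
    (∀ x, dTab x = (0, 0) → x = 1) ∧
    (∀ s k, act s k 1 = 1 → ∃ x, dTab x = (s, k)) := by
  refine ⟨?_, ?_, ?_, ?_⟩ <;> decide +kernel

theorem six_facts :
    (∀ s k, act s k 1 = 1 → ∀ l, ∀ w ∈ mult 1, act s k l = vAdd l w → w = 0) ∧
    (∀ w ∈ mult 1, ∃ u ∈ mult 1, vAdd (act 1 0 u) w = u) ∧
    (∀ w ∈ mult 1, act 1 0 w = w → w = 0) ∧
    xType 3 1 = false ∧ act 1 0 1 = vSmul 2 1 ∧ act 1 0 9 = 9 ∧ act 1 0 3 = 3 ∧
    act 4 0 1 = 1 ∧ act 2 0 1 = 1 ∧ act 0 2 1 = 1 ∧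
    act 4 0 9 = vSmul 2 9 ∧ act 4 0 3 = 3 ∧ act 2 0 9 = 9 ∧ act 2 0 3 = vSmul 2 3 ∧ act 0 2 9 = 3 ∧
    (∀ s k, sComp 4 0 4 = 0 ∧ sComp 2 0 2 = 0 ∧ sComp 4 0 2 = sComp 2 0 4 ∧ kmul 2 2 = 0 ∧ sComp 0 2 0 = 0 ∧
      sComp 0 2 4 = sComp 2 0 0 ∧ kmul 2 0 = kmul 0 2 ∧ sComp s k 0 = s) ∧
    (∀ q : Fin 8 × Fin 6, q = (4, 0) ∨ q = (2, 0) ∨ q = (0, 2) →
      sComp 1 0 q.1 = sComp q.1 q.2 1 ∧ kmul 0 q.2 = kmul q.2 0) := by
  refine ⟨?_, ?_, ?_, ?_, ?_, ?_, ?_, ?_, ?_, ?_, ?_, ?_, ?_, ?_, ?_, ?_, ?_⟩ <;> decide +kernel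

theorem six_mult :
    (9 : Fin 27) ∉ mult 1 ∧ (3 : Fin 27) ∉ mult 1 ∧ vAdd 3 (vSmul 2 9) ∉ mult 1 ∧
      vAdd 3 (vSmul 2 (vAdd 9 9)) ∉ mult 1 ∧ vAdd 9 (vAdd 9 9) = 0 ∧ vAdd 3 (vAdd 3 3) = 0 ∧
      vAdd 9 9 = vSmul 2 9 ∧ vAdd 3 3 = vSmul 2 3 := by
  refine ⟨?_, ?_, ?_, ?_, ?_, ?_, ?_, ?_⟩ <;> decide +kernel

namespace Frame

variable {G : Type*} [Group G] [Finite G] {F : Frame G}

namespace Full

variable (D : F.Full)

/-- The product decomposition of the centralizer of an axis. -/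
structure Six (D : F.Full) where
  /-- The symmetric group. -/
  φ : Equiv.Perm (Fin 6) →* G
  inj : Function.Injective φ
  comm_c : ∀ σ, φ σ * F.v 1 = F.v 1 * φ σ
  comm_t : ∀ σ, φ σ * D.w 1 0 = D.w 1 0 * φ σ
  exists_eq : ∀ g, g * F.v 1 = F.v 1 * g → ∃ j ∈ mult 1, ∃ σ, g = F.v j * φ σ
  map_a : φ SixP.a0 = F.v 9
  map_b : φ SixP.b0 = F.v 3
  map_ea : φ (Equiv.swap 1 2) = D.w 4 0
  map_eb : φ (Equiv.swap 4 5) = D.w 2 0
  map_t : φ SixP.t0 = F.p 2

/-- The centralizer of an axis outside `N(J)` splits. -/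
theorem exists_six (hbig : ¬ ∀ g, g * F.v 1 = F.v 1 * g → g ∈ normalizer (F.J : Set G)) : Nonempty D.Six := by
  classical
  haveI : Fact (Nat.Prime 3) := ⟨Nat.prime_three⟩
  obtain ⟨f1, f2, f3, hi, f5, f6, f7, f8, f9, f10, f11, f12, f13, f14, f15, f16, f17⟩ := six_facts
  obtain ⟨m9, m3, m39, m399, c9, c3, d9, d3⟩ := six_mult
  have h := D.isCase
  have hi0 : (1 : Fin 27) ≠ 0 := by decide
  set hWJ := zpowers_v_le (F := F) (1 : Fin 27) with hWJdef
  obtain ⟨X, hXS, hXN, hXc⟩ := h.exists_quot hWJ hi0 hi (mem_zpowers _)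
  rw [card_zpowers_v hi0] at hXc
  have hC := h.centralizer_quot hWJ hi0 hi (mem_zpowers _) hXS hXN
  have hcard : Nat.card (X.S : Subgroup (CQ (zpowers (F.v 1)))) = 9 := by omega
  have hcent : ∀ q ∈ (X.S : Subgroup (CQ (zpowers (F.v 1)))), q ≠ 1 →
      centralizer ({q} : Set _) ≤ normalizer ((X.S : Subgroup (CQ (zpowers (F.v 1)))) : Set _) := by
    intro q hq hq1 y hy
    obtain ⟨l, rfl⟩ := (hXS q).1 hq
    have hl : l ∉ mult 1 := fun hm => hq1 ((img_eq_one hWJ).2 (mem_zpowers_v.2 ⟨l, hm, rfl⟩))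
    obtain ⟨c, rfl⟩ := QuotientGroup.mk'_surjective _ y
    refine (hXN c).2 ?_
    have hc := mem_centralizer_singleton_iff.1 hy
    rw [img, ← map_mul, ← map_mul, QuotientGroup.mk'_apply, QuotientGroup.mk'_apply, eq_comm, QuotientGroup.eq,
      mem_subgroupOf] at hc
    simp only [Subgroup.coe_mul, InvMemClass.coe_inv] at hc
    obtain ⟨w, hw, hwe⟩ := mem_zpowers_v.1 hc
    have hcw : (c : G) * F.v w = F.v w * (c : G) :=
      (mem_centralizer_iff.1 c.2 _ (mem_zpowers_v (F := F).2 ⟨w, hw, rfl⟩)).symm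
    have h1 : (c : G) * F.v l * (c : G)⁻¹ = F.v (vAdd l w) := by
      rw [F.vmul]
      calc (c : G) * F.v l * (c : G)⁻¹
          = F.v l * ((c : G) * ((F.v l * (c : G))⁻¹ * ((c : G) * F.v l)) * (c : G)⁻¹) := by group
        _ = F.v l * F.v w := by rw [hwe, hcw, mul_inv_cancel_right]
    obtain ⟨n, hn, hnW, hnl⟩ := exists_normalizer_conj (F := F) (W := {F.v 1})
      (by simp [F.v_mem 1]) (g := (c : G)) (by simpa using comm_v_of_mem c) h1
    obtain ⟨s, k, hst, hsk⟩ := h.exists_stab hn (hnW _ rfl)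
    obtain rfl := f1 s k hst.2 l w hw (F.vinj ((actsAs_act hsk l).symm.trans hnl))
    rw [(code_facts.1 l).1] at h1
    exact h.cent_pair hi0 hi hl (comm_v_of_mem c) (mul_inv_eq_iff_eq_mul.1 h1)
  -- the lifts of the dihedral group
  have hwc : ∀ {s : Fin 8} {k : Fin 6}, act s k 1 = 1 → D.w s k * F.v 1 = F.v 1 * D.w s k := fun {s k} e => by
    have h1 := actsAs_act (D.w_spec s k).2.1 1
    rw [e] at h1
    exact mul_inv_eq_iff_eq_mul.1 h1
  let cw : ∀ x : DihedralGroup 4, centralizer ((zpowers (F.v 1) : Subgroup G) : Set G) := fun x =>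
    ⟨D.w (dTab x).1 (dTab x).2, mem_cent_zpowers (hwc (six_tab.2.1 x).2)⟩
  let ψ : DihedralGroup 4 →* ↥(normalizer ((X.S : Subgroup (CQ (zpowers (F.v 1)))) : Set _)) ⧸
      (X.S : Subgroup (CQ (zpowers (F.v 1)))).subgroupOf (normalizer _) :=
    MonoidHom.mk' (fun x => QuotientGroup.mk' _ ⟨QuotientGroup.mk' _ (cw x), (hXN _).2 (D.w_spec _ _).1⟩)
      fun x y => by
        refine Eq.trans (congrArg _ (Subtype.ext ?_)) (map_mul _ _ _)
        show QuotientGroup.mk' _ (cw (x * y)) = QuotientGroup.mk' _ (cw x) * QuotientGroup.mk' _ (cw y)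
        rw [← map_mul]
        refine congrArg _ (Subtype.ext ?_)
        show D.w (dTab (x * y)).1 (dTab (x * y)).2 = D.w (dTab x).1 (dTab x).2 * D.w (dTab y).1 (dTab y).2
        rw [D.w_mul, six_tab.1 x y]
  have hψinj : Function.Injective ψ := (injective_iff_map_eq_one _).2 fun x hx => by
    have h1 : QuotientGroup.mk' _ (cw x) ∈ (X.S : Subgroup (CQ (zpowers (F.v 1)))) :=
      mem_subgroupOf.1 ((QuotientGroup.eq_one_iff _).1 hx)
    obtain ⟨a, ha⟩ := (hXS _).1 h1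
    rw [img, QuotientGroup.mk'_apply, QuotientGroup.mk'_apply, QuotientGroup.eq, mem_subgroupOf] at ha
    obtain ⟨w, hw, hwe⟩ := mem_zpowers_v.1 ha
    have h2 : D.w (dTab x).1 (dTab x).2 = F.v (vAdd a (vSmul 2 w)) := by
      rw [F.vmul, ← F.v_inv, ← hwe]
      simp only [Subgroup.coe_mul, InvMemClass.coe_inv]
      show D.w (dTab x).1 (dTab x).2 = F.v a * ((D.w (dTab x).1 (dTab x).2)⁻¹ * F.v a)⁻¹
      rw [mul_inv_rev, inv_inv, mul_inv_cancel_left]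
    have h3 := F.actsAs_v (vAdd a (vSmul 2 w))
    rw [← h2] at h3
    obtain ⟨e1, e2⟩ := F.actsAs_unique (D.w_spec _ _).2.1 h3
    exact six_tab.2.2.1 x (Prod.ext e1 e2)
  have hψsurj : Function.Surjective ψ := fun q => by
    obtain ⟨⟨y, hy⟩, rfl⟩ := QuotientGroup.mk'_surjective _ q
    obtain ⟨c, rfl⟩ := QuotientGroup.mk'_surjective _ y
    obtain ⟨i, s, k, e, hsk⟩ := D.exists_eq ((hXN c).1 hy)
    have h1 : act s k 1 = 1 := F.vinj (by
      rw [← actsAs_act hsk, comm_v_of_mem c, mul_inv_cancel_right])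
    obtain ⟨x, hx⟩ := six_tab.2.2.2 s k h1
    refine ⟨x, ?_⟩
    show QuotientGroup.mk' _ _ = QuotientGroup.mk' _ _
    refine QuotientGroup.eq.2 (mem_subgroupOf.2 ?_)
    show (QuotientGroup.mk' _ (cw x))⁻¹ * QuotientGroup.mk' _ c ∈ _
    rw [← map_inv, ← map_mul]
    refine (hXS _).2 ⟨(F.idx ((D.w s k)⁻¹ * (c : G))), ?_⟩
    rw [img]
    refine congrArg _ (Subtype.ext ?_)
    show (D.w (dTab x).1 (dTab x).2)⁻¹ * (c : G) = F.v (F.idx ((D.w s k)⁻¹ * (c : G)))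
    rw [hx, F.v_idx (inv_mul_mem_J (D.w_spec s k).2.1 hsk)]
  rcases Cfsg.Agent.S3333.result X.S (X.S : Subgroup _) rfl hcard hC
    (MulEquiv.ofBijective ψ ⟨hψinj, hψsurj⟩).symm hcent with hnor | ⟨⟨e⟩⟩
  · exfalso
    refine hbig fun g hg => (hXN ⟨g, mem_cent_zpowers hg⟩).1 ?_
    haveI := hnor
    rw [normalizer_eq_top]
    exact mem_top _
  -- standard form
  set C := centralizer ((zpowers (F.v 1) : Subgroup G) : Set G) with hCdef
  let π := QuotientGroup.mk' ((zpowers (F.v 1)).subgroupOf C)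
  have hw2 : D.w 0 2 = F.p 2 := D.w_p 2
  let cA : C := ⟨F.v 9, J_le_centralizer hWJ (F.v_mem 9)⟩
  let cB : C := ⟨F.v 3, J_le_centralizer hWJ (F.v_mem 3)⟩
  let cEA : C := ⟨D.w 4 0, mem_cent_zpowers (hwc f8)⟩
  let cEB : C := ⟨D.w 2 0, mem_cent_zpowers (hwc f9)⟩
  let cT : C := ⟨D.w 0 2, mem_cent_zpowers (hwc f10)⟩
  have hconj : ∀ {s : Fin 8} {k : Fin 6} {i j : Fin 27}, act s k i = j → D.w s k * F.v i = F.v j * D.w s k :=
    fun {s k i j} e => mul_inv_eq_iff_eq_mul.1 (by rw [actsAs_act (D.w_spec s k).2.1, e])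
  have hne : ∀ {a b : Fin 27}, vAdd a (vSmul 2 b) ∉ mult 1 → img hWJ a ≠ img hWJ b := fun {a b} hab e => by
    have h1 : img hWJ (vAdd a (vSmul 2 b)) = 1 := by rw [img_add, img_neg, e, mul_inv_cancel]
    obtain ⟨w, hw, hwe⟩ := mem_zpowers_v.1 ((img_eq_one hWJ).1 h1)
    exact hab (F.vinj hwe ▸ hw)
  have hne1 : ∀ {a : Fin 27}, a ∉ mult 1 → img hWJ a ≠ 1 := fun {a} ha e => by
    obtain ⟨w, hw, hwe⟩ := mem_zpowers_v.1 ((img_eq_one hWJ).1 e)
    exact ha (F.vinj hwe ▸ hw)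
  obtain ⟨g1, g2, g3, g4, g5, g6, g7, g8⟩ := f16 0 0
  have hz : D.w 0 0 = 1 := D.w_one
  have hrel : SixP.Rel (π cA) (π cB) (π cEA) (π cEB) (π cT) := by
    constructor
    · rw [← map_mul, ← map_mul, show cA * cA * cA = 1 from Subtype.ext (by
        show F.v 9 * F.v 9 * F.v 9 = 1
        rw [← F.vmul, ← F.vmul, d9, show vAdd (vSmul 2 9) 9 = 0 by decide +kernel, F.v0]), map_one]
    · exact hne1 m9
    · rw [← map_mul, ← map_mul, show cB * cB * cB = 1 from Subtype.ext (by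
        show F.v 3 * F.v 3 * F.v 3 = 1
        rw [← F.vmul, ← F.vmul, d3, show vAdd (vSmul 2 3) 3 = 0 by decide +kernel, F.v0]), map_one]
    · rw [← map_mul, ← map_mul]
      exact congrArg π (Subtype.ext (F.v_comm 9 3).eq)
    · exact hne1 m3
    · exact hne m39
    · rw [← map_mul]
      refine fun e' => hne m399 (e'.trans (congrArg π (Subtype.ext ?_)))
      exact (F.vmul 9 9).symm
    all_goals rw [← map_mul]
    any_goals rw [← map_mul]
    any_goals rw [← map_mul]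
    any_goals rw [← map_one π]
    all_goals refine congrArg π (Subtype.ext ?_)
    · show D.w 4 0 * D.w 4 0 = 1
      rw [D.w_mul, g1, show kmul 0 0 = 0 by decide +kernel, hz]
    · show D.w 4 0 * F.v 9 = F.v 9 * F.v 9 * D.w 4 0
      rw [hconj f11, ← F.vmul, d9]
    · show D.w 4 0 * F.v 3 = F.v 3 * D.w 4 0
      exact hconj f12
    · show D.w 2 0 * D.w 2 0 = 1
      rw [D.w_mul, g2, show kmul 0 0 = 0 by decide +kernel, hz]
    · show D.w 2 0 * F.v 9 = F.v 9 * D.w 2 0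
      exact hconj f13
    · show D.w 2 0 * F.v 3 = F.v 3 * F.v 3 * D.w 2 0
      rw [hconj f14, ← F.vmul, d3]
    · show D.w 4 0 * D.w 2 0 = D.w 2 0 * D.w 4 0
      rw [D.w_mul, D.w_mul, g3]
    · show D.w 0 2 * D.w 0 2 = 1
      rw [D.w_mul, g4, g5, hz]
    · show D.w 0 2 * F.v 9 = F.v 3 * D.w 0 2
      exact hconj f15
    · show D.w 0 2 * D.w 4 0 = D.w 2 0 * D.w 0 2
      rw [D.w_mul, D.w_mul, g6, g7]
  obtain ⟨θ, ta, tb, tea, teb, tt⟩ := SixP.exists_std (hrel.map e)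
  let e' := e.trans θ
  -- the sign change acts trivially
  set t := D.w 1 0 with htdef
  have hta : F.ActsAs t 1 0 := (D.w_spec 1 0).2.1
  have htt : t * t = 1 := D.w_sq (by decide +kernel) (by decide +kernel)
  have htinv : t⁻¹ = t := inv_eq_of_mul_eq_one_right htt
  have htc : ∀ c ∈ C, t * c * t⁻¹ ∈ C := fun c hc => by
    refine mem_cent_zpowers ?_
    have h1 : t * F.v 1 * t⁻¹ = (F.v 1)⁻¹ := by rw [actsAs_act hta, f5, F.v_inv]
    have h2 : t * c * t⁻¹ * (F.v 1)⁻¹ = (F.v 1)⁻¹ * (t * c * t⁻¹) := by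
      rw [← h1, conj_mul, conj_mul, ← (comm_v_of_mem ⟨c, hc⟩)]
    exact Commute.inv_right_iff.1 h2
  let tC : C →* C := MonoidHom.mk' (fun c => ⟨t * c * t⁻¹, htc c c.2⟩) fun a b => Subtype.ext (by
    show t * ((a : G) * b) * t⁻¹ = t * a * t⁻¹ * (t * b * t⁻¹)
    group)
  let tQ : CQ (zpowers (F.v 1)) →* CQ (zpowers (F.v 1)) := QuotientGroup.map _ _ tC fun c hc => by
    rw [mem_subgroupOf] at hc
    rw [mem_comap, mem_subgroupOf]
    obtain ⟨w, hw, hwe⟩ := mem_zpowers_v.1 hc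
    show t * (c : G) * t⁻¹ ∈ zpowers (F.v 1)
    rw [hwe, actsAs_act hta]
    exact mem_zpowers_v.2 ⟨_, by
      have key : ∀ w ∈ mult 1, act 1 0 w ∈ mult 1 := by decide +kernel
      exact key w hw, rfl⟩
  have htQ : ∀ q, tQ q = q := by
    let f : Equiv.Perm (Fin 6) →* Equiv.Perm (Fin 6) := (e'.toMonoidHom.comp tQ).comp e'.symm.toMonoidHom
    have hfix : ∀ {c : C} {σ : Equiv.Perm (Fin 6)}, e' (π c) = σ → t * (c : G) * t⁻¹ = c → f σ = σ := by
      intro c σ hc htc'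
      show e' (tQ (e'.symm σ)) = σ
      rw [← hc, e'.symm_apply_apply]
      exact congrArg e' (congrArg π (Subtype.ext htc'))
    have hfw : ∀ q : Fin 8 × Fin 6, q = (4, 0) ∨ q = (2, 0) ∨ q = (0, 2) →
        t * D.w q.1 q.2 * t⁻¹ = D.w q.1 q.2 := fun q hq => by
      rw [mul_inv_eq_iff_eq_mul, htdef, D.w_mul, D.w_mul, (f17 q hq).1, (f17 q hq).2]
    intro q
    have h1 := SixP.hom_eq_id f (hfix (c := cA) ta (by rw [show (cA : G) = F.v 9 from rfl, actsAs_act hta, f6]))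
      (hfix (c := cB) tb (by rw [show (cB : G) = F.v 3 from rfl, actsAs_act hta, f7]))
      (hfix (c := cEA) tea (hfw (4, 0) (by simp))) (hfix (c := cEB) teb (hfw (2, 0) (by simp))) (e' q)
    have h2 : e' (tQ q) = e' q := by
      rw [← h1]
      show e' (tQ q) = e' (tQ (e'.symm (e' q)))
      rw [e'.symm_apply_apply]
    exact e'.injective h2
  -- the complement
  let K : Subgroup G := centralizer ({F.v 1} : Set G) ⊓ centralizer ({t} : Set G)
  have hKC : K ≤ C := fun g hg => mem_cent_zpowers (mem_centralizer_singleton_iff.1 hg.1)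
  let ρ : K →* CQ (zpowers (F.v 1)) := π.comp (inclusion hKC)
  have hρinj : Function.Injective ρ := (injective_iff_map_eq_one _).2 fun g hg => by
    have h1 := (QuotientGroup.eq_one_iff _).1 hg
    rw [mem_subgroupOf] at h1
    obtain ⟨w, hw, hwe⟩ := mem_zpowers_v.1 h1
    have hwe' : (g : G) = F.v w := hwe
    have h2 := mem_centralizer_singleton_iff.1 g.2.2
    rw [hwe'] at h2
    exact Subtype.ext (by rw [hwe', f3 w hw ((comm_v_iff hta w).1 h2), F.v0]; rfl)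
  have hsplit : ∀ c : C, ∃ u ∈ mult 1, F.v u * (c : G) ∈ K := fun c => by
    have h1 := htQ (π c)
    have h1' : π (tC c) = π c := h1
    rw [QuotientGroup.mk'_apply, QuotientGroup.mk'_apply, eq_comm, QuotientGroup.eq, mem_subgroupOf] at h1'
    obtain ⟨w, hw, hwe⟩ := mem_zpowers_v.1 h1'
    have hwe' : (c : G)⁻¹ * (t * (c : G) * t⁻¹) = F.v w := hwe
    obtain ⟨u, hu, huw⟩ := f2 w hw
    refine ⟨u, hu, mem_inf.2 ⟨mem_centralizer_singleton_iff.2 ?_, mem_centralizer_singleton_iff.2 ?_⟩⟩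
    · exact ((F.v_comm u 1).mul_left (show Commute (c : G) (F.v 1) from comm_v_of_mem c)).eq
    · refine (mul_inv_eq_iff_eq_mul.1 ?_).symm
      have hcw : (c : G) * F.v w = F.v w * (c : G) :=
        (mem_centralizer_iff.1 c.2 _ (mem_zpowers_v (F := F).2 ⟨w, hw, rfl⟩)).symm
      calc t * (F.v u * (c : G)) * t⁻¹ = t * F.v u * t⁻¹ * ((c : G) * ((c : G)⁻¹ * (t * (c : G) * t⁻¹))) := by group
        _ = F.v (act 1 0 u) * (F.v w * (c : G)) := by rw [actsAs_act hta, hwe', hcw]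
        _ = F.v u * (c : G) := by rw [← mul_assoc, ← F.vmul, huw]
  have hπv : ∀ {u : Fin 27} (c : C) (hu : u ∈ mult 1) (hk : F.v u * (c : G) ∈ K),
      ρ ⟨_, hk⟩ = π c := fun {u} c hu hk => by
    have e1 : inclusion hKC ⟨_, hk⟩ = ⟨F.v u, J_le_centralizer hWJ (F.v_mem u)⟩ * c := Subtype.ext rfl
    have e2 : π ⟨F.v u, J_le_centralizer hWJ (F.v_mem u)⟩ = 1 :=
      (QuotientGroup.eq_one_iff _).2 (mem_subgroupOf.2 (mem_zpowers_v.2 ⟨u, hu, rfl⟩))
    show π (inclusion hKC ⟨_, hk⟩) = π c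
    rw [e1, map_mul, e2, one_mul]
  have hρsurj : Function.Surjective ρ := fun q => by
    obtain ⟨c, rfl⟩ := QuotientGroup.mk'_surjective _ q
    obtain ⟨u, hu, hk⟩ := hsplit c
    exact ⟨_, hπv c hu hk⟩
  let ε : K ≃* Equiv.Perm (Fin 6) := (MulEquiv.ofBijective ρ ⟨hρinj, hρsurj⟩).trans e'
  have hval : ∀ {c : C} {σ : Equiv.Perm (Fin 6)}, e' (π c) = σ → ∀ hk : (c : G) ∈ K,
      (ε.symm σ : G) = c := by
    intro c σ hc hk
    have h1 : ε ⟨c, hk⟩ = σ := by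
      rw [← hc]
      rfl
    rw [← h1, ε.symm_apply_apply]
  have hvK : ∀ {a : Fin 27}, act 1 0 a = a → F.v a ∈ K := fun {a} ha =>
    mem_inf.2 ⟨mem_centralizer_singleton_iff.2 (F.v_comm a 1).eq,
      mem_centralizer_singleton_iff.2 ((comm_v_iff hta a).2 ha)⟩
  have hwK : ∀ {q : Fin 8 × Fin 6}, q = (4, 0) ∨ q = (2, 0) ∨ q = (0, 2) → act q.1 q.2 1 = 1 →
      D.w q.1 q.2 ∈ K := fun {q} hq h1 =>
    mem_inf.2 ⟨mem_centralizer_singleton_iff.2 (hwc h1), mem_centralizer_singleton_iff.2 (by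
      rw [htdef, D.w_mul, D.w_mul, (f17 q hq).1, (f17 q hq).2])⟩
  refine ⟨{
    φ := K.subtype.comp ε.symm.toMonoidHom
    inj := K.subtype_injective.comp ε.symm.injective
    comm_c := fun σ => mem_centralizer_singleton_iff.1 (ε.symm σ).2.1
    comm_t := fun σ => mem_centralizer_singleton_iff.1 (ε.symm σ).2.2
    exists_eq := fun g hg => ?_
    map_a := hval ta (hvK f6)
    map_b := hval tb (hvK f7)
    map_ea := hval tea (hwK (q := (4, 0)) (by simp) f8)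
    map_eb := hval teb (hwK (q := (2, 0)) (by simp) f9)
    map_t := by
      show (ε.symm SixP.t0 : G) = F.p 2
      rw [← hw2]
      exact hval tt (hwK (q := (0, 2)) (by simp) f10) }⟩
  obtain ⟨u, hu, hk⟩ := hsplit ⟨g, mem_cent_zpowers hg⟩
  refine ⟨vSmul 2 u, by
    have key : ∀ u ∈ mult 1, vSmul 2 u ∈ mult 1 := by decide +kernel
    exact key u hu, ε ⟨_, hk⟩, ?_⟩
  show g = F.v (vSmul 2 u) * (ε.symm (ε ⟨_, hk⟩) : G)
  rw [ε.symm_apply_apply, ← F.v_inv, inv_mul_cancel_left]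

end Full

end Frame

end Cfsg.Lib.PSpThree
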