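import Cfsg.Agent.Lib.PSpThree.Dispatch
import Cfsg.Agent.Lib.PSpThree.SixN

/-!
# Classes of involutions

The sign change of one coordinate and the swap commute, with every element of order three commuting with them, with
a second one; the other three classes in the normalizer of `J` do not.
-/

set_option autoImplicit false
set_option maxHeartbeats 1600000
set_option maxRecDepth 100000
set_option linter.unusedSectionVars false
set_option linter.style.haveILetI false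
set_option synthInstance.maxSize 5000

namespace Cfsg.Lib.PSpThree

open Subgroup Cfsg.Lib.SymNine

/-- The number of nonzero digits. -/
def wt (c : Fin 27) : ℕ :=
  (if c.val / 9 = 0 then 0 else 1) + (if c.val / 3 % 3 = 0 then 0 else 1) + (if c.val % 3 = 0 then 0 else 1)

/-- A combination of two codes. -/
def comb (b b' : Fin 27) (i j : Fin 3) : Fin 27 := vAdd (vSmul i.val b) (vSmul j.val b')

theorem wt_act : ∀ s k c, wt (act s k c) = wt c := by decide +kernel

/-- A plane of fixed codes determined by the weights. -/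
structure EPair (s : Fin 8) (k : Fin 6) (b b' : Fin 27) : Prop where
  fix : act s k b = b
  fix' : act s k b' = b'
  span : ∀ c, act s k c = c → ∃ i j, c = comb b b' i j
  b_ne : b ≠ 0
  xt : xType 3 b = false
  nmem : b' ∉ mult b
  swap : ∀ i j i' j', (∀ m n, wt (comb (comb b b' i j) (comb b b' i' j') m n) = wt (comb b b' m n)) →
    (comb (comb b b' i j) (comb b b' i' j') i j = b ∨ comb (comb b b' i j) (comb b b' i' j') i j = vSmul 2 b) ∧
      (comb (comb b b' i j) (comb b b' i' j') i' j' = b' ∨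
        comb (comb b b' i j) (comb b b' i' j') i' j' = vSmul 2 b')
  stab : ∀ s' k', act s' k' b = b → act s' k' b' = b' → sComp s' k' s' = 0 ∧ kmul k' k' = 0
  other : ∀ c, c ≠ 0 → b ∉ mult c ∨ b' ∉ mult c

theorem epair_t : EPair 1 0 9 3 := by constructor <;> decide +kernel

theorem epair_i : EPair 0 2 1 13 := by constructor <;> decide +kernel

theorem class_facts :
    (∀ c, act 1 0 c = c → wt c ≤ 2) ∧ wt one1 = 3 ∧
    (∀ c, act 6 0 c = c → c ∈ mult 1) ∧ (∀ c, act 1 2 c = c → c ∈ mult 12) ∧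
    act 6 0 1 = 1 ∧ act 1 2 12 = 12 ∧ heavy 12 ∧ xType 3 12 = false ∧ xType 3 1 = false ∧
    (∀ c, sumz c = true → c ≠ 0 → c ≠ one1 → c ≠ vSmul 2 one1 → heavy c ∧ xType 3 c = false) ∧
    (∀ s k c, sumz c = true → c ≠ 0 → c ≠ one1 → c ≠ vSmul 2 one1 → act s k c = c →
      act s k one1 = vSmul 2 one1 → ∀ d, act s k d = d → d ∈ mult c) ∧
    (∀ s k, ((act s k 1 = 1 ∧ act s k (act 6 0 9) = act 6 0 (act s k 9)) ∨ act s k 12 = 12) →
      (∀ e, (act s k)^[3] e = e) → s = 0 ∧ k = 0) ∧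
    (∀ s k c, sumz c = true → c ≠ 0 → c ≠ one1 → c ≠ vSmul 2 one1 → act s k c = c →
      (∀ e, (act s k)^[3] e = e) → s = 0 ∧ k = 0) ∧
    act 7 0 one1 = vSmul 2 one1 ∧ kmul 2 2 = 0 ∧ sComp 4 0 2 = 6 ∧ kmul 0 0 = 0 ∧ act 0 2 one1 = one1 := by
  refine ⟨?_, ?_, ?_, ?_, ?_, ?_, ?_, ?_, ?_, ?_, ?_, ?_, ?_, ?_, ?_, ?_, ?_, ?_⟩ <;> decide +kernel

theorem six_cube_comm : ∀ σ : Equiv.Perm (Fin 6), σ * σ * σ = 1 →
    σ * (Equiv.swap 1 2 * Equiv.swap 4 5) = (Equiv.swap 1 2 * Equiv.swap 4 5) * σ → σ = 1 := by decide +kernel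

/-- Odd powers: an element is a power of each of its powers by a power of two. -/
theorem commute_of_pow_four {G : Type*} [Group G] {y v : G} (ho : Odd (orderOf y)) (h : Commute (y ^ 4) v) :
    Commute y v := by
  obtain ⟨n, hn⟩ := ho
  have e : (y ^ 4) ^ ((n + 1) * (n + 1)) = y := by
    rw [← pow_mul, show 4 * ((n + 1) * (n + 1)) = orderOf y * (orderOf y + 2) + 1 by rw [hn]; ring, pow_succ,
      pow_mul, pow_orderOf_eq_one, one_pow, one_mul]
  exact e ▸ h.pow_left _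

theorem mem_of_sq_mem {G : Type*} [Group G] {H : Subgroup G} {y : G} (ho : Odd (orderOf y)) (h : y * y ∈ H) :
    y ∈ H := by
  obtain ⟨n, hn⟩ := ho
  have e : (y * y) ^ (n + 1) = y := by
    rw [← pow_two, ← pow_mul, show 2 * (n + 1) = orderOf y + 1 by omega, pow_succ, pow_orderOf_eq_one, one_mul]
  exact e ▸ pow_mem h _

/-- An involution centralised, with each element of order three commuting with it, by a second one. -/
def Doubled {G : Type*} [Group G] (τ : G) : Prop :=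
  ∀ d : G, d ^ 3 = 1 → d ≠ 1 → d * τ = τ * d →
    ∃ y : G, y ^ 3 = 1 ∧ y * d = d * y ∧ y * τ = τ * y ∧ y ∉ zpowers d

/-- An involution with an element of order three commuting with it and with no second one. -/
def Single {G : Type*} [Group G] (τ : G) : Prop :=
  ∃ d : G, d ^ 3 = 1 ∧ d ≠ 1 ∧ d * τ = τ * d ∧
    ∀ y : G, y ^ 3 = 1 → y * d = d * y → y * τ = τ * y → y ∈ zpowers d

theorem Doubled.ne_conj {G : Type*} [Group G] {τ u : G} (h : Doubled τ) (h' : Single u) (g : G) :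
    g * τ * g⁻¹ ≠ u := by
  intro e
  obtain ⟨d, hd3, hd1, hdu, huni⟩ := h'
  set d' := g⁻¹ * d * g
  have hconj : ∀ x y : G, g * x * g⁻¹ * (g * y * g⁻¹) = g * (x * y) * g⁻¹ := fun x y => by group
  obtain ⟨y, hy3, hyd, hyτ, hynot⟩ := h d' (by
    have := conj_pow (i := 3) (a := g⁻¹) (b := d)
    rw [inv_inv] at this
    rw [this, hd3]; group) (fun e' => hd1 (by
      calc d = g * d' * g⁻¹ := by simp only [d']; group
        _ = 1 := by rw [e']; group)) (by
    calc d' * τ = g⁻¹ * (d * (g * τ * g⁻¹)) * g := by simp only [d']; group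
      _ = g⁻¹ * ((g * τ * g⁻¹) * d) * g := by rw [e, hdu]
      _ = τ * d' := by simp only [d']; group)
  have hd' : d = g * d' * g⁻¹ := by simp only [d']; group
  obtain ⟨n, hn⟩ := huni (g * y * g⁻¹) (by rw [conj_pow, hy3]; group)
    (by rw [hd', hconj, hconj, hyd]) (by rw [← e, hconj, hconj, hyτ])
  refine hynot ⟨n, ?_⟩
  show d' ^ n = y
  have hn' : d ^ n = g * y * g⁻¹ := hn
  rw [hd', conj_zpow] at hn'
  exact mul_left_cancel (mul_right_cancel hn')

namespace Frame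

variable {G : Type*} [Group G] [Finite G] {F : Frame G}

theorem wt_conj (h : F.IsCase 3) {g : G} {c d : Fin 27} (hg : g * F.v c * g⁻¹ = F.v d) : wt c = wt d := by
  obtain ⟨s, k, -, hk⟩ := h.conj_cases hg
  rw [← hk, wt_act]

theorem conj_comb {g : G} {b b' c c' : Fin 27} (h : g * F.v b * g⁻¹ = F.v c) (h' : g * F.v b' * g⁻¹ = F.v c')
    (i j : Fin 3) : g * F.v (comb b b' i j) * g⁻¹ = F.v (comb c c' i j) := by
  rw [comb, comb, F.vmul, F.vmul, F.v_smul i.2, F.v_smul j.2, F.v_smul i.2, F.v_smul j.2, ← h, ← h', conj_pow,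
    conj_pow]
  group

namespace Full

variable (D : F.Full)

theorem comm_w {s : Fin 8} {k : Fin 6} {c : Fin 27} :
    F.v c * D.w s k = D.w s k * F.v c ↔ act s k c = c := comm_v_iff (D.w_spec s k).2.1 c

/-- Elements of order three commuting with the involution are conjugate into its plane. -/
theorem cube_fused {s : Fin 8} {k : Fin 6} {b b' : Fin 27} (hE : EPair s k b b') {y : G} (hy3 : y ^ 3 = 1)
    (hy : y * D.w s k = D.w s k * y) :
    ∃ g c, g * D.w s k = D.w s k * g ∧ act s k c = c ∧ g * y * g⁻¹ = F.v c := by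
  classical
  haveI : Fact (Nat.Prime 3) := ⟨Nat.prime_three⟩
  set τ := D.w s k with hτ
  set X := centralizer ({τ} : Set G) with hX
  set E : Subgroup X := F.J.subgroupOf X with hEdef
  have hEp : IsPGroup 3 E := fun z => ⟨1, Subtype.ext (Subtype.ext (by simpa using F.J_cube z.2))⟩
  obtain ⟨P, hP⟩ := hEp.exists_le_sylow
  have hbX : F.v b ∈ X := mem_centralizer_singleton_iff.2 (D.comm_w.2 hE.fix)
  have hbX' : F.v b' ∈ X := mem_centralizer_singleton_iff.2 (D.comm_w.2 hE.fix')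
  have hPE : (P : Subgroup X) = E := by
    by_contra hne
    haveI : Group.IsNilpotent (P : Subgroup X) := P.isPGroup'.isNilpotent
    have hlt : E.subgroupOf (P : Subgroup X) < ⊤ := by
      rw [lt_top_iff_ne_top, Ne, subgroupOf_eq_top]
      exact fun h' => hne (le_antisymm h' hP)
    obtain ⟨u, hu, huE⟩ := SetLike.exists_of_lt (Group.normalizerCondition_of_isNilpotent _ hlt)
    rw [mem_subgroupOf] at huE
    set g : G := ((u : X) : G) with hg
    have hgX : g * τ = τ * g := mem_centralizer_singleton_iff.1 (u : X).2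
    have hconj : ∀ c, act s k c = c → ∃ d, act s k d = d ∧ g * F.v c * g⁻¹ = F.v d := by
      intro c hc
      have hcX : F.v c ∈ X := mem_centralizer_singleton_iff.2 (D.comm_w.2 hc)
      have h1 := (mem_normalizer_iff.1 hu ⟨⟨_, hcX⟩, hP (F.v_mem c)⟩).1 (F.v_mem c)
      obtain ⟨d, hd⟩ := F.mem_J.1 (show g * F.v c * g⁻¹ ∈ F.J from h1)
      refine ⟨d, D.comm_w.1 ?_, hd.symm⟩
      rw [hd]
      exact ((show Commute g τ from hgX).mul_left (show Commute (F.v c) τ from D.comm_w.2 hc)).mul_left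
        (show Commute g τ from hgX).inv_left
    obtain ⟨c, hc, hgb⟩ := hconj b hE.fix
    obtain ⟨c', hc', hgb'⟩ := hconj b' hE.fix'
    obtain ⟨i, j, rfl⟩ := hE.span c hc
    obtain ⟨i', j', rfl⟩ := hE.span c' hc'
    obtain ⟨h1, h2⟩ := hE.swap i j i' j' fun m n => (wt_conj D.isCase (conj_comb hgb hgb' m n)).symm
    have hg2 : ∀ {x x' : Fin 27}, g * g * F.v x * (g * g)⁻¹ = F.v x' → (x' = x ∨ x' = vSmul 2 x) →
        Commute (g ^ 4) (F.v x) := by
      intro x x' hx hx'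
      have h4 : g ^ 4 * F.v x * (g ^ 4)⁻¹ = F.v x := by
        rw [show g ^ 4 = g * g * (g * g) by rw [pow_succ, pow_succ, pow_succ, pow_one, mul_assoc (g * g)],
          show g * g * (g * g) * F.v x * (g * g * (g * g))⁻¹ = g * g * (g * g * F.v x * (g * g)⁻¹) * (g * g)⁻¹ by group, hx]
        rcases hx' with e | e <;> rw [e] at hx ⊢
        · exact hx
        · rw [← F.v_inv, ← conj_inv, hx,
            ← F.v_inv, inv_inv]
      exact mul_inv_eq_iff_eq_mul.1 h4
    have hsqb : g * g * F.v b * (g * g)⁻¹ = F.v (comb (comb b b' i j) (comb b b' i' j') i j) := by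
      rw [← conj_comb hgb hgb' i j, ← hgb]; group
    have hsqb' : g * g * F.v b' * (g * g)⁻¹ = F.v (comb (comb b b' i j) (comb b b' i' j') i' j') := by
      rw [← conj_comb hgb hgb' i' j', ← hgb']; group
    obtain ⟨m, hm⟩ := P.isPGroup' u
    have hm' : g ^ 3 ^ m = 1 := congrArg (fun z : (P : Subgroup X) => ((z : X) : G)) hm
    have hodd : Odd (orderOf g) := (Odd.pow (by decide : Odd 3)).of_dvd_nat (orderOf_dvd_of_pow_eq_one hm')
    have hcb := commute_of_pow_four hodd (hg2 hsqb h1)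
    have hcb' := commute_of_pow_four hodd (hg2 hsqb' h2)
    have hN := D.isCase.cent_pair hE.b_ne hE.xt hE.nmem hcb.eq hcb'.eq
    obtain ⟨s', k', -, hk'⟩ := D.isCase.exists_act hN
    have hfb : act s' k' b = b := F.vinj (by rw [← actsAs_act hk', hcb.eq, mul_inv_cancel_right])
    have hfb' : act s' k' b' = b' := F.vinj (by rw [← actsAs_act hk', hcb'.eq, mul_inv_cancel_right])
    obtain ⟨e1, e2⟩ := hE.stab s' k' hfb hfb'
    have hJ2 : g * g ∈ F.J := mem_J_of_act (by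
      have := hk'.comp hk'
      rwa [e1, e2] at this)
    exact huE (mem_subgroupOf.2 (mem_of_sq_mem hodd hJ2))
  have hyX : y ∈ X := mem_centralizer_singleton_iff.2 hy
  have hp : IsPGroup 3 (zpowers (⟨y, hyX⟩ : X)) := by
    obtain ⟨m, -, hm⟩ := (Nat.dvd_prime_pow Nat.prime_three).1
      (orderOf_dvd_of_pow_eq_one (show (⟨y, hyX⟩ : X) ^ 3 ^ 1 = 1 from Subtype.ext (by simpa using hy3)))
    exact IsPGroup.of_card (n := m) (by rw [Nat.card_zpowers, hm])
  obtain ⟨T, hT⟩ := hp.exists_le_sylow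
  obtain ⟨g, hg⟩ := MulAction.exists_smul_eq X T P
  have hin : g * ⟨y, hyX⟩ * g⁻¹ ∈ ((g • T : Sylow 3 X) : Subgroup X) := by
    rw [Sylow.coe_subgroup_smul]; exact ⟨_, hT (mem_zpowers _), rfl⟩
  rw [hg, hPE, hEdef, mem_subgroupOf] at hin
  obtain ⟨c, hc⟩ := F.mem_J.1 hin
  refine ⟨g, c, mem_centralizer_singleton_iff.1 g.2, D.comm_w.1 ?_, hc.symm⟩
  rw [hc]
  exact mem_centralizer_singleton_iff.1 (g * ⟨y, hyX⟩ * g⁻¹).2

theorem doubled {s : Fin 8} {k : Fin 6} {b b' : Fin 27} (hE : EPair s k b b') : Doubled (D.w s k) := by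
  intro d hd3 hd1 hd
  obtain ⟨g, c, hg, -, hgd⟩ := D.cube_fused hE hd3 hd
  have hc0 : c ≠ 0 := fun e => hd1 (conj_eq_one_iff.1 (hgd.trans (by rw [e, F.v0])))
  obtain ⟨e, hefix, he⟩ : ∃ e, act s k e = e ∧ e ∉ mult c := by
    rcases hE.other c hc0 with h | h
    exacts [⟨b, hE.fix, h⟩, ⟨b', hE.fix', h⟩]
  have hd' : d = g⁻¹ * F.v c * g := by rw [← hgd]; group
  refine ⟨g⁻¹ * F.v e * g, ?_, ?_, ?_, ?_⟩
  · have := conj_pow (i := 3) (a := g⁻¹) (b := F.v e)
    rw [inv_inv] at this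
    rw [this, F.v_cube]; group
  · rw [hd', show g⁻¹ * F.v e * g * (g⁻¹ * F.v c * g) = g⁻¹ * (F.v e * F.v c) * g by group, (F.v_comm e c).eq]
    group
  · exact ((show Commute g (D.w s k) from hg).inv_left.mul_left
      (show Commute (F.v e) (D.w s k) from D.comm_w.2 hefix)).mul_left (show Commute g (D.w s k) from hg)
  · rintro ⟨n, hn⟩
    have hmem : F.v e ∈ zpowers (F.v c) := by
      refine ⟨n, ?_⟩
      show F.v c ^ n = F.v e
      have hn' : d ^ n = g⁻¹ * F.v e * g := hn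
      calc F.v c ^ n = (g * d * g⁻¹) ^ n := by rw [hgd]
        _ = g * d ^ n * g⁻¹ := conj_zpow
        _ = F.v e := by rw [hn']; group
    obtain ⟨w, hw, e'⟩ := mem_zpowers_v.1 hmem
    exact he (F.vinj e' ▸ hw)

/-- The element of order three is in the plane of the involution: criterion through the normalizer of `J`. -/
theorem single_aux {u : G} {s : Fin 8} {k : Fin 6} {c : Fin 27} (hu : F.ActsAs u s k) (hc : act s k c = c)
    (hc0 : c ≠ 0) (hfix : ∀ d, act s k d = d → d ∈ mult c)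
    (hcube : ∀ y : G, y ^ 3 = 1 → y * F.v c = F.v c * y → y * u = u * y → y ∈ F.J) :
    Single u := by
  refine ⟨F.v c, F.v_cube c, fun e => hc0 (F.v_eq_one.1 e), (comm_v_iff hu c).2 hc, fun y hy hyc hyu => ?_⟩
  obtain ⟨d, hd⟩ := F.mem_J.1 (hcube y hy hyc hyu)
  rw [← hd] at hyu ⊢
  exact mem_zpowers_v.2 ⟨d, hfix d ((comm_v_iff hu d).1 hyu), rfl⟩

theorem act_cube {y : G} {s : Fin 8} {k : Fin 6} (hy : y ^ 3 = 1) (h : F.ActsAs y s k) :
    ∀ e, (act s k)^[3] e = e := fun e => F.vinj (by rw [← ActsAs.pow h 3 e, hy]; group)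

theorem single_zp : Single (D.w 1 2) := by
  obtain ⟨-, -, -, f4, -, f6, f7, f8, -, -, -, f12, -, -, -, -, -, -⟩ := class_facts
  refine single_aux (D.w_spec 1 2).2.1 f6 (by decide) f4 fun y hy hyc _ => ?_
  obtain ⟨s, k, -, hk⟩ := D.isCase.exists_act (D.isCase.cent_le_of_small (by decide) f8 (Or.inr f7) hyc)
  obtain ⟨rfl, rfl⟩ := f12 s k (Or.inr (F.vinj (by rw [← actsAs_act hk, hyc, mul_inv_cancel_right])))
    (act_cube hy hk)
  exact mem_J_of_act hk

theorem single_z : Single (D.w 6 0) := by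
  obtain ⟨-, -, f3, -, f5, -, -, -, f9, -, -, f12, -, -, -, g16, g17, -⟩ := class_facts
  refine single_aux (D.w_spec 6 0).2.1 f5 (by decide) f3 fun y hy hyc hyu => ?_
  by_cases hsmall : ∀ g, g * F.v 1 = F.v 1 * g → g ∈ normalizer (F.J : Set G)
  · obtain ⟨s, k, -, hk⟩ := D.isCase.exists_act (hsmall y hyc)
    have h1 : act s k 1 = 1 := F.vinj (by rw [← actsAs_act hk, hyc, mul_inv_cancel_right])
    have hcm : act s k (act 6 0 9) = act 6 0 (act s k 9) := F.vinj (by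
      rw [← actsAs_act hk, ← actsAs_act (D.w_spec 6 0).2.1, ← actsAs_act (D.w_spec 6 0).2.1, ← actsAs_act hk]
      calc y * (D.w 6 0 * F.v 9 * (D.w 6 0)⁻¹) * y⁻¹
          = (y * D.w 6 0) * F.v 9 * (y * D.w 6 0)⁻¹ := by group
        _ = (D.w 6 0 * y) * F.v 9 * (D.w 6 0 * y)⁻¹ := by rw [hyu]
        _ = D.w 6 0 * (y * F.v 9 * y⁻¹) * (D.w 6 0)⁻¹ := by group)
    obtain ⟨rfl, rfl⟩ := f12 s k (Or.inl ⟨h1, hcm⟩) (act_cube hy hk)
    exact mem_J_of_act hk
  · obtain ⟨S⟩ := D.exists_six hsmall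
    obtain ⟨j, hj, σ, rfl⟩ := S.exists_eq y hyc
    have hj1 : F.v j ∈ zpowers (F.v 1) := mem_zpowers_v.2 ⟨j, hj, rfl⟩
    have hjσ : Commute (F.v j) (S.φ σ) := by
      obtain ⟨n, hn⟩ := hj1
      rw [← hn]
      exact ((show Commute (S.φ σ) (F.v 1) from S.comm_c σ).zpow_right n).symm
    have hσ3 : σ * σ * σ = 1 := S.inj (by
      rw [map_one, map_mul, map_mul, ← pow_two, ← pow_succ]
      rw [hjσ.mul_pow, F.v_cube, one_mul] at hy
      exact hy)
    have hz : S.φ (Equiv.swap 1 2 * Equiv.swap 4 5) = D.w 6 0 := by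
      rw [map_mul, S.map_ea, S.map_eb, D.w_mul, g16, g17]
    have hju : Commute (F.v j) (D.w 6 0) := by
      obtain ⟨n, hn⟩ := hj1
      rw [← hn]
      exact (show Commute (F.v 1) (D.w 6 0) from D.comm_w.2 f5).zpow_left n
    have hσ : σ = 1 := six_cube_comm σ hσ3 (S.inj (by
      rw [map_mul, map_mul S.φ _ σ, hz]
      have := hju.inv_left.mul_left (show Commute (F.v j * S.φ σ) (D.w 6 0) from hyu)
      rw [inv_mul_cancel_left] at this
      exact this.eq))
    rw [hσ, map_one, mul_one]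
    exact F.v_mem j

theorem t_not_i (g : G) : g * D.w 1 0 * g⁻¹ ≠ D.w 0 2 := by
  intro e
  obtain ⟨f1, f2, -, -, -, -, -, -, -, -, -, -, -, -, -, -, -, f18⟩ := class_facts
  have hd : (g⁻¹ * F.v one1 * g) * D.w 1 0 = D.w 1 0 * (g⁻¹ * F.v one1 * g) := by
    have h := D.comm_w.2 f18
    calc g⁻¹ * F.v one1 * g * D.w 1 0 = g⁻¹ * (F.v one1 * (g * D.w 1 0 * g⁻¹)) * g := by group
      _ = g⁻¹ * ((g * D.w 1 0 * g⁻¹) * F.v one1) * g := by rw [e, h]
      _ = _ := by group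
  obtain ⟨u, c, -, hc, hu⟩ := D.cube_fused epair_t (by
    have := conj_pow (i := 3) (a := g⁻¹) (b := F.v one1)
    rw [inv_inv] at this
    rw [this, F.v_cube]; group) hd
  have := wt_conj D.isCase (g := u * g⁻¹) (c := one1) (d := c) (by rw [← hu]; group)
  have := f1 c hc
  omega

end Full

end Frame

namespace Setting

variable {G : Type*} [Group G] [Finite G] (S : Setting G) (D : S.F.Full)

theorem single_inv : Single (D.w 7 0) := by
  obtain ⟨-, -, -, -, -, -, -, -, -, f10, f11, -, f13, f14, -, -, -, -⟩ := class_facts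
  have hp : S.F.p 3 ∈ S.D.R := S.p_three_mem_R.1
  obtain ⟨h, hh, c, hcs, hc⟩ := S.conj_into_J hp
  have hc0 : c ≠ 0 := fun e => S.p_ne (by decide) (conj_eq_one_iff.1 (hc.trans (by rw [e, S.F.v0])))
  have hnz : ∀ j : ℤ, S.F.p 3 ≠ S.D.a ^ j := fun j e => by
    have h1 : S.F.p 3 ∈ S.F.J := e ▸ S.hJ.symm ▸ zpow_mem S.D.a_mem_J j
    obtain ⟨d, hd⟩ := S.F.mem_J.1 h1
    exact absurd (S.F.vp_eq (i := d) (j := 0) (k := 0) (l := 3) (by rw [S.F.p0, mul_one, hd, S.F.v0, one_mul])).2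
      (by decide)
  have hz : ∀ j : ℤ, S.F.v c ≠ S.D.a ^ j := fun j e => hnz j (by
    have hha : h * S.D.a ^ j * h⁻¹ = S.D.a ^ j := by
      rw [((show Commute h S.D.a from S.D.comm_a hh).zpow_right j).eq, mul_inv_cancel_right]
    exact mul_left_cancel (mul_right_cancel ((hc.trans e).trans hha.symm)))
  have hc1 : c ≠ one1 := fun e => hz 1 (by rw [e, S.a_eq, zpow_one])
  have hc2 : c ≠ vSmul 2 one1 := fun e => hz (-1) (by rw [e, ← S.F.v_inv, S.a_eq, zpow_neg_one])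
  obtain ⟨hhv, hxt⟩ := f10 c hcs hc0 hc1 hc2
  set u := h * D.w 7 0 * h⁻¹ with hu
  have hcomm : S.F.v c * u = u * S.F.v c := by
    rw [← hc, hu, show h * S.F.p 3 * h⁻¹ * (h * D.w 7 0 * h⁻¹) = h * (S.F.p 3 * D.w 7 0) * h⁻¹ by group, D.w_inv,
      D.inv_p 3]
    group
  have hNle : ∀ g, g * S.F.v c = S.F.v c * g → g ∈ normalizer (S.F.J : Set G) :=
    fun g hg => D.isCase.cent_le_of_small hc0 hxt (Or.inr hhv) hg
  obtain ⟨s, k, -, hk⟩ := D.isCase.exists_act (hNle u hcomm.symm)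
  have hsc : act s k c = c := (Frame.comm_v_iff hk c).1 hcomm
  have hsa : act s k one1 = vSmul 2 one1 := S.F.vinj (by
    rw [← Frame.actsAs_act hk, hu]
    have h1 : h⁻¹ * S.F.v one1 * h = S.F.v one1 := by
      rw [S.a_eq, mul_assoc, ← S.D.comm_a hh, inv_mul_cancel_left]
    have h2 : h * S.F.v (vSmul 2 one1) * h⁻¹ = S.F.v (vSmul 2 one1) := by
      rw [← S.F.v_inv, S.a_eq, show h * S.D.a⁻¹ * h⁻¹ = (h * S.D.a * h⁻¹)⁻¹ by group,
        mul_inv_eq_iff_eq_mul.2 (S.D.comm_a hh)]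
    rw [show h * D.w 7 0 * h⁻¹ * S.F.v one1 * (h * D.w 7 0 * h⁻¹)⁻¹ =
      h * (D.w 7 0 * (h⁻¹ * S.F.v one1 * h) * (D.w 7 0)⁻¹) * h⁻¹ by group, h1,
      Frame.actsAs_act (D.w_spec 7 0).2.1, f14, h2])
  obtain ⟨d, hd3, hd1, hdu, huni⟩ := Frame.Full.single_aux hk hsc hc0 (f11 s k c hcs hc0 hc1 hc2 hsc hsa)
    fun y hy hyc _ => by
      obtain ⟨s', k', -, hk'⟩ := D.isCase.exists_act (hNle y hyc)
      obtain ⟨rfl, rfl⟩ := f13 s' k' c hcs hc0 hc1 hc2
        (S.F.vinj (by rw [← Frame.actsAs_act hk', hyc, mul_inv_cancel_right])) (Frame.Full.act_cube hy hk')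
      exact Frame.mem_J_of_act hk'
  have hconj : ∀ x y : G, h * x * h⁻¹ * (h * y * h⁻¹) = h * (x * y) * h⁻¹ := fun x y => by group
  refine ⟨h⁻¹ * d * h, ?_, fun e => hd1 ?_, ?_, fun y hy hyd hyw => ?_⟩
  · have := conj_pow (i := 3) (a := h⁻¹) (b := d)
    rw [inv_inv] at this
    rw [this, hd3]; group
  · calc d = h * (h⁻¹ * d * h) * h⁻¹ := by group
      _ = 1 := by rw [e]; group
  · calc h⁻¹ * d * h * D.w 7 0 = h⁻¹ * (d * u) * h := by rw [hu]; group
      _ = h⁻¹ * (u * d) * h := by rw [hdu]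
      _ = D.w 7 0 * (h⁻¹ * d * h) := by rw [hu]; group
  · obtain ⟨n, hn⟩ := huni (h * y * h⁻¹) (by rw [conj_pow, hy]; group)
      (by rw [show d = h * (h⁻¹ * d * h) * h⁻¹ by group, hconj, hconj, hyd]) (by rw [hu, hconj, hconj, hyw])
    refine ⟨n, ?_⟩
    show (h⁻¹ * d * h) ^ n = y
    have hn' : d ^ n = h * y * h⁻¹ := hn
    have h3 := conj_zpow (i := n) (a := h⁻¹) (b := d)
    rw [inv_inv] at h3
    rw [h3, hn']
    group

theorem doubled_t : Doubled (D.w 1 0) := D.doubled epair_t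

theorem doubled_i : Doubled (D.w 0 2) := D.doubled epair_i

theorem t_not_z (g : G) : g * D.w 1 0 * g⁻¹ ≠ D.w 6 0 := (S.doubled_t D).ne_conj D.single_z g

theorem t_not_zp (g : G) : g * D.w 1 0 * g⁻¹ ≠ D.w 1 2 := (S.doubled_t D).ne_conj D.single_zp g

theorem t_not_inv (g : G) : g * D.w 1 0 * g⁻¹ ≠ D.w 7 0 := (S.doubled_t D).ne_conj (S.single_inv D) g

theorem i_not_z (g : G) : g * D.w 0 2 * g⁻¹ ≠ D.w 6 0 := (S.doubled_i D).ne_conj D.single_z g

theorem i_not_zp (g : G) : g * D.w 0 2 * g⁻¹ ≠ D.w 1 2 := (S.doubled_i D).ne_conj D.single_zp g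

theorem i_not_inv (g : G) : g * D.w 0 2 * g⁻¹ ≠ D.w 7 0 := (S.doubled_i D).ne_conj (S.single_inv D) g

end Setting

end Cfsg.Lib.PSpThree
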