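import Cfsg.Agent.Lib.PSpThree.Classes

/-!
# A split axis centralizer: the two classes with a single element of order three

Elements of order three centralising the product of two sign changes are conjugate to multiples of the fixed axis,
whereas the other involution centralises one of weight two.
-/

set_option autoImplicit false
set_option maxHeartbeats 1600000
set_option maxRecDepth 100000
set_option linter.unusedSectionVars false
set_option linter.style.haveILetI false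

namespace Cfsg.Lib.PSpThree

open Subgroup Cfsg.Lib.SymNine

theorem zclass_facts : act 6 0 1 = 1 ∧ sComp 4 0 2 = 6 ∧ kmul 0 0 = 0 ∧ act 1 2 12 = 12 ∧ wt 12 = 2 ∧
    (∀ c ∈ mult 1, c ≠ 0 → wt c = 1) := by
  refine ⟨?_, ?_, ?_, ?_, ?_, ?_⟩ <;> decide +kernel

namespace Frame.Full

variable {G : Type*} [Group G] [Finite G] {F : Frame G} {D : F.Full}

theorem Six.z_eq (K : D.Six) : K.φ (Equiv.swap 1 2 * Equiv.swap 4 5) = D.w 6 0 := by
  rw [map_mul, K.map_ea, K.map_eb, D.w_mul, zclass_facts.2.1, zclass_facts.2.2.1]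

theorem Six.cube_z (K : D.Six) {y : G} (hy3 : y ^ 3 = 1) (hy1 : y * F.v 1 = F.v 1 * y)
    (hyz : y * D.w 6 0 = D.w 6 0 * y) : ∃ c ∈ mult 1, y = F.v c := by
  obtain ⟨j, hj, σ, rfl⟩ := K.exists_eq y hy1
  have hj1 : F.v j ∈ zpowers (F.v 1) := mem_zpowers_v.2 ⟨j, hj, rfl⟩
  obtain ⟨n, hn⟩ := hj1
  have hjσ : Commute (F.v j) (K.φ σ) := by
    rw [← hn]; exact ((show Commute (K.φ σ) (F.v 1) from K.comm_c σ).zpow_right n).symm
  have hσ3 : σ * σ * σ = 1 := K.inj (by
    rw [map_one, map_mul, map_mul, ← pow_two, ← pow_succ]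
    rw [hjσ.mul_pow, F.v_cube, one_mul] at hy3
    exact hy3)
  have hju : Commute (F.v j) (D.w 6 0) := by
    rw [← hn]; exact (show Commute (F.v 1) (D.w 6 0) from D.comm_w.2 zclass_facts.1).zpow_left n
  refine ⟨j, hj, ?_⟩
  rw [six_cube_comm σ hσ3 (K.inj (by
    rw [map_mul, map_mul K.φ _ σ, K.z_eq]
    have := hju.inv_left.mul_left (show Commute (F.v j * K.φ σ) (D.w 6 0) from hyz)
    rw [inv_mul_cancel_left] at this
    exact this.eq)), map_one, mul_one]

/-- Elements of order three in the centralizer of the product of two sign changes. -/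
theorem Six.cube_z_fused (K : D.Six) {y : G} (hy3 : y ^ 3 = 1) (hyz : y * D.w 6 0 = D.w 6 0 * y) :
    ∃ g, ∃ c ∈ mult 1, g * y * g⁻¹ = F.v c := by
  haveI : Fact (Nat.Prime 3) := ⟨Nat.prime_three⟩
  set X := centralizer ({D.w 6 0} : Set G)
  have hvX : F.v 1 ∈ X := mem_centralizer_singleton_iff.2 (D.comm_w.2 zclass_facts.1)
  have hp : IsPGroup 3 (zpowers (⟨F.v 1, hvX⟩ : X)) := by
    obtain ⟨m, -, hm⟩ := (Nat.dvd_prime_pow Nat.prime_three).1
      (orderOf_dvd_of_pow_eq_one (show (⟨F.v 1, hvX⟩ : X) ^ 3 ^ 1 = 1 from Subtype.ext (by simpa using F.v_cube 1)))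
    exact IsPGroup.of_card (n := m) (by rw [Nat.card_zpowers, hm])
  obtain ⟨P, hP⟩ := hp.exists_le_sylow
  haveI : Nontrivial (P : Subgroup X) := by
    refine ⟨⟨⟨_, hP (mem_zpowers _)⟩, 1, fun e => ?_⟩⟩
    exact absurd (F.v_eq_one.1 (congrArg (fun z : (P : Subgroup X) => ((z : X) : G)) e)) (by decide)
  haveI hnt := P.isPGroup'.center_nontrivial
  obtain ⟨⟨c, hc⟩, hc3⟩ := exists_prime_orderOf_dvd_card' (G := center (P : Subgroup X)) 3 (by
    obtain ⟨m, hm⟩ := (P.isPGroup'.to_subgroup (center (P : Subgroup X))).exists_card_eq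
    rw [hm]
    refine dvd_pow_self 3 fun e => ?_
    rw [e, pow_zero] at hm
    exact absurd hm Finite.one_lt_card.ne')
  rw [Subgroup.orderOf_mk] at hc3
  set c' : G := ((c : X) : G) with hc'
  have hcz : c' * D.w 6 0 = D.w 6 0 * c' := mem_centralizer_singleton_iff.1 (c : X).2
  have hcv : c' * F.v 1 = F.v 1 * c' :=
    congrArg (fun q : (P : Subgroup X) => ((q : X) : G)) (mem_center_iff.1 hc ⟨⟨_, hvX⟩, hP (mem_zpowers _)⟩).symm
  have hc'3 : c' ^ 3 = 1 := by
    have := congrArg (fun q : (P : Subgroup X) => ((q : X) : G)) (pow_orderOf_eq_one c)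
    simpa [hc3] using this
  obtain ⟨j, hj, hjc⟩ := K.cube_z hc'3 hcv hcz
  have hj0 : j ≠ 0 := fun e => by
    rw [e, F.v0] at hjc
    have h1 : c = 1 := Subtype.ext (Subtype.ext hjc)
    rw [h1, orderOf_one] at hc3
    exact absurd hc3 (by norm_num)
  have hgen : F.v 1 ∈ zpowers c' := by
    rw [hjc]
    refine mem_zpowers_v.2 ⟨1, ?_, rfl⟩
    have key : ∀ j ∈ mult 1, j ≠ 0 → (1 : Fin 27) ∈ mult j := by decide +kernel
    exact key j hj hj0
  have hyX : y ∈ X := mem_centralizer_singleton_iff.2 hyz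
  have hyp : IsPGroup 3 (zpowers (⟨y, hyX⟩ : X)) := by
    obtain ⟨m, -, hm⟩ := (Nat.dvd_prime_pow Nat.prime_three).1
      (orderOf_dvd_of_pow_eq_one (show (⟨y, hyX⟩ : X) ^ 3 ^ 1 = 1 from Subtype.ext (by simpa using hy3)))
    exact IsPGroup.of_card (n := m) (by rw [Nat.card_zpowers, hm])
  obtain ⟨T, hT⟩ := hyp.exists_le_sylow
  obtain ⟨g, hg⟩ := MulAction.exists_smul_eq X T P
  have hin : g * ⟨y, hyX⟩ * g⁻¹ ∈ (P : Subgroup X) := by
    rw [← hg, Sylow.coe_subgroup_smul]; exact ⟨_, hT (mem_zpowers _), rfl⟩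
  set y' : G := ((g * ⟨y, hyX⟩ * g⁻¹ : X) : G) with hy'
  have hy'c : Commute y' c' :=
    congrArg (fun q : (P : Subgroup X) => ((q : X) : G)) (mem_center_iff.1 hc ⟨_, hin⟩)
  obtain ⟨n, hn⟩ := hgen
  have hy'v : y' * F.v 1 = F.v 1 * y' := by rw [← hn]; exact (hy'c.zpow_right n).eq
  have hy'3 : y' ^ 3 = 1 := by
    show ((g : G) * y * (g : G)⁻¹) ^ 3 = 1
    rw [conj_pow, hy3]; group
  obtain ⟨d, hd, hyd⟩ := K.cube_z hy'3 hy'v (mem_centralizer_singleton_iff.1 (g * ⟨y, hyX⟩ * g⁻¹).2)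
  exact ⟨g, d, hd, hyd⟩

/-- The product of two sign changes is not conjugate to the product of a sign change and the swap. -/
theorem Six.z_not_zp (K : D.Six) (h : F.IsCase 3) (g : G) : g * D.w 6 0 * g⁻¹ ≠ D.w 1 2 := by
  intro e
  obtain ⟨-, -, -, f4, f5, f6⟩ := zclass_facts
  have hd := D.comm_w.2 f4
  have hy : g⁻¹ * F.v 12 * g * D.w 6 0 = D.w 6 0 * (g⁻¹ * F.v 12 * g) := by
    calc g⁻¹ * F.v 12 * g * D.w 6 0 = g⁻¹ * (F.v 12 * (g * D.w 6 0 * g⁻¹)) * g := by group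
      _ = g⁻¹ * ((g * D.w 6 0 * g⁻¹) * F.v 12) * g := by rw [e, hd]
      _ = _ := by group
  obtain ⟨u, c, hc, hu⟩ := K.cube_z_fused (by
    have := conj_pow (i := 3) (a := g⁻¹) (b := F.v 12)
    rw [inv_inv] at this
    rw [this, F.v_cube]; group) hy
  have := wt_conj h (g := u * g⁻¹) (c := 12) (d := c) (by rw [← hu]; group)
  by_cases hc0 : c = 0
  · rw [hc0, f5] at this
    exact absurd this (by decide +kernel)
  · rw [f5, f6 c hc hc0] at this
    exact absurd this (by decide)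

end Frame.Full

end Cfsg.Lib.PSpThree
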