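import Cfsg.Agent.Lib.PSpThree.Setup
import Cfsg.Agent.Lib.SymNine.Basic

/-!
# Coordinates for `J`

An element fixed by the involution and its two images under an element of `R` are a basis of `J` with product `a`.
Inside the normalizer of `J` this is a frame with the coordinate permutations as stabiliser of `a`.
-/

set_option autoImplicit false
set_option linter.unusedSectionVars false
set_option linter.style.haveILetI false
set_option maxRecDepth 100000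

namespace Cfsg.Lib.PSpThree

open Subgroup
open Cfsg.Lib.SymNine (vAdd vSmul lap lperm kmul one1)

theorem sl_square_comm : ∀ x : SL23, x * x * x = 1 → x ≠ 1 →
    ∃ g : SL23, (g * x * g⁻¹ * x⁻¹) * (g * x * g⁻¹ * x⁻¹) = -1 := by decide +kernel

theorem sl_cube_neg : ∀ x : SL23, x * x * x = 1 →
    (-1 : SL23) * (-1 : SL23) * (-1) = -1 ∧ (-x) * (-x) * (-x) = -1 ∧ (-(x * x)) * (-(x * x)) * (-(x * x)) = -1 := by
  decide +kernel

namespace Data

variable {G : Type*} [Group G] [Finite G] (D : Data G)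

/-- The elements acting trivially on `R` modulo the centre. -/
def kerMod : Subgroup G where
  carrier := {g | g ∈ D.C ∧ ∀ x ∈ D.R, g * x * g⁻¹ * x⁻¹ ∈ zpowers D.a}
  one_mem' := ⟨one_mem _, fun x _ => by simp⟩
  mul_mem' := fun {g h} hg hh => by
    refine ⟨mul_mem hg.1 hh.1, fun x hx => ?_⟩
    rw [show g * h * x * (g * h)⁻¹ * x⁻¹ = (g * (h * x * h⁻¹) * g⁻¹ * (h * x * h⁻¹)⁻¹) * (h * x * h⁻¹ * x⁻¹) by group]
    exact mul_mem (hg.2 _ (D.R_normal hh.1 hx)) (hh.2 x hx)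
  inv_mem' := fun {g} hg => by
    refine ⟨inv_mem hg.1, fun x hx => ?_⟩
    have h := hg.2 _ (D.R_normal (inv_mem hg.1) hx)
    rw [show g⁻¹ * x * g⁻¹⁻¹ * x⁻¹ =
      (g * (g⁻¹ * x * g⁻¹⁻¹) * g⁻¹ * (g⁻¹ * x * g⁻¹⁻¹)⁻¹)⁻¹ by group]
    exact inv_mem h

theorem conj_kerMod {g k : G} (hg : g ∈ D.C) (hk : k ∈ D.kerMod) : g * k * g⁻¹ ∈ D.kerMod := by
  refine ⟨mul_mem (mul_mem hg hk.1) (inv_mem hg), fun x hx => ?_⟩
  have h := hk.2 _ (D.R_normal (inv_mem hg) hx)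
  rw [show g * k * g⁻¹ * x * (g * k * g⁻¹)⁻¹ * x⁻¹ =
    g * (k * (g⁻¹ * x * g⁻¹⁻¹) * k⁻¹ * (g⁻¹ * x * g⁻¹⁻¹)⁻¹) * g⁻¹ by group]
  obtain ⟨n, hn⟩ := h
  refine ⟨n, ?_⟩
  show D.a ^ n = _
  rw [← hn, ((show Commute g D.a from D.comm_a hg).zpow_right n).eq, mul_inv_cancel_right]

theorem R_le_kerMod : D.R ≤ D.kerMod := fun r hr => ⟨D.R_le hr, fun x hx => D.R_comm r hr x hx⟩

/-- An element of order three outside `R` moves `R` modulo the centre. -/
theorem notMem_kerMod {g : G} (hg : g ∈ D.C) (h3 : g ^ 3 = 1) (hgR : g ∉ D.R) : g ∉ D.kerMod := by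
  intro hk
  obtain ⟨i, hi, hi2, hin⟩ := D.exists_i
  have hx : D.π ⟨g, hg⟩ * D.π ⟨g, hg⟩ * D.π ⟨g, hg⟩ = 1 := by
    rw [← map_mul, ← map_mul, show (⟨g, hg⟩ * ⟨g, hg⟩ * ⟨g, hg⟩ : D.C) = 1 from
      Subtype.ext (show g * g * g = 1 by rw [← pow_two, ← pow_succ]; exact h3), map_one]
  obtain ⟨t, ht⟩ := sl_square_comm _ hx fun e => hgR ((D.ker _).1 e)
  obtain ⟨c, hc⟩ := D.surj t
  set w := (c : G) * g * (c : G)⁻¹ * g⁻¹ with hw
  have hwk : w ∈ D.kerMod := mul_mem (D.conj_kerMod c.2 hk) (inv_mem hk)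
  have hr : (w * w)⁻¹ * i ∈ D.R := by
    have h1 : D.π ((c * ⟨g, hg⟩ * c⁻¹ * ⟨g, hg⟩⁻¹ * (c * ⟨g, hg⟩ * c⁻¹ * ⟨g, hg⟩⁻¹))⁻¹ * ⟨i, hi⟩) = 1 := by
      simp only [map_mul, map_inv, hc, hin]
      rw [ht, inv_mul_cancel]
    simpa [hw] using (D.ker _).1 h1
  obtain ⟨x, hxR, hxn⟩ := D.not_central hi hi2 hin
  exact hxn ((show i ∈ D.kerMod by
    have := mul_mem (mul_mem hwk hwk) (D.R_le_kerMod hr)
    rwa [mul_inv_cancel_left] at this).2 x hxR)

theorem three_sub_card {S : Subgroup G} (hle : S ≤ D.R) :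
    Nat.card S = 1 ∨ Nat.card S = 3 ∨ Nat.card S = 9 ∨ Nat.card S = 27 := by
  have h1 : Nat.card S ∣ 27 := D.R_card ▸ card_dvd_of_le hle
  obtain ⟨e, he, h⟩ := (Nat.dvd_prime_pow Nat.prime_three).1 (show Nat.card S ∣ 3 ^ 3 by simpa using h1)
  rw [h]
  interval_cases e <;> simp

theorem not_J_le_R : ¬ D.J ≤ D.R := fun h => by
  obtain ⟨x, hx, y, hy, hne⟩ := D.R_nab
  have e := eq_of_le_of_card_ge h (by rw [D.R_card, D.J_card])
  exact hne (D.J_comm x (e ▸ hx) y (e ▸ hy))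

theorem inf_card : Nat.card ↥(D.J ⊓ D.R : Subgroup G) = 9 := by
  haveI : Fact (Nat.Prime 3) := ⟨Nat.prime_three⟩
  let f : D.J →* SL23 := D.π.comp (Subgroup.inclusion D.J_le)
  have hk : Nat.card f.ker = Nat.card ↥(D.J ⊓ D.R : Subgroup G) :=
    Nat.card_congr ⟨fun c => ⟨c.1.1, c.1.2, (D.ker _).1 c.2⟩, fun r => ⟨⟨r.1, r.2.1⟩, (D.ker _).2 r.2.2⟩,
      fun _ => rfl, fun _ => rfl⟩
  have h := card_mul_index f.ker
  rw [index_ker, hk, D.J_card] at h
  have h24 : Nat.card f.range ∣ 24 := sl_facts.2.2.2.2.2.2.2 ▸ card_subgroup_dvd_card f.range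
  have h27 : Nat.card f.range ∣ 27 := Dvd.intro_left _ h
  have h3 : Nat.card f.range ∣ 3 := by simpa using Nat.dvd_gcd h24 h27
  rcases (Nat.dvd_prime Nat.prime_three).1 h3 with e | e
  · exfalso
    rw [e, mul_one] at h
    exact D.not_J_le_R (inf_eq_left.1 (eq_of_le_of_card_ge inf_le_left (by rw [D.J_card, h])))
  · rw [e] at h; omega

/-- An element of `R` commuting with `J ⊓ R` lies in `J`. -/
theorem mem_J_of_comm {r : G} (hr : r ∈ D.R) (h : ∀ y ∈ D.J ⊓ D.R, r * y = y * r) : r ∈ D.J := by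
  by_contra hn
  set S := Subgroup.closure (((D.J ⊓ D.R : Subgroup G) : Set G) ∪ {r}) with hS
  have hle : S ≤ D.R := (closure_le _).2 (by
    rintro y (hy | rfl)
    exacts [hy.2, hr])
  have hlt : D.J ⊓ D.R < S := lt_of_le_of_ne (fun y hy => subset_closure (Or.inl hy))
    fun e => hn (e.ge (subset_closure (Or.inr rfl))).1
  have h9 : 9 < Nat.card S := by
    rw [← D.inf_card]
    refine lt_of_le_of_ne (card_le_of_le hlt.le) fun e => hlt.ne (eq_of_le_of_card_ge hlt.le e.ge)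
  have heq : S = D.R := eq_of_le_of_card_ge hle (by
    rcases D.three_sub_card hle with e | e | e | e <;> rw [e] at h9 ⊢ <;> simp [D.R_card] at h9 ⊢)
  obtain ⟨x, hx, y, hy, hne⟩ := D.R_nab
  refine hne ?_
  have hcomm : ∀ p ∈ ((D.J ⊓ D.R : Subgroup G) : Set G) ∪ {r}, ∀ q ∈ ((D.J ⊓ D.R : Subgroup G) : Set G) ∪ {r},
      p * q = q * p := by
    rintro p (hp | rfl) q (hq | rfl)
    · exact D.J_comm p hp.1 q hq.1
    · exact (h p hp).symm
    · exact h q hq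
    · rfl
  haveI := isMulCommutative_closure hcomm
  exact congrArg Subtype.val (IsMulCommutative.is_comm.comm (⟨x, heq ▸ hx⟩ : S) ⟨y, heq ▸ hy⟩)

theorem a_mem_J : D.a ∈ D.J :=
  D.mem_J_of_comm D.a_mem fun _ hy => (D.comm_a (D.R_le hy.2)).symm

theorem za_le_J : zpowers D.a ≤ D.J ⊓ D.R := zpowers_le.2 ⟨D.a_mem_J, D.a_mem⟩

/-- An element preserving `J ⊓ R` and fixing the image of an element of `J` maps it into `J`. -/
theorem conj_mem_J {g j : G} (hg : g ∈ D.C) (hj : j ∈ D.J) (hmap : ∀ y ∈ D.J ⊓ D.R, g⁻¹ * y * g ∈ D.J)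
    (hπ : D.π ⟨g, hg⟩ * D.π ⟨j, D.J_le hj⟩ = D.π ⟨j, D.J_le hj⟩ * D.π ⟨g, hg⟩) : g * j * g⁻¹ ∈ D.J := by
  have hr : j⁻¹ * (g * j * g⁻¹) ∈ D.R := by
    have h1 : D.π (⟨j, D.J_le hj⟩⁻¹ * (⟨g, hg⟩ * ⟨j, D.J_le hj⟩ * ⟨g, hg⟩⁻¹)) = 1 := by
      rw [map_mul, map_inv, map_mul, map_mul, map_inv, hπ, mul_inv_cancel_right, inv_mul_cancel]
    simpa using (D.ker _).1 h1
  have hJ := D.mem_J_of_comm hr fun y hy => by
    have h1 : j * (g⁻¹ * y * g) = g⁻¹ * y * g * j := D.J_comm j hj _ (hmap y hy)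
    have h2 : j * y = y * j := D.J_comm j hj y hy.1
    calc j⁻¹ * (g * j * g⁻¹) * y = j⁻¹ * (g * (j * (g⁻¹ * y * g)) * g⁻¹) := by group
      _ = j⁻¹ * (y * (g * j * g⁻¹)) := by rw [h1]; group
      _ = j⁻¹ * (y * j) * (j⁻¹ * (g * j * g⁻¹)) := by group
      _ = y * (j⁻¹ * (g * j * g⁻¹)) := by rw [← h2, inv_mul_cancel_left]
  simpa using mul_mem hj hJ

variable {i : G} (hi : i ∈ D.C) (hi2 : i * i = 1) (hin : D.π ⟨i, hi⟩ = -1)
include hi2 hin

theorem i_conj_J {j : G} (hj : j ∈ D.J) : i * j * i⁻¹ ∈ D.J := by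
  refine D.conj_mem_J hi hj (fun y hy => ?_) (by rw [hin]; exact (sl_facts.2.2.2.2.1 _).symm)
  have h := D.inverts hi hi2 hin hy.2
  rw [show i⁻¹ * y * i = (i * y * i⁻¹ * y) * y⁻¹ by rw [D.i_inv hi hi2 hin]; group]
  exact mul_mem (D.za_le_J h).1 (inv_mem hy.1)

/-- An element of `J` commutes with no lift of the central involution. -/
theorem cent_J : centralizer (D.J : Set G) = D.J := by
  refine le_antisymm (fun c hc => ?_) fun x hx => mem_centralizer_iff.2 fun y hy => D.J_comm y hy x hx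
  have hcC : c ∈ D.C := D.mem_C.2 (mem_centralizer_iff.1 hc _ D.a_mem_J).symm
  obtain ⟨j₀, hj₀, hj₀R⟩ := SetLike.not_le_iff_exists.1 D.not_J_le_R
  set x := D.π ⟨j₀, D.J_le hj₀⟩ with hx
  have hx3 : x * x * x = 1 := by
    rw [hx, ← map_mul, ← map_mul, show (⟨j₀, D.J_le hj₀⟩ * ⟨j₀, D.J_le hj₀⟩ * ⟨j₀, D.J_le hj₀⟩ : D.C) = 1 from
      Subtype.ext (show j₀ * j₀ * j₀ = 1 by rw [← pow_two, ← pow_succ]; exact D.J_exp _ hj₀), map_one]
  have hcomm : D.π ⟨c, hcC⟩ * x = x * D.π ⟨c, hcC⟩ := by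
    rw [hx, ← map_mul, ← map_mul]
    exact congrArg _ (Subtype.ext (mem_centralizer_iff.1 hc _ hj₀).symm)
  have hplus : ∀ j ∈ D.J, ∀ hjC : j ∈ D.C, D.π ⟨c, hcC⟩ = D.π ⟨j, hjC⟩ → c ∈ D.J := by
    intro j hj hjC h
    have hr : j⁻¹ * c ∈ D.R := by
      simpa using (D.ker (⟨j, hjC⟩⁻¹ * ⟨c, hcC⟩)).1 (by rw [map_mul, map_inv, h, inv_mul_cancel])
    have := mul_mem hj (D.mem_J_of_comm hr fun y hy => by
      have e1 : c * y = y * c := (mem_centralizer_iff.1 hc y hy.1).symm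
      have e2 : j * y = y * j := D.J_comm j hj y hy.1
      rw [mul_assoc, e1, ← mul_assoc, ← mul_assoc]
      congr 1
      rw [inv_mul_eq_iff_eq_mul, ← mul_assoc, e2, mul_inv_cancel_right])
    simpa using this
  have hminus : D.π ⟨c, hcC⟩ * D.π ⟨c, hcC⟩ * D.π ⟨c, hcC⟩ = -1 → False := by
    intro h
    have hr : i⁻¹ * (c * c * c) ∈ D.R := by
      simpa using (D.ker (⟨i, hi⟩⁻¹ * (⟨c, hcC⟩ * ⟨c, hcC⟩ * ⟨c, hcC⟩))).1 (by
        rw [map_mul, map_inv, map_mul, map_mul, h, hin, inv_mul_cancel])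
    obtain ⟨y, hy, hyn⟩ := SetLike.not_le_iff_exists.1 (show ¬ D.J ⊓ D.R ≤ zpowers D.a from fun h' => by
      have := card_le_of_le h'
      rw [D.inf_card, Nat.card_zpowers, D.ha] at this
      omega)
    set r := i⁻¹ * (c * c * c) with hr'
    have e : i * r * y * (i * r)⁻¹ = y := by
      have hc' : c * y = y * c := (mem_centralizer_iff.1 hc y hy.1).symm
      rw [hr', mul_inv_cancel_left, show c * c * c * y = y * (c * c * c) by
        rw [mul_assoc, hc', ← mul_assoc, mul_assoc c c y, hc', ← mul_assoc, hc']; group, mul_inv_cancel_right]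
    have hiz : i * (r * y * r⁻¹ * y⁻¹) * i⁻¹ ∈ zpowers D.a := by
      obtain ⟨n, hn⟩ := D.R_comm r hr y hy.2
      refine ⟨n, ?_⟩
      show D.a ^ n = _
      rw [← hn, ((show Commute i D.a from D.comm_a hi).zpow_right n).eq, mul_inv_cancel_right]
    have hsq : y * y ∈ zpowers D.a := by
      have h1 := mul_mem hiz (D.inverts hi hi2 hin hy.2)
      rwa [show i * (r * y * r⁻¹ * y⁻¹) * i⁻¹ * (i * y * i⁻¹ * y) = (i * r * y * (i * r)⁻¹) * y by group, e] at h1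
    refine hyn ?_
    rw [show y = (y * y)⁻¹ * y ^ 3 by rw [pow_succ, pow_two]; group, D.R_exp y hy.2, mul_one]
    exact inv_mem hsq
  obtain ⟨q1, q2, q3⟩ := sl_cube_neg x hx3
  rcases sl_facts.2.2.2.2.2.1 x _ hx3 (fun e => hj₀R ((D.ker _).1 e)) hcomm with h | h | h | h | h | h
  · exact hplus 1 (one_mem _) (one_mem _) (by rw [h]; exact (map_one D.π).symm)
  · exact hplus j₀ hj₀ (D.J_le hj₀) h
  · exact hplus (j₀ * j₀) (mul_mem hj₀ hj₀) (mul_mem (D.J_le hj₀) (D.J_le hj₀)) (by rw [h, hx, ← map_mul]; rfl)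
  · exact (hminus (by rw [h]; exact q1)).elim
  · exact (hminus (by rw [h]; exact q2)).elim
  · exact (hminus (by rw [h]; exact q3)).elim

end Data

/-- A basis of `J` permuted by an element of `R` and the involution. -/
structure Coords {G : Type*} [Group G] (D : Data G) where
  /-- The involution. -/
  i : G
  i_mem : i ∈ D.C
  i_sq : i * i = 1
  i_neg : D.π ⟨i, i_mem⟩ = -1
  /-- The element of `R`. -/
  u : G
  u_mem : u ∈ D.R
  u_not : u ∉ D.J
  u_inv : i * u * i⁻¹ = u⁻¹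
  /-- The first basis element. -/
  e : G
  e_mem : e ∈ D.J
  e_not : e ∉ D.R
  e_fix : i * e * i⁻¹ = e
  /-- The commutator. -/
  r : G
  r_mem : r ∈ D.J ⊓ D.R
  r_not : r ∉ zpowers D.a
  ue : u * e * u⁻¹ = e * r
  ur : u * r * u⁻¹ = r * D.a

theorem exists_coords {G : Type*} [Group G] [Finite G] (D : Data G) : Nonempty (Coords D) := by
  obtain ⟨i, hi, hi2, hin⟩ := D.exists_i
  obtain ⟨j, hj, hjR⟩ := SetLike.not_le_iff_exists.1 D.not_J_le_R
  obtain ⟨v, hv, hvJ⟩ := SetLike.not_le_iff_exists.1 (show ¬ D.R ≤ D.J from fun h =>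
    D.not_J_le_R (eq_of_le_of_card_ge h (by rw [D.J_card, D.R_card])).ge)
  have iinv := D.i_inv hi hi2 hin
  have hii : ∀ g : G, i * (i * g * i⁻¹) * i⁻¹ = g := fun g => by
    rw [show i * (i * g * i⁻¹) * i⁻¹ = (i * i) * g * (i * i)⁻¹ by group, hi2, inv_one, one_mul, mul_one]
  set u := i * v * i⁻¹ * v⁻¹ with hu
  have huR : u ∈ D.R := mul_mem (D.R_normal hi hv) (inv_mem hv)
  have huJ : u ∉ D.J := fun h => hvJ (by
    have h2 : v * v ∈ D.J := by
      have e : v * v = u⁻¹ * (i * v * i⁻¹ * v) := by rw [hu]; group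
      rw [e]
      exact mul_mem (inv_mem h) (D.za_le_J (D.inverts hi hi2 hin hv)).1
    rw [show v = (v * v)⁻¹ * v ^ 3 by rw [pow_succ, pow_two]; group, D.R_exp v hv, mul_one]
    exact inv_mem h2)
  have hui : i * u * i⁻¹ = u⁻¹ := by
    rw [hu, show i * (i * v * i⁻¹ * v⁻¹) * i⁻¹ = i * (i * v * i⁻¹) * i⁻¹ * (i * v * i⁻¹)⁻¹ by group, hii]
    group
  set e := j * (i * j * i⁻¹) with he
  have hij := D.i_conj_J hi hi2 hin hj
  have heJ : e ∈ D.J := mul_mem hj hij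
  have hefix : i * e * i⁻¹ = e := by
    rw [he, show i * (j * (i * j * i⁻¹)) * i⁻¹ = i * j * i⁻¹ * (i * (i * j * i⁻¹) * i⁻¹) by group, hii,
      D.J_comm _ hij j hj]
  have heR : e ∉ D.R := fun h => hjR (by
    have h1 : D.π (⟨j, D.J_le hj⟩ * (⟨i, hi⟩ * ⟨j, D.J_le hj⟩ * ⟨i, hi⟩⁻¹)) = 1 :=
      (D.ker _).2 (by simpa [he] using h)
    rw [map_mul, map_mul, map_mul, map_inv, hin, ← sl_facts.2.2.2.2.1, mul_inv_cancel_right] at h1
    have h3 : D.π ⟨j, D.J_le hj⟩ * D.π ⟨j, D.J_le hj⟩ * D.π ⟨j, D.J_le hj⟩ = 1 := by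
      rw [← map_mul, ← map_mul, show (⟨j, D.J_le hj⟩ * ⟨j, D.J_le hj⟩ * ⟨j, D.J_le hj⟩ : D.C) = 1 from
        Subtype.ext (show j * j * j = 1 by rw [← pow_two, ← pow_succ]; exact D.J_exp _ hj), map_one]
    rw [h1, one_mul] at h3
    exact (D.ker _).1 h3)
  have key : ∀ f : G, f ∈ D.J → i * f * i⁻¹ = f → f ∉ D.R → ∃ r ∈ D.J ⊓ D.R, r ∉ zpowers D.a ∧
      u * f * u⁻¹ = f * r ∧ u * r * u⁻¹ * r⁻¹ ∈ zpowers D.a ∧ u * r * u⁻¹ * r⁻¹ ≠ 1 := by
    intro f hf _ hfR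
    have hfJ : u * f * u⁻¹ ∈ D.J := by
      refine D.conj_mem_J (D.R_le huR) hf (fun y hy => ?_)
        (by rw [(D.ker ⟨u, D.R_le huR⟩).2 huR, one_mul, mul_one])
      have h := D.R_comm _ (inv_mem huR) y hy.2
      rw [show u⁻¹ * y * u = (u⁻¹ * y * u⁻¹⁻¹ * y⁻¹) * y by group]
      exact mul_mem (D.za_le_J h).1 hy.1
    set r := f⁻¹ * (u * f * u⁻¹) with hr
    have hrR : r ∈ D.R := by
      rw [hr, show f⁻¹ * (u * f * u⁻¹) = (f⁻¹ * u * f⁻¹⁻¹) * u⁻¹ by group]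
      exact mul_mem (D.R_normal (inv_mem (D.J_le hf)) huR) (inv_mem huR)
    have hrJ : r ∈ D.J := mul_mem (inv_mem hf) hfJ
    have hrn : r ∉ zpowers D.a := fun hz => by
      refine D.notMem_kerMod (D.J_le hf) (D.J_exp f hf) hfR ⟨D.J_le hf, fun x hx => ?_⟩
      have hfu : f * u * f⁻¹ * u⁻¹ ∈ zpowers D.a := by
        have hc : f * r = r * f := D.J_comm f hf r hrJ
        have e : f * u * f⁻¹ * u⁻¹ = r⁻¹ := by
          have e0 : u * f * u⁻¹ = r * f := by rw [← hc, hr]; group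
          calc f * u * f⁻¹ * u⁻¹ = f * (u * f * u⁻¹)⁻¹ := by group
            _ = r⁻¹ := by rw [e0]; group
        rw [e]; exact inv_mem hz
      set S : Subgroup G :=
        { carrier := {x | x ∈ D.R ∧ f * x * f⁻¹ * x⁻¹ ∈ zpowers D.a}
          one_mem' := ⟨one_mem _, by simp⟩
          mul_mem' := fun {p q} hp hq => ⟨mul_mem hp.1 hq.1, by
            rw [show f * (p * q) * f⁻¹ * (p * q)⁻¹ =
              (f * p * f⁻¹ * p⁻¹) * (p * (f * q * f⁻¹ * q⁻¹) * p⁻¹) by group]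
            refine mul_mem hp.2 ?_
            obtain ⟨n, hn⟩ := hq.2
            refine ⟨n, ?_⟩
            show D.a ^ n = _
            rw [← hn, ((show Commute p D.a from D.comm_a (D.R_le hp.1)).zpow_right n).eq, mul_inv_cancel_right]⟩
          inv_mem' := fun {p} hp => ⟨inv_mem hp.1, by
            rw [show f * p⁻¹ * f⁻¹ * p⁻¹⁻¹ = p⁻¹ * (f * p * f⁻¹ * p⁻¹)⁻¹ * p⁻¹⁻¹ by group]
            obtain ⟨n, hn⟩ := inv_mem hp.2
            refine ⟨n, ?_⟩
            show D.a ^ n = _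
            rw [← hn, ((show Commute p⁻¹ D.a from D.comm_a (inv_mem (D.R_le hp.1))).zpow_right n).eq,
              mul_inv_cancel_right]⟩ } with hS
      have hle : S ≤ D.R := fun x hx => hx.1
      have h1 : D.J ⊓ D.R ≤ S := fun y hy => ⟨hy.2, by
        rw [D.J_comm f hf y hy.1, mul_inv_cancel_right, mul_inv_cancel]; exact one_mem _⟩
      have h2 : S ≠ D.J ⊓ D.R := fun e => huJ (e.le (show u ∈ S from ⟨huR, hfu⟩)).1
      have h9 : 9 < Nat.card S := by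
        rw [← D.inf_card]
        exact lt_of_le_of_ne (card_le_of_le h1) fun e => h2 (eq_of_le_of_card_ge h1 e.ge).symm
      have heq : S = D.R := eq_of_le_of_card_ge hle (by
        rcases D.three_sub_card hle with e | e | e | e <;> rw [e] at h9 ⊢ <;> simp [D.R_card] at h9 ⊢)
      exact (heq.ge hx).2
    refine ⟨r, ⟨hrJ, hrR⟩, hrn, by rw [hr]; group, D.R_comm u huR r hrR, fun h1 => ?_⟩
    refine huJ (D.mem_J_of_comm huR fun y hy => ?_)
    have hcr : u * r = r * u := mul_inv_eq_iff_eq_mul.1 (mul_inv_eq_one.1 h1)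
    set S := (D.J ⊓ D.R) ⊓ centralizer ({u} : Set G) with hS
    have hza : zpowers D.a ≤ S := le_inf D.za_le_J
      (zpowers_le.2 (mem_centralizer_singleton_iff.2 (D.comm_a (D.R_le huR)).symm))
    have hrS : r ∈ S := ⟨⟨hrJ, hrR⟩, mem_centralizer_singleton_iff.2 hcr.symm⟩
    have hSle : S ≤ D.J ⊓ D.R := inf_le_left
    have h3 : 3 < Nat.card S := by
      rw [← D.ha, ← Nat.card_zpowers]
      exact lt_of_le_of_ne (card_le_of_le hza) fun e => hrn ((eq_of_le_of_card_ge hza e.ge).ge hrS)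
    have h9 : Nat.card S = 9 := by
      have h9' := D.inf_card ▸ card_le_of_le hSle
      rcases D.three_sub_card (hSle.trans inf_le_right) with e | e | e | e <;> omega
    have := (eq_of_le_of_card_ge hSle (by rw [D.inf_card, h9])).ge hy
    exact (mem_centralizer_singleton_iff.1 this.2).symm
  obtain ⟨r, hr, hrn, hue, hz, hz1⟩ := key e heJ hefix heR
  rcases D.mem_zpowers_a hz with h | h | h
  · exact absurd h hz1
  · exact ⟨⟨i, hi, hi2, hin, u, huR, huJ, hui, e, heJ, heR, hefix, r, hr, hrn, hue,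
      by rw [← D.comm_a (D.J_le hr.1) |>.symm, ← h]; group⟩⟩
  · refine ⟨⟨i, hi, hi2, hin, u, huR, huJ, hui, e⁻¹, inv_mem heJ, fun h' => heR (by simpa using inv_mem h'),
      by rw [show i * e⁻¹ * i⁻¹ = (i * e * i⁻¹)⁻¹ by group, hefix],
      r⁻¹, inv_mem hr, fun h' => hrn (by simpa using inv_mem h'), ?_, ?_⟩⟩
    · rw [show u * e⁻¹ * u⁻¹ = (u * e * u⁻¹)⁻¹ by group, hue, mul_inv_rev,
        ((show Commute r e from (D.J_comm e heJ r hr.1).symm).inv_inv).eq]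
    · have hra : r * D.a = D.a * r := D.comm_a (D.J_le hr.1)
      have e1 : u * r * u⁻¹ = D.a * D.a * r := by rw [← h]; group
      have ha3 : D.a * D.a * D.a = 1 := by rw [← pow_two, ← pow_succ]; exact D.a_cube
      rw [show u * r⁻¹ * u⁻¹ = (u * r * u⁻¹)⁻¹ by group, e1, mul_inv_rev, mul_right_inj,
        inv_eq_of_mul_eq_one_right ha3]

end Cfsg.Lib.PSpThree
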