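import Cfsg.Agent.Lib.PSpThree.CaseZero
import Cfsg.Agent.Lib.PSpThree.CaseTwo
import Cfsg.Agent.Lib.PSpThree.CaseOne

/-!
# The four possibilities

The central element is conjugate to its inverse exactly when the sign change of all three coordinates is
present.
-/

set_option autoImplicit false
set_option maxHeartbeats 1600000
set_option maxRecDepth 100000
set_option linter.unusedSectionVars false
set_option linter.style.haveILetI false

namespace Cfsg.Lib.PSpThree

open Subgroup Cfsg.Lib.SymNine

theorem invert_facts : ∀ m s k, signSets m s = true → act s k one1 = vSmul 2 one1 → m = 1 ∨ m = 3 := by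
  decide +kernel

theorem invert_sign : signSets 1 7 = true ∧ signSets 3 7 = true ∧ act 7 0 one1 = vSmul 2 one1 := by decide +kernel

namespace Setting

variable {G : Type*} [Group G] [Finite G]

theorem exists_case (D : Data G) : ∃ S : Setting G, S.D = D ∧ ∃ m, S.F.IsCase m := by
  obtain ⟨S, hS⟩ := exists_setting D
  obtain ⟨F', hJ, hx, hM⟩ := S.F.exists_monomial
  obtain ⟨m, hm⟩ := F'.sign_cases hM
  exact ⟨⟨S.D, F', hx.trans S.hx, hJ.trans S.hJ⟩, hS, m, ⟨hM, hm⟩⟩

theorem inverted_iff (S : Setting G) {m : Fin 4} (h : S.F.IsCase m) :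
    (∃ g : G, g * S.D.a * g⁻¹ = S.D.a⁻¹) ↔ m = 1 ∨ m = 3 := by
  constructor
  · rintro ⟨g, hg⟩
    rw [← S.a_eq, S.F.v_inv] at hg
    obtain ⟨s, k, hs, hk⟩ := h.conj_cases hg
    exact invert_facts m s k hs hk
  · intro hm
    have hs : signSets m 7 = true := by
      rcases hm with rfl | rfl
      exacts [invert_sign.1, invert_sign.2.1]
    obtain ⟨n, -, hn⟩ := h.exists_of_act hs 0
    exact ⟨n, by rw [← S.a_eq, Frame.actsAs_act hn, invert_sign.2.2, S.F.v_inv]⟩

/-- All signs: the inversion is chosen centralising the permutations. -/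
theorem exists_full_setting (S : Setting G) (h : S.F.IsCase 3) :
    ∃ T : Setting G, T.D = S.D ∧ Nonempty T.F.Full := by
  obtain ⟨F', hJ, hx, hF⟩ := Frame.exists_full h
  exact ⟨⟨S.D, F', hx.trans S.hx, hJ.trans S.hJ⟩, rfl, hF⟩

/-- The conclusion without inversion. -/
theorem not_inverted (D : Data G) (hinv : ∀ g : G, g * D.a * g⁻¹ ≠ D.a⁻¹) (K : Type*) [Field K] [Fintype K]
    (hK : Fintype.card K = 3) :
    (∃ N : Subgroup G, N.Normal ∧ N.index = 3) ∨ Nonempty (G ≃* Cfsg.PSp 2 K) := by
  obtain ⟨S, hS, m, h⟩ := exists_case D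
  subst hS
  fin_cases m
  · exact Or.inl (S.exists_index_three h)
  · exact absurd ((S.inverted_iff h).2 (Or.inl rfl)) (fun ⟨g, hg⟩ => hinv g hg)
  · exact Or.inr (S.recognition_two h hinv K hK)
  · exact absurd ((S.inverted_iff h).2 (Or.inr rfl)) (fun ⟨g, hg⟩ => hinv g hg)

/-- With inversion: the central subgroup is normal, or all signs are present. -/
theorem inverted (D : Data G) (hinv : ∃ g : G, g * D.a * g⁻¹ = D.a⁻¹) :
    normalizer (zpowers D.a : Set G) = ⊤ ∨ ∃ S : Setting G, S.D = D ∧ Nonempty S.F.Full := by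
  obtain ⟨S, hS, m, h⟩ := exists_case D
  subst hS
  rcases (S.inverted_iff h).1 hinv with rfl | rfl
  · exact Or.inl (normal_za h)
  · exact Or.inr (S.exists_full_setting h)

end Setting

end Cfsg.Lib.PSpThree
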