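import Mathlib

/-!
# Self-centralising four subgroups of 2-groups and Klein groups with fixed-point-free elements

A self-centralising four subgroup shares an involution with every four subgroup up to conjugacy. A four subgroup
permuted by a fixed-point-free element of order three acts trivially on a commutative group of odd order.
-/

set_option autoImplicit false
set_option linter.unusedSectionVars false
set_option linter.style.haveILetI false

namespace Cfsg.Lib.PSpThree

open Subgroup
open scoped commutatorElement Pointwise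

/-- In a finite nilpotent group a subgroup covering the commutator quotient is everything. -/
theorem eq_top_of_sup_commutator {S : Type*} [Group S] [Finite S] [Group.IsNilpotent S] {H : Subgroup S}
    (h : H ⊔ commutator S = ⊤) : H = ⊤ := by
  rcases eq_top_or_exists_le_coatom H with h' | ⟨M, hM, hHM⟩
  · exact h'
  haveI : M.Normal := Subgroup.NormalizerCondition.normal_of_coatom M Group.normalizerCondition_of_isNilpotent hM
  refine absurd (top_le_iff.1 (h ▸ sup_le hHM ?_)) hM.1
  rw [commutator_def, commutator_le]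
  intro a _ b _
  rw [← QuotientGroup.eq_one_iff]
  have hc : Commute (QuotientGroup.mk' M a) (QuotientGroup.mk' M b) := by
    by_cases ha : a ∈ M
    · rw [show QuotientGroup.mk' M a = 1 from (QuotientGroup.eq_one_iff a).2 ha]
      exact Commute.one_left _
    have hlt : M < (zpowers (QuotientGroup.mk' M a)).comap (QuotientGroup.mk' M) := by
      refine lt_of_le_of_ne (fun m hm => ?_) fun e => ha (e ▸ mem_comap.2 (mem_zpowers _))
      rw [mem_comap, show QuotientGroup.mk' M m = 1 from (QuotientGroup.eq_one_iff m).2 hm]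
      exact one_mem _
    obtain ⟨n, hn⟩ := mem_comap.1 (hM.2 _ hlt ▸ mem_top b)
    rw [← hn]
    exact (Commute.refl _).zpow_right n
  rw [show (QuotientGroup.mk (⁅a, b⁆) : S ⧸ M) = QuotientGroup.mk' M ⁅a, b⁆ from rfl, map_commutatorElement,
    commutatorElement_eq_one_iff_commute]
  exact hc

/-- A four subgroup is generated by any two of its involutions. -/
theorem four_elts {S : Type*} [Group S] {Q : Subgroup S} (hQ : Nat.card Q = 4) (h2 : ∀ q ∈ Q, q * q = 1) {z q : S}
    (hz : z ∈ Q) (hq : q ∈ Q) (hz1 : z ≠ 1) (hq1 : q ≠ 1) (hne : q ≠ z) {x : S} (hx : x ∈ Q) :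
    x = 1 ∨ x = z ∨ x = q ∨ x = z * q := by
  classical
  haveI : Finite Q := Nat.finite_of_card_ne_zero (by omega)
  by_contra hcon
  push Not at hcon
  obtain ⟨h1, h2', h3, h4⟩ := hcon
  have hzq : z * q ∈ Q := mul_mem hz hq
  have hzq1 : z * q ≠ 1 := fun e => hne (by
    calc q = z * z * q := by rw [h2 z hz, one_mul]
      _ = z := by rw [mul_assoc, e, mul_one])
  haveI : Fintype Q := Fintype.ofFinite Q
  have hsub : ({⟨1, one_mem _⟩, ⟨z, hz⟩, ⟨q, hq⟩, ⟨z * q, hzq⟩, ⟨x, hx⟩} : Finset Q).card ≤ 4 := by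
    rw [← hQ, Nat.card_eq_fintype_card]
    exact Finset.card_le_univ _
  have e1 : z * q ≠ z := fun e => hq1 (mul_eq_left.1 e)
  have e2 : z * q ≠ q := fun e => hz1 (mul_eq_right.1 e)
  rw [Finset.card_insert_of_notMem (by simp [hz1.symm, hq1.symm, hzq1.symm, h1.symm]),
    Finset.card_insert_of_notMem (by simp [hne.symm, e1.symm, h2'.symm]),
    Finset.card_insert_of_notMem (by simp [e2.symm, h3.symm]),
    Finset.card_insert_of_notMem (by simp [h4.symm]), Finset.card_singleton] at hsub
  omega

/-- A 2-group with a self-centralising four subgroup containing the central involution has no elementary abelian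
subgroup of order eight containing it. -/
theorem no_eight {S : Type*} [Group S] [Finite S] (hS : IsPGroup 2 S) {Q A : Subgroup S} (hQ : Nat.card Q = 4)
    (hQ2 : ∀ q ∈ Q, q * q = 1) (hC : ∀ y : S, (∀ q ∈ Q, y * q = q * y) → y ∈ Q) {z : S} (hzQ : z ∈ Q) (hz1 : z ≠ 1)
    (hzc : ∀ y : S, y * z = z * y) (hA : Nat.card A = 8) (hA2 : ∀ v ∈ A, v * v = 1) : False := by
  classical
  haveI : Fact (Nat.Prime 2) := ⟨Nat.prime_two⟩
  haveI : Group.IsNilpotent S := hS.isNilpotent
  have hinv : ∀ v ∈ A, v⁻¹ = v := fun v hv => inv_eq_of_mul_eq_one_right (hA2 v hv)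
  have hAc : ∀ u ∈ A, ∀ v ∈ A, u * v = v * u := fun u hu v hv => by
    rw [← hinv _ (mul_mem hu hv), mul_inv_rev, hinv u hu, hinv v hv]
  obtain ⟨q, hq, hq1, hqz⟩ : ∃ q ∈ Q, q ≠ 1 ∧ q ≠ z := by
    by_contra hcon
    push Not at hcon
    have hle : Q ≤ zpowers z := fun x hx => by
      by_cases hx1 : x = 1
      · subst hx1; exact one_mem _
      · rw [hcon x hx hx1]; exact mem_zpowers _
    have := card_le_of_le hle
    rw [hQ, Nat.card_zpowers, orderOf_eq_prime (by rw [pow_two, hQ2 z hzQ]) hz1] at this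
    omega
  have hCq : ∀ y : S, y * q = q * y → y ∈ Q := fun y hy => hC y fun x hx => by
    rcases four_elts hQ hQ2 hzQ hq hz1 hq1 hqz hx with rfl | rfl | rfl | rfl
    · rw [one_mul, mul_one]
    · exact hzc y
    · exact hy
    · rw [← mul_assoc, hzc y, mul_assoc, hy, mul_assoc]
  have hcentQ : centralizer ({q} : Set S) = Q := by
    refine le_antisymm (fun y hy => hCq y (mem_centralizer_singleton_iff.1 hy)) fun x hx =>
      mem_centralizer_singleton_iff.2 ?_
    rw [← inv_eq_of_mul_eq_one_right (hQ2 _ (mul_mem hx hq)), mul_inv_rev, inv_eq_of_mul_eq_one_right (hQ2 x hx),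
      inv_eq_of_mul_eq_one_right (hQ2 q hq)]
  have hqq := hQ2 q hq
  set T := commutator S with hT
  -- the commutators with `q`
  have hmem : ∀ s : S, s * q * s⁻¹ * q⁻¹ ∈ T := fun s =>
    commutator_mem_commutator (mem_top s) (mem_top q)
  have hTidx : 4 ≤ T.index := by
    by_contra hlt
    push Not at hlt
    obtain ⟨n, hn⟩ := hS.index T
    have h12 : T.index = 1 ∨ T.index = 2 := by
      rcases n with _ | _ | n
      · left; rw [hn]; rfl
      · right; rw [hn]; rfl
      · exfalso
        rw [hn, pow_succ, pow_succ] at hlt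
        have := Nat.one_le_two_pow (n := n)
        omega
    have hxcyc : ∃ x : S, zpowers x = ⊤ := by
      rcases h12 with e | e
      · exact ⟨1, eq_top_of_sup_commutator (by rw [← hT, index_eq_one.1 e, sup_top_eq])⟩
      · obtain ⟨x, hxT⟩ : ∃ x, x ∉ T := by
          by_contra hall
          push Not at hall
          rw [(eq_top_iff' T).2 hall, index_top] at e
          omega
        refine ⟨x, eq_top_of_sup_commutator ((eq_top_iff' _).2 fun y => ?_)⟩
        rw [← hT]
        by_cases hy : y ∈ T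
        · exact mem_sup_right hy
        · have h := (mul_mem_iff_of_index_two e (a := y) (b := x⁻¹)).2
            ⟨fun h => absurd h hy, fun h => absurd (inv_mem_iff.1 h) hxT⟩
          rw [show y = y * x⁻¹ * x by group]
          exact mul_mem (mem_sup_right h) (mem_sup_left (mem_zpowers x))
    obtain ⟨x, hx⟩ := hxcyc
    haveI : IsCyclic S := isCyclic_iff_exists_zpowers_eq_top.2 ⟨x, hx⟩
    haveI : IsCyclic A := inferInstance
    obtain ⟨v, hv⟩ := IsCyclic.exists_generator (α := A)
    have h1 := orderOf_eq_card_of_forall_mem_zpowers hv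
    have h2 : orderOf v ∣ 2 := orderOf_dvd_of_pow_eq_one (Subtype.ext (by
      rw [SubmonoidClass.coe_pow, pow_two]; exact hA2 _ v.2))
    rw [h1, hA] at h2
    exact absurd h2 (by decide)
  -- every element of the derived subgroup is inverted
  let f : S ⧸ centralizer ({q} : Set S) → T := Quotient.lift (fun s => (⟨s * q * s⁻¹ * q⁻¹, hmem s⟩ : T))
    fun a b hab => by
      have h := mem_centralizer_singleton_iff.1 (QuotientGroup.leftRel_apply.1 hab)
      refine Subtype.ext ?_
      show a * q * a⁻¹ * q⁻¹ = b * q * b⁻¹ * q⁻¹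
      calc a * q * a⁻¹ * q⁻¹ = a * (q * (a⁻¹ * b)) * b⁻¹ * q⁻¹ := by group
        _ = b * q * b⁻¹ * q⁻¹ := by rw [← h]; group
  have hfinj : Function.Injective f := by
    intro a b
    induction a using QuotientGroup.induction_on with
    | _ a => induction b using QuotientGroup.induction_on with
      | _ b =>
        intro e
        rw [QuotientGroup.eq, mem_centralizer_singleton_iff]
        have e' : a * q * a⁻¹ = b * q * b⁻¹ := mul_right_cancel (congrArg Subtype.val e)
        calc a⁻¹ * b * q = a⁻¹ * (b * q * b⁻¹) * b := by group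
          _ = q * (a⁻¹ * b) := by rw [← e']; group
  have hidxQ : Nat.card (S ⧸ centralizer ({q} : Set S)) * 4 = Nat.card S := by
    have := card_mul_index Q
    rw [hQ] at this
    rw [hcentQ]
    show Q.index * 4 = _
    omega
  have hTcard : Nat.card T ≤ Nat.card (S ⧸ centralizer ({q} : Set S)) := by
    have := card_mul_index T
    nlinarith
  have hf := hfinj.bijective_of_nat_card_le hTcard
  have hTI : ∀ c ∈ T, q * c * q = c⁻¹ := by
    intro c hc
    obtain ⟨a, ha⟩ := hf.2 ⟨c, hc⟩
    induction a using QuotientGroup.induction_on with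
    | _ a =>
      have e : a * q * a⁻¹ * q⁻¹ = c := congrArg Subtype.val ha
      rw [← e]
      calc q * (a * q * a⁻¹ * q⁻¹) * q = q * (a * q * a⁻¹) := by group
        _ = q * (a * q⁻¹ * a⁻¹) := by rw [inv_eq_of_mul_eq_one_right hqq]
        _ = _ := by group
  have hTidx4 : T.index = 4 := by
    have h1 := card_mul_index T
    have h2 := Nat.card_eq_of_bijective f hf
    rw [← hidxQ, h2] at h1
    exact Nat.eq_of_mul_eq_mul_left Nat.card_pos h1
  -- the elementary subgroup meets it in at most two elements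
  have hAT : ∀ c ∈ A, c ∈ T → c = 1 ∨ c = z := by
    intro c hcA hcT
    have h := hTI c hcT
    rw [hinv c hcA] at h
    have hcQ : c ∈ Q := hCq c (by
      calc c * q = q * c * q * q := by rw [h]
        _ = q * c := by rw [mul_assoc, hqq, mul_one])
    rcases four_elts hQ hQ2 hzQ hq hz1 hq1 hqz hcQ with rfl | rfl | rfl | rfl
    · exact Or.inl rfl
    · exact Or.inr rfl
    all_goals exfalso
    all_goals have hAQ : A ≤ Q := fun v hv => hCq v (by
        first
        | exact hAc v hv _ hcA
        | (have h' := hAc v hv _ hcA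
           rw [← mul_assoc, hzc v, mul_assoc, mul_assoc] at h'
           exact mul_left_cancel h'))
    all_goals have := card_le_of_le hAQ
    all_goals omega
  let g : A →* S ⧸ T := (QuotientGroup.mk' T).comp A.subtype
  have hker : Nat.card g.ker ≤ 2 := by
    have hle : g.ker.map A.subtype ≤ zpowers z := by
      rintro _ ⟨c, hc, rfl⟩
      rcases hAT c c.2 ((QuotientGroup.eq_one_iff _).1 hc) with e | e
      · show (c : S) ∈ zpowers z
        rw [e]; exact one_mem _
      · show (c : S) ∈ zpowers z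
        rw [e]; exact mem_zpowers _
    have h2 : Nat.card (zpowers z) = 2 := by
      rw [Nat.card_zpowers, orderOf_eq_prime (by rw [pow_two, hQ2 z hzQ]) hz1]
    rw [← card_map_of_injective A.subtype_injective (K := g.ker), ← h2]
    exact card_le_of_le hle
  have hrange : g.range = ⊤ := by
    refine eq_top_of_card_eq _ (le_antisymm (card_le_card_group _) ?_)
    have h := card_mul_index g.ker
    rw [index_ker, hA] at h
    show T.index ≤ _
    rw [hTidx4]
    nlinarith
  have htop : A = ⊤ := eq_top_of_sup_commutator ((eq_top_iff' _).2 fun y => by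
    obtain ⟨v, hv⟩ := MonoidHom.range_eq_top.1 hrange (QuotientGroup.mk' T y)
    rw [show y = (v : S) * ((v : S)⁻¹ * y) by group]
    exact mul_mem (mem_sup_left v.2) (mem_sup_right (QuotientGroup.eq.1 hv)))
  have hle : (⊤ : Subgroup S) ≤ Q := fun y _ => hCq y (hAc y (htop ▸ mem_top y) q (htop ▸ mem_top q))
  have := card_le_of_le hle
  rw [hQ, ← htop, hA] at this
  omega

/-- A self-centralising four subgroup shares an involution with each four subgroup, up to conjugacy. -/
theorem shared_involution {K : Type*} [Group K] [Finite K] {Q V : Subgroup K} (hQ : Nat.card Q = 4)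
    (hQ2 : ∀ q ∈ Q, q * q = 1) (hV : Nat.card V = 4) (hV2 : ∀ v ∈ V, v * v = 1)
    (hC : ∀ (y : K) (n : ℕ), y ^ 2 ^ n = 1 → (∀ q ∈ Q, y * q = q * y) → y ∈ Q) :
    ∃ g : K, ∃ q ∈ Q, q ≠ 1 ∧ g * q * g⁻¹ ∈ V := by
  classical
  haveI : Fact (Nat.Prime 2) := ⟨Nat.prime_two⟩
  have hp : ∀ {W : Subgroup K}, Nat.card W = 4 → IsPGroup 2 W := fun {W} h =>
    IsPGroup.of_card (n := 2) (by rw [h]; rfl)
  obtain ⟨P, hP⟩ := (hp hQ).exists_le_sylow
  obtain ⟨R, hR⟩ := (hp hV).exists_le_sylow
  obtain ⟨g, hg⟩ := MulAction.exists_smul_eq K R P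
  have hgV : ∀ v ∈ V, g * v * g⁻¹ ∈ (P : Subgroup K) := fun v hv => by
    rw [← hg, Sylow.coe_subgroup_smul]; exact ⟨v, hR hv, rfl⟩
  haveI : Nontrivial (P : Subgroup K) := by
    refine Finite.one_lt_card_iff_nontrivial.1 ?_
    have := card_le_of_le hP
    omega
  haveI := P.isPGroup'.center_nontrivial
  obtain ⟨⟨z, hz⟩, hz2⟩ := exists_prime_orderOf_dvd_card' (G := center (P : Subgroup K)) 2 (by
    obtain ⟨m, hm⟩ := (P.isPGroup'.to_subgroup (center (P : Subgroup K))).exists_card_eq
    rw [hm]
    refine dvd_pow_self 2 fun e => ?_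
    rw [e, pow_zero] at hm
    exact absurd hm Finite.one_lt_card.ne')
  rw [Subgroup.orderOf_mk, ← Subgroup.orderOf_coe] at hz2
  have hzc : ∀ y : (P : Subgroup K), y * z = z * y := fun y => mem_center_iff.1 hz y
  have hzQ : (z : K) ∈ Q := hC z 1 (by
    have := pow_orderOf_eq_one (z : K)
    rwa [hz2] at this) fun q hq => (congrArg Subtype.val (hzc ⟨q, hP hq⟩)).symm
  have hz1 : (z : K) ≠ 1 := fun e => by rw [e, orderOf_one] at hz2; omega
  by_cases hzV : ∃ v ∈ V, g * v * g⁻¹ = (z : K)
  · obtain ⟨v, hv, e⟩ := hzV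
    exact ⟨g⁻¹, z, hzQ, hz1, by rw [← e]; simpa [mul_assoc] using hv⟩
  push Not at hzV
  exfalso
  set V' := V.map (MulAut.conj g).toMonoidHom with hV'
  have hV'P : V' ≤ (P : Subgroup K) := by rintro _ ⟨v, hv, rfl⟩; exact hgV v hv
  have hV'2 : ∀ v ∈ V', v * v = 1 := by
    rintro _ ⟨v, hv, rfl⟩
    rw [← map_mul, hV2 v hv, map_one]
  have hV'4 : Nat.card V' = 4 := by rw [hV', card_map_of_injective (MulAut.conj g).injective, hV]
  have hzV' : (z : K) ∉ V' := fun ⟨v, hv, e⟩ => hzV v hv e
  set A : Subgroup K := V' ⊔ zpowers (z : K)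
  have hzc' : ∀ v ∈ V', v * (z : K) = z * v := fun v hv => congrArg Subtype.val (hzc ⟨v, hV'P hv⟩)
  have hAP : A ≤ (P : Subgroup K) := sup_le hV'P (zpowers_le.2 z.2)
  have hnorm : zpowers (z : K) ≤ normalizer (V' : Set K) := zpowers_le.2 (mem_normalizer_iff.2 fun v =>
    ⟨fun hv => by rw [← hzc' v hv, mul_inv_cancel_right]; exact hv, fun hv => by
      have h := hzc' _ hv
      rw [inv_mul_cancel_right] at h
      have h' : v = (z : K) * v * (z : K)⁻¹ := mul_left_cancel h
      rw [h']; exact hv⟩)
  have hAcoe : ∀ x ∈ A, ∃ v ∈ V', ∃ w ∈ zpowers (z : K), v * w = x := fun x hx => by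
    rw [← SetLike.mem_coe, show (A : Set K) = (V' : Set K) * (zpowers (z : K) : Set K) from
      coe_mul_of_right_le_normalizer_left _ _ hnorm] at hx
    exact Set.mem_mul.1 hx
  have hzz : (z : K) * z = 1 := by
    have := pow_orderOf_eq_one (z : K)
    rwa [hz2, pow_two] at this
  have hw : ∀ w ∈ zpowers (z : K), w = 1 ∨ w = (z : K) := by
    rintro _ ⟨n, rfl⟩
    rcases Int.even_or_odd' n with ⟨k, rfl | rfl⟩
    · exact Or.inl (by show (z : K) ^ (2 * k) = 1; rw [zpow_mul, zpow_two, hzz, one_zpow])
    · exact Or.inr (by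
        show (z : K) ^ (2 * k + 1) = z
        rw [zpow_add, zpow_mul, zpow_two, hzz, one_zpow, one_mul, zpow_one])
  have hA2 : ∀ x ∈ A, x * x = 1 := fun x hx => by
    obtain ⟨v, hv, w, hw', rfl⟩ := hAcoe x hx
    rcases hw w hw' with rfl | rfl
    · rw [mul_one]; exact hV'2 v hv
    · rw [show v * (z : K) * (v * z) = v * (z * v) * z by group, ← hzc' v hv,
        show v * (v * (z : K)) * z = v * v * (z * z) by group, hV'2 v hv, hzz, one_mul]
  have hA8 : Nat.card A = 8 := by
    have hcard : Nat.card A = Nat.card ↥V' * 2 := by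
      rw [← Nat.card_fin 2, ← Nat.card_prod]
      refine (Nat.card_eq_of_bijective (fun p : V' × Fin 2 => (⟨(p.1 : K) * (if p.2 = 0 then 1 else z),
        mul_mem (mem_sup_left p.1.2) (by split_ifs <;> [exact one_mem _; exact mem_sup_right (mem_zpowers _)])⟩ : A))
        ⟨?_, ?_⟩).symm
      · rintro ⟨a, i⟩ ⟨b, j⟩ e
        have e' := congrArg Subtype.val e
        simp only at e'
        fin_cases i <;> fin_cases j <;> simp at e' ⊢
        · exact e'
        · exact hzV' (by
            rw [show (z : K) = (b : K)⁻¹ * a by rw [e']; group]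
            exact mul_mem (inv_mem b.2) a.2)
        · exact hzV' (by
            rw [show (z : K) = (a : K)⁻¹ * b by rw [← e']; group]
            exact mul_mem (inv_mem a.2) b.2)
        · exact e'
      · rintro ⟨x, hx⟩
        obtain ⟨v, hv, w, hw', rfl⟩ := hAcoe x hx
        rcases hw w hw' with rfl | rfl
        · exact ⟨(⟨v, hv⟩, 0), Subtype.ext (by simp)⟩
        · exact ⟨(⟨v, hv⟩, 1), Subtype.ext (by simp)⟩
    rw [hcard, hV'4]
  refine no_eight (S := (P : Subgroup K)) P.isPGroup' (Q := Q.subgroupOf P) (A := A.subgroupOf P) ?_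
    (fun q hq => Subtype.ext (hQ2 _ hq)) (fun y hy => ?_) (z := z) hzQ (fun e => hz1 (by rw [e]; rfl))
    hzc ?_ (fun v hv => Subtype.ext (hA2 _ hv))
  · rw [Nat.card_congr (subgroupOfEquivOfLe hP).toEquiv, hQ]
  · obtain ⟨n, hn⟩ := P.isPGroup' y
    exact hC y n (by simpa using congrArg Subtype.val hn) fun q hq => congrArg Subtype.val (hy ⟨q, hP hq⟩ hq)
  · rw [Nat.card_congr (subgroupOfEquivOfLe hAP).toEquiv, hA8]

/-- Automorphisms of order two permuted by one of order three without fixed points fix a commutative group of odd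
order. -/
theorem four_fixes {A : Type*} [CommGroup A] [Finite A] (hodd : Odd (Nat.card A)) (v c : MulAut A) (hv : v * v = 1)
    (hc : c * c * c = 1) (hrel : v * (c * v * c⁻¹) = c * c * v * (c * c)⁻¹) (hfix : ∀ y, c y = y → y = 1) (y : A) :
    v y = y := by
  set v2 := c * v * c⁻¹ with hv2
  set v3 := c * c * v * (c * c)⁻¹ with hv3
  have h22 : v2 * v2 = 1 := by rw [hv2, show c * v * c⁻¹ * (c * v * c⁻¹) = c * (v * v) * c⁻¹ by group, hv]; group
  have h33 : v3 * v3 = 1 := by
    rw [hv3, show c * c * v * (c * c)⁻¹ * (c * c * v * (c * c)⁻¹) = c * c * (v * v) * (c * c)⁻¹ by group, hv]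
    group
  have iv : v⁻¹ = v := inv_eq_of_mul_eq_one_right hv
  have i2 : v2⁻¹ = v2 := inv_eq_of_mul_eq_one_right h22
  have i3 : v3⁻¹ = v3 := inv_eq_of_mul_eq_one_right h33
  have r21 : v2 * v = v3 := by rw [← i3, ← hrel, mul_inv_rev, iv, i2]
  have r13 : v * v3 = v2 := by rw [← hrel, ← mul_assoc, hv, one_mul]
  have r31 : v3 * v = v2 := by rw [← i2, ← r13, mul_inv_rev, iv, i3]
  have r23 : v2 * v3 = v := by rw [← r21, ← mul_assoc, h22, one_mul]
  have r32 : v3 * v2 = v := by rw [← iv, ← r23, mul_inv_rev, i2, i3]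
  have cv : c * v = v2 * c := by rw [hv2]; group
  have cv2 : c * v2 = v3 * c := by rw [hv3, hv2]; group
  have hc2 : (c * c)⁻¹ = c := inv_eq_of_mul_eq_one_right hc
  have cv3 : c * v3 = v * c := by
    rw [hv3, hc2, show c * (c * c * v * c) = c * c * c * v * c by group, hc, one_mul]
  -- the fixed-point-free conjugates of `c`
  have key : ∀ u : MulAut A, u * u = 1 → ∀ y, y * (u * c * u) y * (u * c * u * (u * c * u)) y = 1 := by
    intro u hu y
    set d := u * c * u with hd
    have hd3 : d * (d * d) = 1 := by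
      rw [hd, show u * c * u * (u * c * u * (u * c * u)) = u * c * (u * u) * c * (u * u) * c * u by group, hu,
        mul_one, mul_one, show u * c * c * c * u = u * (c * c * c) * u by group, hc, mul_one, hu]
    have h1 : d (y * d y * (d * d) y) = y * d y * (d * d) y := by
      rw [map_mul, map_mul, show d ((d * d) y) = (d * (d * d)) y from rfl, hd3, MulAut.one_apply,
        show d (d y) = (d * d) y from rfl]
      ac_rfl
    have h2 : c (u (y * d y * (d * d) y)) = u (y * d y * (d * d) y) := by
      have := congrArg (fun x => u x) h1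
      simp only [hd, MulAut.mul_apply] at this
      rwa [show ∀ x, u (u x) = x from fun x => by rw [← MulAut.mul_apply, hu, MulAut.one_apply]] at this
    exact u.map_eq_one_iff.1 (hfix _ h2)
  have k0 := key 1 (one_mul 1) y
  simp only [one_mul, mul_one] at k0
  have k1 := key v hv y
  have k2 := key v2 h22 y
  have k3 := key v3 h33 y
  have e1 : v * c * v = v3 * c := by rw [mul_assoc, cv, ← mul_assoc, hrel]
  have e2 : v2 * c * v2 = v * c := by rw [mul_assoc, cv2, ← mul_assoc, r23]
  have e3 : v3 * c * v3 = v2 * c := by rw [mul_assoc, cv3, ← mul_assoc, r31]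
  rw [e1, show v3 * c * (v3 * c) = v3 * (c * v3) * c by group, cv3, ← mul_assoc v3, r31,
    show v2 * c * c = v2 * (c * c) by group] at k1
  rw [e2, show v * c * (v * c) = v * (c * v) * c by group, cv, ← mul_assoc v, hrel,
    show v3 * c * c = v3 * (c * c) by group] at k2
  rw [e3, show v2 * c * (v2 * c) = v2 * (c * v2) * c by group, cv2, ← mul_assoc v2, r23,
    show v * c * c = v * (c * c) by group] at k3
  simp only [MulAut.mul_apply] at k0 k1 k2 k3
  set p := c y
  set q := c (c y)
  have hpq : p * q = y⁻¹ := by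
    refine eq_inv_of_mul_eq_one_left ?_
    rw [mul_comm, ← mul_assoc]; exact k0
  let N : A → A := fun x => x * v x * v2 x * v3 x
  have hNmul : ∀ a b, N (a * b) = N a * N b := fun a b => by simp only [N, map_mul]; ac_rfl
  have hNinv : N y⁻¹ = (N y)⁻¹ := by simp only [N, map_inv, mul_inv]
  have hprod : y * y * y * y * (N p * N q) = 1 := by
    have : (y * p * q) * (y * v3 p * v2 q) * (y * v p * v3 q) * (y * v2 p * v q) = 1 := by
      rw [k0, k1, k2, k3, one_mul, one_mul, one_mul]
    rw [← this]
    simp only [N]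
    ac_rfl
  rw [← hNmul, hpq, hNinv, mul_inv_eq_one] at hprod
  have hfixN : v (N y) = N y := by
    simp only [N, map_mul, ← MulAut.mul_apply, hv, hrel, r13, MulAut.one_apply]
    ac_rfl
  rw [← hprod] at hfixN
  obtain ⟨n, hn⟩ : Odd (orderOf y) := hodd.of_dvd_nat (orderOf_dvd_natCard y)
  have e : (y * y * y * y) ^ ((n + 1) * (n + 1)) = y := by
    rw [show y * y * y * y = y ^ 4 by rw [pow_succ, pow_succ, pow_two], ← pow_mul,
      show 4 * ((n + 1) * (n + 1)) = orderOf y * (orderOf y + 2) + 1 by rw [hn]; ring, pow_succ, pow_mul,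
      pow_orderOf_eq_one, one_pow, one_mul]
  rw [← e, map_pow, hfixN]

/-- A coset invariant under an element of order three meets its centralizer. -/
theorem exists_fixed_in_coset {G : Type*} [Group G] [Finite G] {E : Subgroup G} (hE : ∃ n, Nat.card E = 2 ^ n)
    {x w : G} (hx : x ^ 3 = 1) (hn : ∀ e ∈ E, x * e * x⁻¹ ∈ E) (hw : w⁻¹ * (x * w * x⁻¹) ∈ E) :
    ∃ e ∈ E, x * (w * e) = w * e * x := by
  classical
  haveI : Fact (Nat.Prime 3) := ⟨Nat.prime_three⟩
  haveI : Fintype E := Fintype.ofFinite E
  let f : E → E := fun e => ⟨w⁻¹ * (x * (w * e) * x⁻¹), by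
    rw [show w⁻¹ * (x * (w * (e : G)) * x⁻¹) = w⁻¹ * (x * w * x⁻¹) * (x * e * x⁻¹) by group]
    exact mul_mem hw (hn e e.2)⟩
  have hinj : Function.Injective f := fun a b e => Subtype.ext (by
    simpa [f] using congrArg Subtype.val e)
  let σ : Equiv.Perm E := Equiv.ofBijective f (Finite.injective_iff_bijective.1 hinj)
  have hσ : ∀ k : ℕ, ∀ e : E, ((σ ^ k) e : G) = w⁻¹ * (x ^ k * (w * e) * (x ^ k)⁻¹) := by
    intro k
    induction k with
    | zero => intro e; simp
    | succ k ih =>
      intro e
      rw [pow_succ', Equiv.Perm.mul_apply]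
      show w⁻¹ * (x * (w * ((σ ^ k) e : G)) * x⁻¹) = _
      rw [ih, pow_succ']
      group
  obtain ⟨n, hn2⟩ := hE
  obtain ⟨e, he⟩ := Equiv.Perm.exists_fixed_point_of_prime (p := 3) (n := 1) (σ := σ)
    (by
      rw [← Nat.card_eq_fintype_card, hn2]
      exact fun h => absurd (Nat.prime_three.dvd_of_dvd_pow h) (by decide))
    (by
      ext e
      rw [Equiv.Perm.one_apply, pow_one, hσ, hx]
      group)
  refine ⟨e, e.2, ?_⟩
  have h1 : w⁻¹ * (x * (w * (e : G)) * x⁻¹) = e := congrArg Subtype.val he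
  calc x * (w * (e : G)) = w * (w⁻¹ * (x * (w * e) * x⁻¹)) * x := by group
    _ = w * e * x := by rw [h1]

end Cfsg.Lib.PSpThree
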