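import Cfsg.Agent.Lib.SymNine.Act

/-!
# Coordinates for a self-centralising subgroup of order twenty-seven

The normalizer acts on it by signed permutations, and the set of signs is one of four. The centralizer of the
all-one element is known only inside the normalizer.
-/

set_option autoImplicit false
set_option maxHeartbeats 1600000

namespace Cfsg.Lib.PSpThree

open Subgroup Cfsg.Lib.SymNine

/-- The coordinates: `v` names the elements of `J` by codes, `p` names the coordinate permutations. -/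
structure Frame (G : Type*) [Group G] where
  /-- The elements of `J`. -/
  v : Fin 27 → G
  /-- The permutations. -/
  p : Fin 6 → G
  vinj : Function.Injective v
  vmul : ∀ i j, v (vAdd i j) = v i * v j
  pmul : ∀ k l, p (kmul k l) = p k * p l
  pv : ∀ k i, p k * v i = v (lap (lperm k) i) * p k
  free : ∀ i k, v i * p k = 1 → i = 0 ∧ k = 0
  cent : ∀ g, (∀ i, ∃ j, g * v i * g⁻¹ = v j) → g * v one1 = v one1 * g → ∃ i k, g = v i * p k
  sylC : ∀ K : Subgroup G, IsPGroup 3 K → (∀ y ∈ K, y * v one1 = v one1 * y) → Nat.card K ≤ 81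
  sig : ∀ K : Subgroup G, (Nat.card K).Coprime 3 →
    (∀ i, K.map (MulAut.conj (v i)).toMonoidHom = K) → K = ⊥

namespace Frame

variable {G : Type*} [Group G] (F : Frame G)

theorem v0 : F.v 0 = 1 := by
  have h := F.vmul 0 0
  rw [(code_facts.1 0).1] at h
  exact left_eq_mul.1 h

theorem p0 : F.p 0 = 1 := by
  have h := F.pmul 0 0
  rw [(kperm_facts.2.2.2.1 0).2.2.1] at h
  exact left_eq_mul.1 h

theorem v_inv (i : Fin 27) : (F.v i)⁻¹ = F.v (vSmul 2 i) :=
  inv_eq_of_mul_eq_one_right (by rw [← F.vmul, (code_facts.1 i).2.2.1, F.v0])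

theorem p_inv (k : Fin 6) : (F.p k)⁻¹ = F.p (kinv k) :=
  inv_eq_of_mul_eq_one_right (by rw [← F.pmul, (kperm_facts.2.2.2.1 k).1, F.p0])

theorem v_comm (i j : Fin 27) : Commute (F.v i) (F.v j) := by
  show F.v i * F.v j = F.v j * F.v i
  rw [← F.vmul, code_facts.2.1, F.vmul]

theorem v_cube (i : Fin 27) : F.v i ^ 3 = 1 := by
  rw [pow_succ', pow_two, ← F.vmul, ← F.vmul, code_facts.2.2, F.v0]

theorem v_eq_one {i : Fin 27} : F.v i = 1 ↔ i = 0 :=
  ⟨fun h => F.vinj (h.trans F.v0.symm), fun h => h ▸ F.v0⟩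

/-- The elementary abelian subgroup of order twenty-seven. -/
def J : Subgroup G where
  carrier := Set.range F.v
  one_mem' := ⟨0, F.v0⟩
  mul_mem' := by rintro _ _ ⟨i, rfl⟩ ⟨j, rfl⟩; exact ⟨_, F.vmul i j⟩
  inv_mem' := by rintro _ ⟨i, rfl⟩; exact ⟨_, (F.v_inv i).symm⟩

theorem v_mem (i : Fin 27) : F.v i ∈ F.J := ⟨i, rfl⟩

theorem mem_J {g : G} : g ∈ F.J ↔ ∃ i, F.v i = g := Iff.rfl

theorem card_J : Nat.card F.J = 27 := by
  show Nat.card (Set.range F.v) = 27
  rw [Nat.card_range_of_injective F.vinj, Nat.card_fin]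

theorem isMulCommutative_J : IsMulCommutative F.J :=
  ⟨⟨fun a b => Subtype.ext (by
    obtain ⟨i, hi⟩ := a.2
    obtain ⟨j, hj⟩ := b.2
    rw [Subgroup.coe_mul, Subgroup.coe_mul, ← hi, ← hj]
    exact (F.v_comm i j).eq)⟩⟩

theorem J_cube {g : G} (hg : g ∈ F.J) : g ^ 3 = 1 := by
  obtain ⟨i, rfl⟩ := hg
  exact F.v_cube i

/-- The central element. -/
def x : G := F.v one1

theorem x_mem : F.x ∈ F.J := F.v_mem one1

theorem vp_eq {i j : Fin 27} {k l : Fin 6} (h : F.v i * F.p k = F.v j * F.p l) : i = j ∧ k = l := by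
  have e : F.v (vAdd (vSmul 2 j) i) * F.p (kmul k (kinv l)) = 1 := by
    rw [F.vmul, F.pmul, ← F.v_inv, ← F.p_inv,
      show (F.v j)⁻¹ * F.v i * (F.p k * (F.p l)⁻¹) = (F.v j)⁻¹ * (F.v i * F.p k) * (F.p l)⁻¹ by group, h]
    group
  obtain ⟨h1, h2⟩ := F.free _ _ e
  have hi : i = j := by
    have h3 : F.v (vAdd (vSmul 2 j) i) = 1 := by rw [h1, F.v0]
    rw [F.vmul, ← F.v_inv, inv_mul_eq_one] at h3
    exact (F.vinj h3).symm
  refine ⟨hi, ?_⟩
  have key : ∀ k l : Fin 6, kmul k (kinv l) = 0 → k = l := by decide +kernel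
  exact key k l h2

/-- A change of coordinates commuting with the permutations. -/
def recoord (t : Fin 3) : Frame G where
  v := fun i => F.v (lap (phi t) i)
  p := F.p
  vinj := fun i j h => by
    have := congrArg (lap (phiInv t)) (F.vinj h)
    rwa [(mon_facts.2.2.2.1 t i).2, (mon_facts.2.2.2.1 t j).2] at this
  vmul := fun i j => by rw [mon_facts.2.2.2.2.2.2.1, F.vmul]
  pmul := F.pmul
  pv := fun k i => by
    have key : ∀ t : Fin 3, ∀ k : Fin 6, ∀ i : Fin 27,
        lap (lperm k) (lap (phi t) i) = lap (phi t) (lap (lperm k) i) := by decide +kernel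
    show F.p k * F.v _ = F.v _ * F.p k
    rw [F.pv, key]
  free := fun i k h => by
    obtain ⟨h1, h2⟩ := F.free _ _ h
    refine ⟨?_, h2⟩
    have key : ∀ t : Fin 3, ∀ i : Fin 27, lap (phi t) i = 0 → i = 0 := by decide +kernel
    exact key t i h1
  cent := fun g hN hc => by
    simp only [mon_facts.2.2.2.2.2.1] at hc
    obtain ⟨i, k, rfl⟩ := F.cent g (fun i => by
      obtain ⟨j, hj⟩ := hN (lap (phiInv t) i)
      rw [(mon_facts.2.2.2.1 t i).1] at hj
      exact ⟨_, hj⟩) hc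
    exact ⟨lap (phiInv t) i, k, by rw [(mon_facts.2.2.2.1 t i).1]⟩
  sylC := fun K hK hc => F.sylC K hK fun y hy => by simpa only [mon_facts.2.2.2.2.2.1] using hc y hy
  sig := fun K hK h => F.sig K hK fun i => by
    have := h (lap (phiInv t) i)
    rwa [(mon_facts.2.2.2.1 t i).1] at this

theorem recoord_J (t : Fin 3) : (F.recoord t).J = F.J := by
  ext g
  constructor
  · rintro ⟨i, rfl⟩; exact ⟨_, rfl⟩
  · rintro ⟨i, rfl⟩
    exact ⟨lap (phiInv t) i, by show F.v _ = _; rw [(mon_facts.2.2.2.1 t i).1]⟩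

end Frame

namespace Frame

variable {G : Type*} [Group G] (F : Frame G)

/-- The index of an element of `J`. -/
noncomputable def idx (g : G) : Fin 27 := Function.invFun F.v g

theorem idx_v (i : Fin 27) : F.idx (F.v i) = i := Function.leftInverse_invFun F.vinj i

theorem v_idx {g : G} (hg : g ∈ F.J) : F.v (F.idx g) = g := by
  obtain ⟨i, rfl⟩ := hg
  rw [F.idx_v]

/-- The linear map of an element normalising `J`. -/
noncomputable def lin (n : G) : Lin :=
  (F.idx (n * F.v 9 * n⁻¹), F.idx (n * F.v 3 * n⁻¹), F.idx (n * F.v 1 * n⁻¹))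

theorem v_smul {k : ℕ} (hk : k < 3) (i : Fin 27) : F.v (vSmul k i) = F.v i ^ k := by
  rw [lap_facts.2.2.1 k hk i]
  interval_cases k
  · simp [F.v0]
  · simp
  · simp [F.vmul, pow_two]

theorem v_lap (g : Lin) (i : Fin 27) :
    F.v (lap g i) = F.v g.1 ^ (i.val / 9) * (F.v g.2.1 ^ (i.val / 3 % 3) * F.v g.2.2 ^ (i.val % 3)) := by
  rw [lap, F.vmul, F.vmul, F.v_smul (by omega), F.v_smul (by omega), F.v_smul (by omega)]

theorem v_lin {n : G} (hn : n ∈ normalizer (F.J : Set G)) (i : Fin 27) :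
    n * F.v i * n⁻¹ = F.v (lap (F.lin n) i) := by
  have hj : ∀ j, n * F.v j * n⁻¹ ∈ F.J := fun j => (mem_normalizer_iff.1 hn _).1 (F.v_mem j)
  rw [F.v_lap]
  simp only [lin, F.v_idx (hj _), conj_pow]
  conv_lhs => rw [← lap_facts.1 i]
  rw [F.vmul, F.vmul, F.v_smul (by omega), F.v_smul (by omega), F.v_smul (by omega)]
  group

theorem lin_mul {n m : G} (hn : n ∈ normalizer (F.J : Set G)) (hm : m ∈ normalizer (F.J : Set G)) :
    lcomp (F.lin n) (F.lin m) = F.lin (n * m) := by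
  have key : ∀ j, lap (F.lin n) (F.idx (m * F.v j * m⁻¹)) = F.idx (n * m * F.v j * (n * m)⁻¹) := by
    intro j
    apply F.vinj
    rw [← F.v_lin hn, F.v_idx ((mem_normalizer_iff.1 hm _).1 (F.v_mem j)),
      F.v_idx ((mem_normalizer_iff.1 (mul_mem hn hm) _).1 (F.v_mem j))]
    group
  exact Prod.ext (key 9) (Prod.ext (key 3) (key 1))

theorem lap_lin_mul {n m : G} (hn : n ∈ normalizer (F.J : Set G)) (hm : m ∈ normalizer (F.J : Set G)) (i : Fin 27) :
    lap (F.lin (n * m)) i = lap (F.lin n) (lap (F.lin m) i) := by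
  apply F.vinj
  rw [← F.v_lin (mul_mem hn hm), ← F.v_lin hn, ← F.v_lin hm]
  group

theorem p_mem_normalizer (k : Fin 6) : F.p k ∈ normalizer (F.J : Set G) := by
  have h : ∀ l i, F.p l * F.v i * (F.p l)⁻¹ = F.v (lap (lperm l) i) := fun l i => by
    rw [F.pv, mul_inv_cancel_right]
  refine mem_normalizer_iff.2 fun g => ⟨?_, fun hg => ?_⟩
  · rintro ⟨i, rfl⟩
    exact ⟨_, (h k i).symm⟩
  · obtain ⟨i, hi⟩ := hg
    refine ⟨lap (lperm (kinv k)) i, ?_⟩
    rw [← h, ← F.p_inv, hi]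
    group

theorem lin_p (k : Fin 6) : F.lin (F.p k) = lperm k := by
  have h : ∀ j, F.idx (F.p k * F.v j * (F.p k)⁻¹) = lap (lperm k) j := fun j => by
    rw [F.pv, mul_inv_cancel_right, F.idx_v]
  have h2 : ∀ k : Fin 6, (lap (lperm k) 9, lap (lperm k) 3, lap (lperm k) 1) = lperm k := by decide +kernel
  simp only [lin, h, h2]

theorem lin_v (j : Fin 27) : F.lin (F.v j) = lperm 0 := by
  have h : ∀ i, F.idx (F.v j * F.v i * (F.v j)⁻¹) = i := fun i => by
    rw [(F.v_comm j i).eq, mul_inv_cancel_right, F.idx_v]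
  simp only [lin, h]
  rfl

theorem v_mem_normalizer (j : Fin 27) : F.v j ∈ normalizer (F.J : Set G) :=
  Subgroup.le_normalizer (F.v_mem j)

theorem lin_eq_lperm {n : G} {k : Fin 6} (hn : ∃ i, n = F.v i * F.p k) : F.lin n = lperm k := by
  obtain ⟨i, rfl⟩ := hn
  rw [← F.lin_mul (F.v_mem_normalizer i) (F.p_mem_normalizer k), F.lin_v, F.lin_p]
  have key : ∀ k : Fin 6, lcomp (lperm 0) (lperm k) = lperm k := by decide +kernel
  exact key k

theorem groupLike [Finite G] : GroupLike (F.lin '' (normalizer (F.J : Set G) : Set G)) where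
  perm_mem k := ⟨F.p k, F.p_mem_normalizer k, F.lin_p k⟩
  comp_mem := by
    rintro _ ⟨n, hn, rfl⟩ _ ⟨m, hm, rfl⟩
    exact ⟨n * m, mul_mem hn hm, (F.lin_mul hn hm).symm⟩
  lap_comp := by
    rintro _ ⟨n, hn, rfl⟩ _ ⟨m, hm, rfl⟩ i
    rw [F.lin_mul hn hm, F.lap_lin_mul hn hm]
  inj := by
    rintro _ ⟨n, hn, rfl⟩ i j h
    apply F.vinj
    have := congrArg F.v h
    rwa [← F.v_lin hn, ← F.v_lin hn, mul_left_inj, mul_right_inj] at this
  zero := by
    rintro _ ⟨n, hn, rfl⟩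
    apply F.vinj
    rw [← F.v_lin hn, F.v0]
    group
  one := by
    rintro _ ⟨n, hn, rfl⟩ h
    have h1 : n * F.v one1 = F.v one1 * n := by
      have := F.v_lin hn one1
      rw [h] at this
      exact mul_inv_eq_iff_eq_mul.1 this
    obtain ⟨i, k, rfl⟩ := F.cent n (fun i => ⟨_, F.v_lin hn i⟩) h1
    rw [F.lin_eq_lperm ⟨i, rfl⟩]
    exact List.any_eq_true.2 ⟨k, List.mem_finRange _, by simp⟩
  unit := by
    rintro _ ⟨n, hn, rfl⟩
    rw [← F.lin_p 0, F.lin_mul hn (F.p_mem_normalizer 0), F.p0, mul_one]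

/-- An element acts as a signed permutation. -/
def ActsAs (n : G) (s : Fin 8) (k : Fin 6) : Prop := ∀ i, n * F.v i * n⁻¹ = F.v (lap (lsgn s k) i)

theorem actsAs_unique {n : G} {s t : Fin 8} {k l : Fin 6} (h : F.ActsAs n s k) (h' : F.ActsAs n t l) :
    s = t ∧ k = l := by
  refine lsgn_facts.2.2.2.1 s k t l ?_
  have key : ∀ s k, lsgn s k = (lap (lsgn s k) 9, lap (lsgn s k) 3, lap (lsgn s k) 1) := by decide +kernel
  have e : ∀ i, lap (lsgn s k) i = lap (lsgn t l) i := fun i => F.vinj ((h i).symm.trans (h' i))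
  rw [key s k, key t l, e, e, e]

theorem actsAs_mul {n m : G} {s t : Fin 8} {k l : Fin 6} (h : F.ActsAs n s k) (h' : F.ActsAs m t l) :
    ∀ i, n * m * F.v i * (n * m)⁻¹ = F.v (lap (lcomp (lsgn s k) (lsgn t l)) i) := fun i => by
  rw [show n * m * F.v i * (n * m)⁻¹ = n * (m * F.v i * m⁻¹) * n⁻¹ by group, h', F.v_lap,
    F.v_lap (lcomp _ _), lcomp]
  have h2 : ∀ j, F.v (lap (lsgn s k) j) = n * F.v j * n⁻¹ := fun j => (h j).symm
  simp only [h2, conj_pow]
  group

theorem actsAs_p (k : Fin 6) : F.ActsAs (F.p k) 0 k := fun i => by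
  rw [F.pv, mul_inv_cancel_right, lsgn_facts.2.2.2.2.1]

theorem actsAs_v (j : Fin 27) : F.ActsAs (F.v j) 0 0 := fun i => by
  have key : ∀ i, lap (lsgn 0 0) i = i := by decide +kernel
  rw [(F.v_comm j i).eq, mul_inv_cancel_right, key]

/-- The signs that occur. -/
def Sign (s : Fin 8) : Prop := ∃ n ∈ normalizer (F.J : Set G), ∃ k, F.ActsAs n s k

/-- The action is by signed permutations. -/
def Monomial : Prop := ∀ n ∈ normalizer (F.J : Set G), ∃ s k, F.ActsAs n s k

end Frame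

/-- Coordinates in which the normalizer acts by signed permutations. -/
theorem Frame.exists_monomial {G : Type*} [Group G] [Finite G] (F : Frame G) :
    ∃ F' : Frame G, F'.J = F.J ∧ F'.x = F.x ∧ F'.Monomial := by
  obtain ⟨t, ht⟩ := exists_system F.groupLike
  refine ⟨F.recoord t, F.recoord_J t, ?_, fun n hn => ?_⟩
  · show F.v (lap (phi t) one1) = F.v one1
    have key : ∀ t : Fin 3, lap (phi t) one1 = one1 := by decide +kernel
    rw [key]
  rw [F.recoord_J] at hn
  have h := ht _ ⟨n, hn, rfl⟩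
  simp only [monL, List.mem_flatMap, List.mem_map, List.mem_finRange, true_and] at h
  obtain ⟨s, k, h⟩ := h
  refine ⟨s, k, fun i => ?_⟩
  show n * F.v (lap (phi t) i) * n⁻¹ = F.v (lap (phi t) (lap (lsgn s k) i))
  rw [F.v_lin hn, ← h, lsgn_facts.1, (mon_facts.2.2.2.1 t i).2]

/-- The four possibilities. -/
theorem Frame.sign_cases {G : Type*} [Group G] [Finite G] (F : Frame G) (hM : F.Monomial) :
    ∃ m, ∀ s, F.Sign s ↔ signSets m s = true := by
  classical
  have h0 : ∀ s, F.Sign s → ∀ l, ∃ n ∈ normalizer (F.J : Set G), F.ActsAs n s l := by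
    rintro s ⟨n, hn, k, hk⟩ l
    refine ⟨n * F.p (kmul (kinv k) l), mul_mem hn (F.p_mem_normalizer _), fun i => ?_⟩
    rw [F.actsAs_mul hk (F.actsAs_p _)]
    have key : ∀ s k l, lcomp (lsgn s k) (lsgn 0 (kmul (kinv k) l)) = lsgn s l := by decide +kernel
    rw [key]
  obtain ⟨m, hm⟩ := okSigns_cases (fun s => decide (F.Sign s)) (by
    simp only [okSigns, Bool.and_eq_true, List.all_eq_true, List.mem_finRange, forall_const, Bool.or_eq_true,
      Bool.not_eq_true', decide_eq_true_eq, decide_eq_false_iff_not]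
    refine ⟨⟨F.p 0, F.p_mem_normalizer 0, 0, F.actsAs_p 0⟩, fun s => ?_⟩
    by_cases hs : F.Sign s
    · refine Or.inr ⟨fun t => ?_, fun k => ?_⟩
      · by_cases ht : F.Sign t
        · refine Or.inr ?_
          obtain ⟨n, hn, hns⟩ := h0 s hs 0
          obtain ⟨m, hm, hmt⟩ := h0 t ht 0
          refine ⟨n * m, mul_mem hn hm, 0, fun i => ?_⟩
          rw [F.actsAs_mul hns hmt]
          have key : ∀ s t, lcomp (lsgn s 0) (lsgn t 0) = lsgn (Fin.ofNat 8 (s.val ^^^ t.val)) 0 := by decide +kernel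
          rw [key]
        · exact Or.inl ht
      · obtain ⟨n, hn, hns⟩ := h0 s hs 0
        refine ⟨F.p k * n, mul_mem (F.p_mem_normalizer _) hn, kmul k 0, fun i => ?_⟩
        rw [F.actsAs_mul (F.actsAs_p k) hns, lsgn_facts.2.2.1]
        simp
    · exact Or.inl hs)
  refine ⟨m, fun s => ?_⟩
  rw [← congrFun hm s]
  simp

end Cfsg.Lib.PSpThree
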