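import Cfsg.Agent.Lib.PSpThree.CentInvN
import Cfsg.Agent.Lib.SymNine.Full

/-!
# All signs

A complement of `J` in its normalizer: the centralizer of an inversion of `J`.
-/

set_option autoImplicit false
set_option maxHeartbeats 1600000
set_option maxRecDepth 100000
set_option linter.unusedSectionVars false
set_option linter.style.haveILetI false

namespace Cfsg.Lib.PSpThree

open Subgroup Cfsg.Lib.SymNine

namespace Frame

variable {G : Type*} [Group G] [Finite G] {F : Frame G}

/-- An inversion of `J` centralising the permutations, with all signs present. -/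
structure Full (F : Frame G) where
  /-- All signs are present. -/
  isCase : F.IsCase 3
  /-- The inversion. -/
  inv : G
  inv_sq : inv * inv = 1
  inv_act : F.ActsAs inv 7 0
  inv_p : ∀ k, F.p k * inv = inv * F.p k

theorem exists_full (h : F.IsCase 3) : ∃ F' : Frame G, F'.J = F.J ∧ F'.x = F.x ∧ Nonempty F'.Full := by
  have hid : F.ActsAs (1 : G) 0 0 := fun i => by
    show _ = F.v (act 0 0 i)
    rw [act_facts.1]; group
  have c0 : ∀ i, act 0 0 i = i := act_facts.1
  obtain ⟨ι, -, hιa, -, hιι⟩ := h.exists_inv_lift (one_mul 1) hid full_facts.2.2.1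
    (fun i => by rw [c0, c0]) full_facts.2.1
  have hex : ∀ k, ∃ n ∈ normalizer (F.J : Set G), F.ActsAs n 0 k ∧ n * ι = ι * n := fun k =>
    h.exists_commuting_lift hιι hιa (full_facts.2.2.2.2.1 0) (full_facts.2.2.2.1 0 k)
  choose p hpN hpa hpι using hex
  have huniq : ∀ {n n' : G} {s : Fin 8} {k : Fin 6}, F.ActsAs n s k → F.ActsAs n' s k → n * ι = ι * n →
      n' * ι = ι * n' → n = n' := by
    intro n n' s k h1 h2 h3 h4
    obtain ⟨i, hi⟩ := inv_mul_mem_J h1 h2
    have h5 : F.v i * ι = ι * F.v i := by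
      rw [hi]
      exact ((show Commute n ι from h3).inv_left.mul_left (show Commute n' ι from h4)).eq
    rw [full_facts.1 i ((comm_v_iff hιa i).1 h5), F.v0] at hi
    exact inv_mul_eq_one.1 hi.symm
  have hp0 : p 0 = 1 := huniq (hpa 0) hid (hpι 0) (by rw [one_mul, mul_one])
  have hold : ∀ k, ∃ c, F.p k = F.v c * p k := fun k => by
    obtain ⟨c, hc⟩ := inv_mul_mem_J (F.actsAs_p k) (hpa k)
    obtain ⟨c', hc'⟩ := (mem_normalizer_iff.1 (F.p_mem_normalizer k) _).1 (F.v_mem c)
    refine ⟨vSmul 2 c', ?_⟩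
    have e1 : p k = F.p k * F.v c := by rw [hc]; group
    have e2 : p k = F.v c' * F.p k := by rw [e1, hc']; group
    rw [e2, ← F.v_inv, inv_mul_cancel_left]
  let F' : Frame G := {
    v := F.v
    p := p
    vinj := F.vinj
    vmul := F.vmul
    pmul := fun k l => by
      have key : ∀ k, sComp 0 k 0 = 0 := by decide +kernel
      refine huniq (hpa _) ?_ (hpι _) ?_
      · have := (hpa k).comp (hpa l)
        rwa [key] at this
      · exact ((show Commute (p k) ι from hpι k).mul_left (show Commute (p l) ι from hpι l)).eq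
    pv := fun k i => by
      have key : ∀ k i, act 0 k i = lap (lperm k) i := by decide +kernel
      rw [← key, ← actsAs_act (hpa k)]
      group
    free := fun i k e => by
      have h1 := (F.actsAs_v i).comp (hpa k)
      rw [e] at h1
      obtain ⟨-, h2⟩ := F.actsAs_unique hid h1
      rw [full_facts.2.2.2.2.2.2.1] at h2
      subst h2
      rw [hp0, mul_one, F.v_eq_one] at e
      exact ⟨e, rfl⟩
    cent := fun g hN hc => by
      obtain ⟨i, k, rfl⟩ := F.cent g hN hc
      obtain ⟨c, hc⟩ := hold k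
      exact ⟨vAdd i c, k, by rw [F.vmul, hc, mul_assoc]⟩
    sylC := F.sylC
    sig := F.sig }
  exact ⟨F', rfl, rfl, ⟨{
    isCase := ⟨h.mono, h.sign⟩
    inv := ι
    inv_sq := hιι
    inv_act := hιa
    inv_p := hpι }⟩⟩

namespace Full

variable (D : F.Full)

theorem sign_true (s : Fin 8) : signSets 3 s = true := full_facts.2.2.2.2.1 s

/-- The element centralising the inversion with the given action. -/
noncomputable def w (s : Fin 8) (k : Fin 6) : G :=
  (D.isCase.exists_commuting_lift D.inv_sq D.inv_act (sign_true s) (full_facts.2.2.2.1 s k)).choose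

theorem w_spec (s : Fin 8) (k : Fin 6) :
    D.w s k ∈ normalizer (F.J : Set G) ∧ F.ActsAs (D.w s k) s k ∧ D.w s k * D.inv = D.inv * D.w s k :=
  (D.isCase.exists_commuting_lift D.inv_sq D.inv_act (sign_true s) (full_facts.2.2.2.1 s k)).choose_spec

theorem w_eq {g : G} {s : Fin 8} {k : Fin 6} (hg : F.ActsAs g s k) (hgi : g * D.inv = D.inv * g) :
    g = D.w s k := by
  obtain ⟨-, h2, h3⟩ := D.w_spec s k
  obtain ⟨i, hi⟩ := inv_mul_mem_J hg h2
  have h5 : F.v i * D.inv = D.inv * F.v i := by
    rw [hi]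
    exact ((show Commute g D.inv from hgi).inv_left.mul_left (show Commute (D.w s k) D.inv from h3)).eq
  rw [full_facts.1 i ((comm_v_iff D.inv_act i).1 h5), F.v0] at hi
  exact inv_mul_eq_one.1 hi.symm

theorem w_mul (s t : Fin 8) (k l : Fin 6) : D.w s k * D.w t l = D.w (sComp s k t) (kmul k l) :=
  D.w_eq ((D.w_spec s k).2.1.comp (D.w_spec t l).2.1)
    ((show Commute (D.w s k) D.inv from (D.w_spec s k).2.2).mul_left
      (show Commute (D.w t l) D.inv from (D.w_spec t l).2.2)).eq

theorem w_p (k : Fin 6) : D.w 0 k = F.p k := (D.w_eq (F.actsAs_p k) (D.inv_p k)).symm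

theorem w_one : D.w 0 0 = 1 := by rw [w_p, F.p0]

theorem w_inv : D.w 7 0 = D.inv := (D.w_eq D.inv_act rfl).symm

theorem exists_eq {g : G} (hg : g ∈ normalizer (F.J : Set G)) :
    ∃ i s k, g = F.v i * D.w s k ∧ F.ActsAs g s k := by
  obtain ⟨s, k, -, hsk⟩ := D.isCase.exists_act hg
  obtain ⟨-, hwa, -⟩ := D.w_spec s k
  have h1 := inv_mul_mem_J hwa hsk
  have h2 := (mem_normalizer_iff.1 (D.w_spec s k).1 _).1 h1
  rw [show D.w s k * ((D.w s k)⁻¹ * g) * (D.w s k)⁻¹ = g * (D.w s k)⁻¹ by group] at h2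
  obtain ⟨i, hi⟩ := h2
  exact ⟨i, s, k, by rw [hi]; group, hsk⟩

theorem w_ne_one {s : Fin 8} {k : Fin 6} (h : ¬ (s = 0 ∧ k = 0)) : D.w s k ≠ 1 := fun e => h (by
  have h1 := (D.w_spec s k).2.1
  rw [e, ← D.w_one] at h1
  exact F.actsAs_unique h1 (D.w_spec 0 0).2.1)

theorem w_sq {s : Fin 8} {k : Fin 6} (hs : sComp s k s = 0) (hk : kmul k k = 0) : D.w s k * D.w s k = 1 := by
  rw [w_mul, hs, hk, w_one]

end Full

end Frame

end Cfsg.Lib.PSpThree
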