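import Cfsg.Agent.Lib.PSpThree.FrameN
import Cfsg.Agent.Lib.SymNine.Basic

/-!
# The Sylow 3-subgroup and fusion in `J`

`J` is the only elementary abelian subgroup of order 27 of a Sylow 3-subgroup, so its normalizer controls fusion
in it, and away from the class of the central element it is a Sylow subgroup of a centralizer.
-/

set_option autoImplicit false
set_option maxHeartbeats 1600000
set_option linter.unusedSectionVars false
set_option linter.style.haveILetI false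

namespace Cfsg.Lib.PSpThree

open Subgroup Cfsg.Lib.SymNine

namespace Frame

variable {G : Type*} [Group G] {F : Frame G}

theorem actsAs_act {n : G} {s : Fin 8} {k : Fin 6} (h : F.ActsAs n s k) (i : Fin 27) :
    n * F.v i * n⁻¹ = F.v (act s k i) := h i

theorem ActsAs.comp {n m : G} {s t : Fin 8} {k l : Fin 6} (h : F.ActsAs n s k) (h' : F.ActsAs m t l) :
    F.ActsAs (n * m) (sComp s k t) (kmul k l) := fun i => by
  rw [F.actsAs_mul h h', lcomp_lsgn]

theorem ActsAs.pow {n : G} {s : Fin 8} {k : Fin 6} (h : F.ActsAs n s k) (e : ℕ) (i : Fin 27) :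
    n ^ e * F.v i * (n ^ e)⁻¹ = F.v (((act s k)^[e]) i) := by
  induction e with
  | zero => simp
  | succ e ih =>
    rw [Function.iterate_succ_apply', ← actsAs_act h, ← ih, pow_succ']
    group

theorem ActsAs.mem_normalizer [Finite G] {n : G} {s : Fin 8} {k : Fin 6} (h : F.ActsAs n s k) :
    n ∈ normalizer (F.J : Set G) := by
  refine Fusion.le_normalizer_of_conj_mem ?_
  rintro _ ⟨i, rfl⟩
  exact ⟨_, (h i).symm⟩

theorem Sign.exists_act {s : Fin 8} (h : F.Sign s) (l : Fin 6) :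
    ∃ n ∈ normalizer (F.J : Set G), F.ActsAs n s l := by
  obtain ⟨n, hn, k, hk⟩ := h
  refine ⟨n * F.p (kmul (kinv k) l), mul_mem hn (F.p_mem_normalizer _), fun i => ?_⟩
  rw [F.actsAs_mul hk (F.actsAs_p _)]
  have key : ∀ s k l, lcomp (lsgn s k) (lsgn 0 (kmul (kinv k) l)) = lsgn s l := by decide +kernel
  rw [key]

theorem mem_J_of_act {n : G} (h : F.ActsAs n 0 0) : n ∈ F.J := by
  have h1 : n * F.v one1 = F.v one1 * n := by
    have h2 := actsAs_act h one1
    rw [act_facts.1] at h2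
    exact mul_inv_eq_iff_eq_mul.1 h2
  obtain ⟨i, k, rfl⟩ := F.cent n (fun i => ⟨_, h i⟩) h1
  have hk : F.ActsAs (F.v i * F.p k) (sComp 0 0 0) (kmul 0 k) := (F.actsAs_v i).comp (F.actsAs_p k)
  obtain ⟨-, h3⟩ := F.actsAs_unique h hk
  rw [(kperm_facts.2.2.2.1 k).2.2.2] at h3
  rw [← h3, F.p0, mul_one]
  exact F.v_mem i

theorem actsAs_vp (i : Fin 27) (k : Fin 6) : F.ActsAs (F.v i * F.p k) 0 k := by
  intro j
  rw [show F.v i * F.p k * F.v j * (F.v i * F.p k)⁻¹ = F.v i * (F.p k * F.v j * (F.p k)⁻¹) * (F.v i)⁻¹ by group,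
    F.actsAs_p k j, (F.v_comm i _).eq, mul_inv_cancel_right]

theorem cent_J : centralizer (F.J : Set G) = F.J := by
  refine le_antisymm (fun n hn => mem_J_of_act fun i => ?_) fun y hy => mem_centralizer_iff.2 fun z hz => ?_
  · show _ = F.v (act 0 0 i)
    rw [act_facts.1, ← mem_centralizer_iff.1 hn _ (F.v_mem i), mul_inv_cancel_right]
  · obtain ⟨i, rfl⟩ := hy
    obtain ⟨j, rfl⟩ := hz
    exact (F.v_comm j i).eq

variable (F) in
/-- The Sylow 3-subgroup. -/
def P : Subgroup G where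
  carrier := {g | ∃ i k, (k = 0 ∨ k = 3 ∨ k = 4) ∧ g = F.v i * F.p k}
  one_mem' := ⟨0, 0, Or.inl rfl, by rw [F.v0, F.p0, mul_one]⟩
  mul_mem' := by
    rintro _ _ ⟨i, k, hk, rfl⟩ ⟨j, l, hl, rfl⟩
    refine ⟨vAdd i (lap (lperm k) j), kmul k l, (pk3_facts k hk l hl).1, ?_⟩
    rw [F.vmul, F.pmul, mul_assoc, ← mul_assoc (F.p k), F.pv]
    group
  inv_mem' := by
    rintro _ ⟨i, k, hk, rfl⟩
    refine ⟨lap (lperm (kinv k)) (vSmul 2 i), kinv k, (pk3_facts k hk k hk).2, ?_⟩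
    rw [mul_inv_rev, F.v_inv, F.p_inv, F.pv]

theorem J_le_P : F.J ≤ F.P := by
  rintro _ ⟨i, rfl⟩
  exact ⟨i, 0, Or.inl rfl, by rw [F.p0, mul_one]⟩

theorem p_comm_x (k : Fin 6) : F.p k * F.x = F.x * F.p k := by
  have key : ∀ k, lap (lperm k) one1 = one1 := by decide +kernel
  rw [x, F.pv, key]

theorem P_le_cent : F.P ≤ centralizer ({F.x} : Set G) := by
  rintro _ ⟨i, k, -, rfl⟩
  refine mem_centralizer_singleton_iff.2 ?_
  exact ((show Commute (F.v i) F.x from F.v_comm i one1).mul_left (show Commute (F.p k) F.x from p_comm_x k)).eq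

theorem card_P : Nat.card F.P = 81 := by
  let f : Fin 27 × Fin 3 → F.P := fun q =>
    ⟨F.v q.1 * F.p (![0, 3, 4] q.2), q.1, _, by
      have key : ∀ u : Fin 3, (![0, 3, 4] u : Fin 6) = 0 ∨ (![0, 3, 4] u : Fin 6) = 3 ∨
          (![0, 3, 4] u : Fin 6) = 4 := by decide
      exact key _, rfl⟩
  have hf : Function.Bijective f := by
    refine ⟨fun a b h => ?_, ?_⟩
    · obtain ⟨h1, h2⟩ := F.vp_eq (congrArg Subtype.val h)
      have key : ∀ u w : Fin 3, (![0, 3, 4] u : Fin 6) = ![0, 3, 4] w → u = w := by decide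
      exact Prod.ext h1 (key _ _ h2)
    · rintro ⟨g, i, k, hk, rfl⟩
      rcases hk with rfl | rfl | rfl
      · exact ⟨(i, 0), rfl⟩
      · exact ⟨(i, 1), rfl⟩
      · exact ⟨(i, 2), rfl⟩
  rw [← Nat.card_eq_of_bijective f hf, Nat.card_prod, Nat.card_fin, Nat.card_fin]

theorem P_isPGroup : IsPGroup 3 F.P := IsPGroup.of_card (n := 4) (by rw [card_P]; rfl)

/-- The elements of the Sylow subgroup commuting with all of it. -/
theorem center_P {z : G} (hz : z ∈ F.P) (h : ∀ y ∈ F.P, y * z = z * y) :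
    z = 1 ∨ z = F.x ∨ z = F.x⁻¹ := by
  have hJ : z ∈ F.J := cent_J (F := F) ▸ mem_centralizer_iff.2 fun y hy => h y (J_le_P hy)
  obtain ⟨i, rfl⟩ := hJ
  have h3 := h (F.v 0 * F.p 3) ⟨0, 3, Or.inr (Or.inl rfl), rfl⟩
  rw [F.v0, one_mul, F.pv, mul_left_inj] at h3
  rcases act_facts.2.2.1 i (F.vinj h3) with rfl | rfl | rfl
  · exact Or.inl F.v0
  · exact Or.inr (Or.inl rfl)
  · exact Or.inr (Or.inr (by rw [x, F.v_inv]))

theorem exists_pow_eq_one {R : Subgroup G} (hR : IsPGroup 3 R) {y : G} (hy : y ∈ R) : ∃ n : ℕ, y ^ 3 ^ n = 1 := by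
  obtain ⟨n, hn⟩ := hR ⟨y, hy⟩
  exact ⟨n, congrArg Subtype.val hn⟩

variable [Finite G]

theorem mem_P_of_join {y : G} (hN : y ∈ normalizer (F.P : Set G))
    (h : y * F.x = F.x * y ∧ ∃ n : ℕ, y ^ 3 ^ n = 1) : y ∈ F.P := by
  obtain ⟨hy1, n, hn⟩ := h
  have hp : IsPGroup 3 (zpowers y) := by
    rintro ⟨z, i, rfl⟩
    exact ⟨n, Subtype.ext (by
      show (y ^ i) ^ 3 ^ n = 1
      rw [← zpow_natCast, ← zpow_mul, mul_comm, zpow_mul, zpow_natCast, hn, one_zpow])⟩
  have hsup := hp.to_sup_of_normal_right' (P_isPGroup (F := F)) (zpowers_le.2 hN)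
  have hcard := F.sylC (zpowers y ⊔ F.P) hsup fun z hz =>
    mem_centralizer_singleton_iff.1 ((sup_le (zpowers_le.2 (mem_centralizer_singleton_iff.2 hy1)) P_le_cent :
      zpowers y ⊔ F.P ≤ centralizer ({F.x} : Set G)) hz)
  rw [eq_of_le_of_card_ge (le_sup_right : F.P ≤ zpowers y ⊔ F.P) (by rw [card_P]; exact hcard)]
  exact le_sup_left (b := F.P) (mem_zpowers y)

theorem exists_sylow (F : Frame G) : ∃ S : Sylow 3 G, (S : Subgroup G) = F.P := by
  haveI : Fact (Nat.Prime 3) := ⟨Nat.prime_three⟩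
  obtain ⟨S, hS⟩ := (P_isPGroup (F := F)).exists_le_sylow
  refine ⟨S, by_contra fun hne => ?_⟩
  haveI : Group.IsNilpotent (S : Subgroup G) := S.isPGroup'.isNilpotent
  have hlt : F.P.subgroupOf (S : Subgroup G) < ⊤ := by
    rw [lt_top_iff_ne_top, Ne, subgroupOf_eq_top]
    exact fun h => hne (le_antisymm h hS)
  obtain ⟨y, hy, hyP⟩ := SetLike.exists_of_lt (Group.normalizerCondition_of_isNilpotent _ hlt)
  refine hyP (mem_subgroupOf.2 ?_)
  obtain ⟨n, hn⟩ := exists_pow_eq_one S.isPGroup' y.2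
  have hN : ∀ a ∈ F.P, (y : G) * a * (y : G)⁻¹ ∈ F.P := fun a ha =>
    (mem_normalizer_iff.1 hy ⟨a, hS ha⟩).1 ha
  have hz : ∀ a ∈ F.P, a * F.x = F.x * a := fun a ha => mem_centralizer_singleton_iff.1 (P_le_cent ha)
  have hyinv : ∀ a ∈ F.P, (y : G)⁻¹ * a * (y : G) ∈ F.P := fun a ha => by
    have h1 := (mem_normalizer_iff.1 (inv_mem hy) ⟨a, hS ha⟩).1 ha
    simpa [mem_subgroupOf] using h1
  have hc : ∀ a ∈ F.P, a * ((y : G) * F.x * (y : G)⁻¹) = ((y : G) * F.x * (y : G)⁻¹) * a := fun a ha => by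
    calc a * ((y : G) * F.x * (y : G)⁻¹) = (y : G) * (((y : G)⁻¹ * a * (y : G)) * F.x) * (y : G)⁻¹ := by group
      _ = (y : G) * (F.x * ((y : G)⁻¹ * a * (y : G))) * (y : G)⁻¹ := by rw [hz _ (hyinv a ha)]
      _ = _ := by group
  have hx1 : F.x ≠ 1 := fun h => by
    rw [x, F.v_eq_one] at h
    exact absurd h (by decide)
  have h2 : (y : G) ^ 2 * F.x = F.x * (y : G) ^ 2 := by
    rcases center_P (hN _ (J_le_P F.x_mem)) hc with h | h | h
    · exact absurd (conj_eq_one_iff.1 h) hx1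
    · rw [← mul_inv_eq_iff_eq_mul]
      calc (y : G) ^ 2 * F.x * ((y : G) ^ 2)⁻¹ = (y : G) * ((y : G) * F.x * (y : G)⁻¹) * (y : G)⁻¹ := by
            rw [pow_two]; group
        _ = F.x := by rw [h, h]
    · rw [← mul_inv_eq_iff_eq_mul]
      calc (y : G) ^ 2 * F.x * ((y : G) ^ 2)⁻¹ = (y : G) * ((y : G) * F.x * (y : G)⁻¹) * (y : G)⁻¹ := by
            rw [pow_two]; group
        _ = (y : G) * F.x⁻¹ * (y : G)⁻¹ := by rw [h]
        _ = ((y : G) * F.x * (y : G)⁻¹)⁻¹ := by group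
        _ = F.x := by rw [h, inv_inv]
  obtain ⟨a, ha⟩ := (Nat.odd_iff.2 (show 3 ^ n % 2 = 1 by rw [Nat.pow_mod]; simp))
  have hy1 : (y : G) * F.x = F.x * (y : G) := by
    have e : (y : G) = (((y : G) ^ 2) ^ a)⁻¹ := by
      rw [← pow_mul]
      refine eq_inv_of_mul_eq_one_left ?_
      rw [← pow_succ', ← ha, hn]
    rw [e]
    exact ((show Commute ((y : G) ^ 2) F.x from h2).pow_left a).inv_left.eq
  refine mem_P_of_join ?_ ?_
  · exact mem_normalizer_iff.2 fun z => ⟨fun hz => hN z hz, fun hz => by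
      simpa [mul_assoc] using hyinv _ hz⟩
  · exact ⟨hy1, n, hn⟩

theorem eq_J_of_le_P {A : Subgroup G} (hA : A ≤ F.P) (hcard : Nat.card A = 27)
    (hcube : ∀ a ∈ A, a ^ 3 = 1) (hcomm : ∀ a ∈ A, ∀ b ∈ A, a * b = b * a) : A = F.J := by
  by_contra hne
  obtain ⟨g, hgA, hgJ⟩ := SetLike.not_le_iff_exists.1 (fun h => hne (eq_of_le_of_card_ge h (by
    rw [hcard, F.card_J])))
  obtain ⟨i, k, hk, rfl⟩ := hA hgA
  have hk0 : k ≠ 0 := fun h => hgJ (by rw [h, F.p0, mul_one]; exact F.v_mem i)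
  have hle : A ⊓ F.J ≤ zpowers F.x := by
    rintro _ ⟨hjA, j, rfl⟩
    have h := hcomm _ hgA _ hjA
    rw [mul_assoc, F.pv, ← mul_assoc, ← mul_assoc (F.v j), mul_left_inj, (F.v_comm j i).eq, mul_right_inj] at h
    have h' : lap (lperm k) j = j := F.vinj h
    have hj : j = 0 ∨ j = one1 ∨ j = vSmul 2 one1 := by
      rcases hk with rfl | rfl | rfl
      · exact absurd rfl hk0
      · exact act_facts.2.2.1 j h'
      · exact act_facts.2.2.2.1 j h'
    rcases hj with rfl | rfl | rfl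
    · rw [F.v0]; exact one_mem _
    · exact mem_zpowers _
    · rw [← F.v_inv]; exact inv_mem (mem_zpowers _)
  have h3 : Nat.card ↥(A ⊓ F.J : Subgroup G) ≤ 3 := by
    refine le_trans (card_le_of_le hle) ?_
    rw [Nat.card_zpowers]
    exact orderOf_le_of_pow_eq_one (by norm_num) (F.v_cube _)
  have e1 : Nat.card ↥(A ⊓ F.J : Subgroup G) * F.J.relIndex A = 27 := by
    rw [← inf_relIndex_left A F.J, ← relIndex_bot_left (H := (A ⊓ F.J : Subgroup G)),
      relIndex_mul_relIndex _ _ _ bot_le inf_le_left, relIndex_bot_left, hcard]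
  have e2 : Nat.card F.J * F.J.relIndex F.P = 81 := by
    rw [← relIndex_bot_left (H := F.J), relIndex_mul_relIndex _ _ _ bot_le J_le_P, relIndex_bot_left, card_P]
  rw [F.card_J] at e2
  have h4 : F.J.relIndex A ≤ F.J.relIndex F.P := by
    refine relIndex_le_of_le_right hA ?_
    omega
  have := Nat.mul_le_mul h3 h4
  omega

/-- `J` is weakly closed in the 3-subgroups containing it. -/
theorem mem_normalizer_of_le {R : Subgroup G} (hR : IsPGroup 3 R) (hJ : F.J ≤ R) {g : G}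
    (hg : ∀ j ∈ F.J, g * j * g⁻¹ ∈ R) : g ∈ normalizer (F.J : Set G) := by
  haveI : Fact (Nat.Prime 3) := ⟨Nat.prime_three⟩
  obtain ⟨S, hS⟩ := F.exists_sylow
  obtain ⟨T, hT⟩ := hR.exists_le_sylow
  obtain ⟨h, hh⟩ := MulAction.exists_smul_eq G T S
  have hTP : ∀ r ∈ R, h * r * h⁻¹ ∈ F.P := fun r hr => by
    rw [← hS, ← hh, Sylow.coe_subgroup_smul, mem_pointwise_smul_iff_inv_smul_mem]
    simpa [MulAut.smul_def, mul_assoc] using hT hr
  have key : ∀ c : G, (∀ j ∈ F.J, c * j * c⁻¹ ∈ F.P) → c ∈ normalizer (F.J : Set G) := by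
    intro c hc
    refine Fusion.le_normalizer_of_conj_mem fun j hj => ?_
    have e : F.J.map (MulAut.conj c).toMonoidHom = F.J := by
      refine eq_J_of_le_P ?_ ?_ ?_ ?_
      · rintro _ ⟨a, ha, rfl⟩; exact hc a ha
      · rw [card_map_of_injective (MulAut.conj c).injective, F.card_J]
      · rintro _ ⟨a, ha, rfl⟩; rw [← map_pow, F.J_cube ha, map_one]
      · rintro _ ⟨a, ha, rfl⟩ _ ⟨b, hb, rfl⟩
        obtain ⟨i, rfl⟩ := ha
        obtain ⟨i', rfl⟩ := hb
        rw [← map_mul, ← map_mul, (F.v_comm i i').eq]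
    rw [← e]
    exact ⟨j, hj, rfl⟩
  have h1 : h ∈ normalizer (F.J : Set G) := key h fun j hj => hTP j (hJ hj)
  have h2 : h * g ∈ normalizer (F.J : Set G) := key (h * g) fun j hj => by
    rw [show h * g * j * (h * g)⁻¹ = h * (g * j * g⁻¹) * h⁻¹ by group]
    exact hTP _ (hg j hj)
  simpa using mul_mem (inv_mem h1) h2

/-- Conjugates of `J` inside a subgroup containing it are conjugate there. -/
theorem exists_mul_mem_normalizer {C : Subgroup G} (hJ : F.J ≤ C) {g : G}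
    (hg : ∀ j ∈ F.J, g * j * g⁻¹ ∈ C) : ∃ c ∈ C, c * g ∈ normalizer (F.J : Set G) := by
  haveI : Fact (Nat.Prime 3) := ⟨Nat.prime_three⟩
  have hp : IsPGroup 3 F.J := IsPGroup.of_card (n := 3) (by rw [F.card_J]; rfl)
  obtain ⟨R, hR⟩ := (hp.of_equiv (subgroupOfEquivOfLe hJ).symm).exists_le_sylow
  have hA : F.J.map (MulAut.conj g).toMonoidHom ≤ C := by rintro _ ⟨a, ha, rfl⟩; exact hg a ha
  obtain ⟨Q, hQ⟩ := ((hp.map (MulAut.conj g).toMonoidHom).of_equiv
    (subgroupOfEquivOfLe hA).symm).exists_le_sylow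
  obtain ⟨c, hc⟩ := MulAction.exists_smul_eq C Q R
  refine ⟨c, c.2, mem_normalizer_of_le (R.isPGroup'.map C.subtype) (fun j hj => ⟨⟨j, hJ hj⟩, hR hj, rfl⟩)
    fun j hj => ?_⟩
  have hjQ : (⟨g * j * g⁻¹, hg j hj⟩ : C) ∈ (Q : Subgroup C) := hQ ⟨j, hj, rfl⟩
  refine ⟨c * ⟨g * j * g⁻¹, hg j hj⟩ * c⁻¹, ?_, ?_⟩
  · show _ ∈ (R : Subgroup C)
    rw [← hc, Sylow.coe_subgroup_smul, mem_pointwise_smul_iff_inv_smul_mem]
    simpa [MulAut.smul_def, mul_assoc] using hjQ
  · simp [mul_assoc]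

/-- The normalizer of `J` controls fusion in it, relative to a commuting set. -/
theorem exists_normalizer_conj {W : Set G} (hW : W ⊆ F.J) {i j : Fin 27} {g : G}
    (hgW : ∀ w ∈ W, g * w = w * g) (hg : g * F.v i * g⁻¹ = F.v j) :
    ∃ n ∈ normalizer (F.J : Set G), (∀ w ∈ W, n * w = w * n) ∧ n * F.v i * n⁻¹ = F.v j := by
  obtain ⟨c, hc, hcg⟩ := exists_mul_mem_normalizer (C := centralizer (W ∪ {F.v j})) (g := g)
    (fun y hy => mem_centralizer_iff.2 fun z hz => by
      obtain ⟨a, rfl⟩ := hy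
      rcases hz with hz | hz
      · obtain ⟨b, rfl⟩ := hW hz
        exact (F.v_comm b a).eq
      · rw [Set.mem_singleton_iff.1 hz]
        exact (F.v_comm j a).eq)
    (fun y hy => mem_centralizer_iff.2 fun z hz => by
      obtain ⟨a, rfl⟩ := hy
      have e : ∀ z', z' * F.v a = F.v a * z' → g * z' * g⁻¹ * (g * F.v a * g⁻¹) =
          g * F.v a * g⁻¹ * (g * z' * g⁻¹) := fun z' h => by rw [conj_mul, conj_mul, h]
      rcases hz with hz | hz
      · obtain ⟨b, rfl⟩ := hW hz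
        have h1 := e _ (F.v_comm b a).eq
        rwa [hgW _ hz, mul_inv_cancel_right] at h1
      · rw [Set.mem_singleton_iff.1 hz, ← hg]
        exact e _ (F.v_comm i a).eq)
  refine ⟨c * g, hcg, fun w hw => ?_, ?_⟩
  · rw [mul_assoc, hgW w hw, ← mul_assoc, ← mem_centralizer_iff.1 hc w (Or.inl hw), mul_assoc]
  · rw [show c * g * F.v i * (c * g)⁻¹ = c * (g * F.v i * g⁻¹) * c⁻¹ by group, hg,
      ← mem_centralizer_iff.1 hc _ (Or.inr rfl), mul_inv_cancel_right]

variable {m : Fin 4}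

/-- The signs are those of one of the four sets. -/
structure IsCase (F : Frame G) (m : Fin 4) : Prop where
  mono : F.Monomial
  sign : ∀ s, F.Sign s ↔ signSets m s = true

namespace IsCase

variable (h : F.IsCase m)
include h

theorem exists_act {n : G} (hn : n ∈ normalizer (F.J : Set G)) :
    ∃ s k, signSets m s = true ∧ F.ActsAs n s k := by
  obtain ⟨s, k, hk⟩ := h.mono n hn
  exact ⟨s, k, (h.sign s).1 ⟨n, hn, k, hk⟩, hk⟩

theorem exists_of_act {s : Fin 8} (hs : signSets m s = true) (k : Fin 6) :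
    ∃ n ∈ normalizer (F.J : Set G), F.ActsAs n s k := ((h.sign s).2 hs).exists_act k

theorem conj_cases {i j : Fin 27} {g : G} (hg : g * F.v i * g⁻¹ = F.v j) :
    ∃ s k, signSets m s = true ∧ act s k i = j := by
  obtain ⟨n, hn, -, hnij⟩ := exists_normalizer_conj (W := ∅) (Set.empty_subset _) (by simp) hg
  obtain ⟨s, k, hs, hsk⟩ := h.exists_act hn
  exact ⟨s, k, hs, F.vinj ((hsk i).symm.trans hnij)⟩

theorem act_trivial {n : G} {i : Fin 27} (hi0 : i ≠ 0) (hi : xType m i = false)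
    (hn : n ∈ normalizer (F.J : Set G)) (hfix : n * F.v i = F.v i * n)
    (hcube : ∀ a, n ^ 3 * F.v a = F.v a * n ^ 3) : n ∈ F.J := by
  obtain ⟨s, k, hs, hsk⟩ := h.exists_act hn
  have hf : act s k i = i := F.vinj ((actsAs_act hsk i).symm.trans (by rw [hfix, mul_inv_cancel_right]))
  have h3 : ∀ a, ((act s k)^[3]) a = a := fun a => F.vinj (by
    rw [← hsk.pow, hcube a, mul_inv_cancel_right])
  have h4 : ∀ a, act s k a = ((act s k)^[4]) a := fun a => by
    rw [Function.iterate_succ_apply', h3]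
  rcases act_facts.2.2.2.2.2.1 m s k hs (h4 _) (h4 _) (h4 _) i hf with hc | hc | ⟨rfl, rfl⟩
  · exact absurd hc hi0
  · simp [hi] at hc
  · exact mem_J_of_act hsk

/-- Away from the class of the central element `J` is a Sylow subgroup of the centralizer. -/
theorem eq_J_of_le_cent {i : Fin 27} (hi0 : i ≠ 0) (hi : xType m i = false) {R : Subgroup G}
    (hR : IsPGroup 3 R) (hJ : F.J ≤ R) (hc : ∀ r ∈ R, r * F.v i = F.v i * r) : R = F.J := by
  haveI : Fact (Nat.Prime 3) := ⟨Nat.prime_three⟩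
  by_contra hne
  haveI : Group.IsNilpotent R := hR.isNilpotent
  have hlt : F.J.subgroupOf R < ⊤ := by
    rw [lt_top_iff_ne_top, Ne, subgroupOf_eq_top]
    exact fun h' => hne (le_antisymm h' hJ)
  obtain ⟨y, hy, hyJ⟩ := SetLike.exists_of_lt (Group.normalizerCondition_of_isNilpotent _ hlt)
  have hN : (y : G) ∈ normalizer (F.J : Set G) := Fusion.le_normalizer_of_conj_mem fun a ha =>
    (mem_normalizer_iff.1 hy ⟨a, hJ ha⟩).1 ha
  refine hyJ (mem_subgroupOf.2 ?_)
  obtain ⟨n, hn⟩ := exists_pow_eq_one hR y.2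
  refine h.act_trivial hi0 hi hN (hc _ y.2) fun a => ?_
  obtain ⟨s, k, -, hsk⟩ := h.exists_act hN
  have e : ∀ b, ((act s k)^[3 ^ n]) b = b := fun b => F.vinj (by
    rw [← hsk.pow, hn]; simp)
  have h3 : ((act s k)^[3]) a = a := by
    have h9 : ∀ q : ℕ, ∀ b, ((act s k)^[12 * q]) b = b := by
      intro q
      induction q with
      | zero => simp
      | succ q ih => intro b; rw [Nat.mul_succ, Function.iterate_add_apply, act_facts.2.1, ih]
    have hmod' : ∀ q : ℕ, 3 ^ (q + 2) % 12 = 9 ∨ 3 ^ (q + 2) % 12 = 3 := by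
      intro q
      induction q with
      | zero => left; rfl
      | succ q ih =>
        rcases ih with ih | ih <;> [right; left] <;>
          rw [show q + 1 + 2 = q + 2 + 1 from rfl, pow_succ, Nat.mul_mod, ih]
    rcases n with _ | _ | n
    · have := e a; simp only [Nat.pow_zero, Function.iterate_one] at this
      simp [Function.iterate_succ_apply, this]
    · exact e a
    · have hmod := hmod' n
      rcases hmod with hmod | hmod
      · have h1 := e (((act s k)^[3]) a)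
        rw [← Nat.mod_add_div (3 ^ (n + 2)) 12, hmod, Function.iterate_add_apply, h9,
          ← Function.iterate_add_apply] at h1
        rw [← h1]
        exact act_facts.2.1 s k a
      · have h1 := e a
        rw [← Nat.mod_add_div (3 ^ (n + 2)) 12, hmod, Function.iterate_add_apply, h9] at h1
        exact h1
  have := hsk.pow 3 a
  rw [h3] at this
  exact mul_inv_eq_iff_eq_mul.1 this

theorem conj_x_cases {i : Fin 27} (hi : xType m i = true) :
    ∃ n ∈ normalizer (F.J : Set G), n * F.v i * n⁻¹ = F.x ∨ n * F.v i * n⁻¹ = F.x⁻¹ := by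
  obtain ⟨s, hs, k, hk⟩ := act_facts.2.2.2.2.2.2.2 m i hi
  obtain ⟨n, hn, hsk⟩ := h.exists_of_act hs k
  refine ⟨n, hn, hk.imp (fun e => ?_) (fun e => ?_)⟩
  · rw [actsAs_act hsk, e]; rfl
  · rw [actsAs_act hsk, e, x, F.v_inv]

end IsCase

end Frame

end Cfsg.Lib.PSpThree
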