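import Cfsg.Agent.Lib.PSpThree.Coords
import Cfsg.Agent.Lib.PSpThree.FullN

/-!
# The frame of the data

The conjugates of the fixed element under an element of `R` are a basis of `J` with product `a`, permuted by that
element and the involution; inside the normalizer of `J` nothing else fixes `a`.
-/

set_option autoImplicit false
set_option maxHeartbeats 1600000
set_option maxRecDepth 100000
set_option linter.unusedSectionVars false
set_option linter.style.haveILetI false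

namespace Cfsg.Lib.PSpThree

open Subgroup Cfsg.Lib.SymNine

theorem digit_facts :
    (∀ i j : Fin 27, (vAdd i j).val / 9 = (i.val / 9 + j.val / 9) % 3 ∧
      (vAdd i j).val / 3 % 3 = (i.val / 3 % 3 + j.val / 3 % 3) % 3 ∧
      (vAdd i j).val % 3 = (i.val % 3 + j.val % 3) % 3) ∧
    (∀ i, (lap (lperm 1) i).val / 9 = i.val / 9 ∧ (lap (lperm 1) i).val / 3 % 3 = i.val % 3 ∧
      (lap (lperm 1) i).val % 3 = i.val / 3 % 3) ∧
    (∀ i, (lap (lperm 3) i).val / 9 = i.val % 3 ∧ (lap (lperm 3) i).val / 3 % 3 = i.val / 9 ∧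
      (lap (lperm 3) i).val % 3 = i.val / 3 % 3) ∧
    (∀ k l i, lap (lperm (kmul k l)) i = lap (lperm k) (lap (lperm l) i)) ∧
    (∀ i, lap (lperm 0) i = i) := by
  refine ⟨?_, ?_, ?_, ?_, ?_⟩ <;> decide +kernel

/-- The exponents of the element of `R` in the permutations. -/
def expU : Fin 6 → ℕ := ![0, 0, 1, 1, 2, 2]

/-- The exponents of the involution in the permutations. -/
def expI : Fin 6 → ℕ := ![0, 1, 1, 0, 0, 1]

theorem exp_facts : ∀ k l : Fin 6,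
    expU (kmul k l) = (expU k + (if expI k = 0 then expU l else 2 * expU l)) % 3 ∧
      expI (kmul k l) = (expI k + expI l) % 2 ∧ (expI k = 0 ∨ expI k = 1) := by
  decide +kernel

theorem pow_mod_three {G : Type*} [Group G] {g : G} (h : g ^ 3 = 1) (n : ℕ) : g ^ (n % 3) = g ^ n := by
  conv_rhs => rw [← Nat.mod_add_div n 3, pow_add, pow_mul, h, one_pow, mul_one]

/-- The data with a frame. -/
structure Setting (G : Type*) [Group G] [Finite G] where
  /-- The data. -/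
  D : Data G
  /-- The frame. -/
  F : Frame G
  hx : F.x = D.a
  hJ : F.J = D.J

namespace Coords

variable {G : Type*} [Group G] [Finite G] {D : Data G} (K : Coords D)

/-- The second basis element. -/
def e1 : G := K.e * K.r

/-- The third basis element. -/
def e2 : G := K.e * K.r * K.r * D.a

theorem e1_mem : K.e1 ∈ D.J := mul_mem K.e_mem K.r_mem.1

theorem e2_mem : K.e2 ∈ D.J := mul_mem (mul_mem K.e1_mem K.r_mem.1) D.a_mem_J

theorem r_cube : K.r * (K.r * K.r) = 1 := by rw [← pow_two, ← pow_succ', D.J_exp _ K.r_mem.1]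

theorem a_cube' : D.a * (D.a * D.a) = 1 := by rw [← pow_two, ← pow_succ', D.a_cube]

theorem u_cube : K.u ^ 3 = 1 := D.R_exp _ K.u_mem

theorem u_e1 : K.u * K.e1 * K.u⁻¹ = K.e2 := by
  rw [e1, e2, show K.u * (K.e * K.r) * K.u⁻¹ = (K.u * K.e * K.u⁻¹) * (K.u * K.r * K.u⁻¹) by group, K.ue, K.ur]
  simp only [mul_assoc]

theorem u_e2 : K.u * K.e2 * K.u⁻¹ = K.e := by
  have hua : K.u * D.a * K.u⁻¹ = D.a := by rw [D.comm_a (D.R_le K.u_mem), mul_inv_cancel_right]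
  have hra : Commute K.r D.a := D.J_comm _ K.r_mem.1 _ D.a_mem_J
  rw [e2, show K.u * (K.e * K.r * K.r * D.a) * K.u⁻¹ =
    (K.u * K.e * K.u⁻¹) * (K.u * K.r * K.u⁻¹) * (K.u * K.r * K.u⁻¹) * (K.u * D.a * K.u⁻¹) by group,
    K.ue, K.ur, hua,
    show K.e * K.r * (K.r * D.a) * (K.r * D.a) * D.a = K.e * K.r * K.r * (D.a * K.r) * D.a * D.a by group,
    ← hra.eq, show K.e * K.r * K.r * (K.r * D.a) * D.a * D.a = K.e * (K.r * (K.r * K.r)) * (D.a * (D.a * D.a)) by group,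
    K.r_cube, a_cube', mul_one, mul_one]

theorem i_e1 : K.i * K.e1 * K.i⁻¹ = K.e2 := by
  have h : K.e1 = K.u * K.e * K.u⁻¹ := K.ue.symm
  have h2 : K.u⁻¹ * K.e * K.u = K.e2 := by
    have e := congrArg (fun z => K.u⁻¹ * z * K.u) K.u_e2
    simp only [mul_assoc, inv_mul_cancel_left, inv_mul_cancel, mul_one] at e
    rw [e, mul_assoc]
  rw [h, show K.i * (K.u * K.e * K.u⁻¹) * K.i⁻¹ =
    (K.i * K.u * K.i⁻¹) * (K.i * K.e * K.i⁻¹) * (K.i * K.u * K.i⁻¹)⁻¹ by group, K.u_inv, K.e_fix, inv_inv, h2]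

theorem i_e2 : K.i * K.e2 * K.i⁻¹ = K.e1 := by
  rw [← K.i_e1, show K.i * (K.i * K.e1 * K.i⁻¹) * K.i⁻¹ = (K.i * K.i) * K.e1 * (K.i * K.i)⁻¹ by group,
    K.i_sq, inv_one, one_mul, mul_one]

/-- The elements of `J` by codes. -/
def v (c : Fin 27) : G := K.e ^ (c.val / 9) * K.e1 ^ (c.val / 3 % 3) * K.e2 ^ (c.val % 3)

/-- The permutations. -/
def p (k : Fin 6) : G := K.u ^ expU k * K.i ^ expI k

theorem v_mem (c : Fin 27) : K.v c ∈ D.J :=
  mul_mem (mul_mem (pow_mem K.e_mem _) (pow_mem K.e1_mem _)) (pow_mem K.e2_mem _)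

theorem v_one1 : K.v one1 = D.a := by
  have hre : Commute K.r K.e := D.J_comm _ K.r_mem.1 _ K.e_mem
  have he3 : K.e * (K.e * K.e) = 1 := by rw [← pow_two, ← pow_succ', D.J_exp _ K.e_mem]
  show K.e ^ (13 / 9) * K.e1 ^ (13 / 3 % 3) * K.e2 ^ (13 % 3) = D.a
  norm_num [e1, e2]
  rw [show K.e * (K.e * K.r) * (K.e * K.r * K.r * D.a) = K.e * K.e * (K.r * K.e) * K.r * K.r * D.a by group,
    hre.eq, show K.e * K.e * (K.e * K.r) * K.r * K.r * D.a =
      (K.e * (K.e * K.e)) * (K.r * (K.r * K.r)) * D.a by group, he3, K.r_cube, one_mul, one_mul]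

theorem vmul (i j : Fin 27) : K.v (vAdd i j) = K.v i * K.v j := by
  obtain ⟨h1, h2, h3⟩ := digit_facts.1 i j
  have c1 : Commute (K.e1 ^ (i.val / 3 % 3)) (K.e ^ (j.val / 9)) :=
    D.J_comm _ (pow_mem K.e1_mem _) _ (pow_mem K.e_mem _)
  have c2 : Commute (K.e2 ^ (i.val % 3)) (K.e ^ (j.val / 9) * K.e1 ^ (j.val / 3 % 3)) :=
    D.J_comm _ (pow_mem K.e2_mem _) _ (mul_mem (pow_mem K.e_mem _) (pow_mem K.e1_mem _))
  rw [v, h1, h2, h3, pow_mod_three (D.J_exp _ K.e_mem), pow_mod_three (D.J_exp _ K.e1_mem),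
    pow_mod_three (D.J_exp _ K.e2_mem), pow_add, pow_add, pow_add, v, v]
  calc _ = K.e ^ (i.val / 9) * (K.e ^ (j.val / 9) * K.e1 ^ (i.val / 3 % 3)) * K.e1 ^ (j.val / 3 % 3) *
        K.e2 ^ (i.val % 3) * K.e2 ^ (j.val % 3) := by simp only [mul_assoc]
    _ = K.e ^ (i.val / 9) * K.e1 ^ (i.val / 3 % 3) * ((K.e ^ (j.val / 9) * K.e1 ^ (j.val / 3 % 3)) *
        K.e2 ^ (i.val % 3)) * K.e2 ^ (j.val % 3) := by rw [← c1.eq]; simp only [mul_assoc]
    _ = _ := by rw [← c2.eq]; simp only [mul_assoc]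

theorem conj_v {g : G} {l : Fin 6} (h9 : g * K.e * g⁻¹ = K.v (lap (lperm l) 9))
    (h3 : g * K.e1 * g⁻¹ = K.v (lap (lperm l) 3)) (h1 : g * K.e2 * g⁻¹ = K.v (lap (lperm l) 1)) (c : Fin 27) :
    g * K.v c * g⁻¹ = K.v (lap (lperm l) c) := by
  have hv0 : K.v 0 = 1 := by simp [v]
  have hsm : ∀ (n : ℕ) (i : Fin 27), n < 3 → K.v (vSmul n i) = K.v i ^ n := fun n i hn => by
    rw [lap_facts.2.2.1 n hn i]
    interval_cases n
    · simp [hv0]
    · simp
    · simp [K.vmul, pow_two]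
  have hlin : ∀ g' : Lin, K.v (lap g' c) =
      K.v g'.1 ^ (c.val / 9) * (K.v g'.2.1 ^ (c.val / 3 % 3) * K.v g'.2.2 ^ (c.val % 3)) := fun g' => by
    rw [lap, K.vmul, K.vmul, hsm _ _ (by omega), hsm _ _ (by omega), hsm _ _ (by omega)]
  have key : ∀ l : Fin 6, (lperm l).1 = lap (lperm l) 9 ∧ (lperm l).2.1 = lap (lperm l) 3 ∧
      (lperm l).2.2 = lap (lperm l) 1 := by decide +kernel
  obtain ⟨k9, k3, k1⟩ := key l
  rw [hlin, k9, k3, k1, ← h9, ← h3, ← h1, conj_pow, conj_pow, conj_pow, v]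
  group

theorem pmul (k l : Fin 6) : K.p (kmul k l) = K.p k * K.p l := by
  obtain ⟨h1, h2, h3⟩ := exp_facts k l
  rw [p, h1, h2, pow_mod_three K.u_cube, p, p,
    show K.i ^ ((expI k + expI l) % 2) = K.i ^ (expI k + expI l) by
      conv_rhs => rw [← Nat.mod_add_div (expI k + expI l) 2, pow_add, pow_mul, pow_two, K.i_sq, one_pow, mul_one]]
  have hiu : K.i * K.u = K.u * K.u * K.i := by
    rw [← mul_inv_eq_iff_eq_mul, K.u_inv]
    refine inv_eq_of_mul_eq_one_right ?_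
    rw [← mul_assoc, ← pow_two, ← pow_succ]
    exact K.u_cube
  have hin : ∀ n : ℕ, K.i * K.u ^ n = K.u ^ (2 * n) * K.i := fun n => by
    induction n with
    | zero => simp
    | succ n ih => rw [pow_succ, ← mul_assoc, ih, mul_assoc, hiu, Nat.mul_succ, pow_add, pow_two]; group
  rcases h3 with h | h
  · simp [h, pow_add, mul_assoc]
  · have e := hin (expU l)
    rw [h, if_neg (by norm_num), pow_add, pow_add, pow_one,
      show K.u ^ expU k * K.u ^ (2 * expU l) * (K.i * K.i ^ expI l) =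
        K.u ^ expU k * (K.u ^ (2 * expU l) * K.i) * K.i ^ expI l by group, ← e]
    group

theorem p_conj (k : Fin 6) (c : Fin 27) : K.p k * K.v c = K.v (lap (lperm k) c) * K.p k := by
  suffices h : ∀ k, ∀ c, K.p k * K.v c * (K.p k)⁻¹ = K.v (lap (lperm k) c) from mul_inv_eq_iff_eq_mul.1 (h k c)
  have hv9 : K.v 9 = K.e := by simp [v]
  have hv3 : K.v 3 = K.e1 := by simp [v]
  have hv1 : K.v 1 = K.e2 := by simp [v]
  have hp1 : ∀ c, K.p 1 * K.v c * (K.p 1)⁻¹ = K.v (lap (lperm 1) c) := by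
    have e : K.p 1 = K.i := by simp [p, expU, expI]
    obtain ⟨k9, k3, k1⟩ : lap (lperm 1) 9 = 9 ∧ lap (lperm 1) 3 = 1 ∧ lap (lperm 1) 1 = 3 := by decide +kernel
    rw [e]
    exact K.conj_v (by rw [k9, hv9]; exact K.e_fix) (by rw [k3, hv1]; exact K.i_e1) (by rw [k1, hv3]; exact K.i_e2)
  have hp3 : ∀ c, K.p 3 * K.v c * (K.p 3)⁻¹ = K.v (lap (lperm 3) c) := by
    have e : K.p 3 = K.u := by simp [p, expU, expI]
    obtain ⟨k9, k3, k1⟩ : lap (lperm 3) 9 = 3 ∧ lap (lperm 3) 3 = 1 ∧ lap (lperm 3) 1 = 9 := by decide +kernel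
    rw [e]
    exact K.conj_v (by rw [k9, hv3]; exact K.ue) (by rw [k3, hv1]; exact K.u_e1) (by rw [k1, hv9]; exact K.u_e2)
  have hstep : ∀ k l, (∀ c, K.p k * K.v c * (K.p k)⁻¹ = K.v (lap (lperm k) c)) →
      (∀ c, K.p l * K.v c * (K.p l)⁻¹ = K.v (lap (lperm l) c)) →
      ∀ c, K.p (kmul k l) * K.v c * (K.p (kmul k l))⁻¹ = K.v (lap (lperm (kmul k l)) c) := fun k l hk hl c => by
    rw [K.pmul, show K.p k * K.p l * K.v c * (K.p k * K.p l)⁻¹ = K.p k * (K.p l * K.v c * (K.p l)⁻¹) * (K.p k)⁻¹ by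
      group, hl, hk, digit_facts.2.2.2.1]
  have h0 := hstep 1 1 hp1 hp1
  have h4 := hstep 3 3 hp3 hp3
  have h2 := hstep 3 1 hp3 hp1
  have h5 := hstep _ _ h4 hp1
  rw [show kmul 1 1 = 0 by decide +kernel] at h0
  rw [show kmul 3 1 = 2 by decide +kernel] at h2
  rw [show kmul (kmul 3 3) 1 = 5 by decide +kernel] at h5
  rw [show kmul 3 3 = 4 by decide +kernel] at h4
  intro k
  fin_cases k
  exacts [h0, hp1, h2, hp3, h4, h5]

theorem range_v : Set.range K.v = (D.J : Set G) := by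
  have hv9 : K.v 9 = K.e := by simp [v]
  have hv0 : K.v 0 = 1 := by simp [v]
  let S : Subgroup G :=
    { carrier := Set.range K.v
      one_mem' := ⟨0, hv0⟩
      mul_mem' := by rintro _ _ ⟨i, rfl⟩ ⟨j, rfl⟩; exact ⟨_, K.vmul i j⟩
      inv_mem' := by
        rintro _ ⟨i, rfl⟩
        refine ⟨vSmul 2 i, ?_⟩
        rw [eq_comm, inv_eq_iff_mul_eq_one, ← K.vmul, (code_facts.1 i).2.2.1, hv0] }
  have hle : S ≤ D.J := by rintro _ ⟨c, rfl⟩; exact K.v_mem c
  have hr : K.r ∈ S := by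
    have h := S.mul_mem (S.inv_mem (show K.v 9 ∈ S from ⟨9, rfl⟩)) (show K.v 3 ∈ S from ⟨3, rfl⟩)
    rw [hv9, show K.v 3 = K.e * K.r by simp [v, e1], inv_mul_cancel_left] at h
    exact h
  have ha : D.a ∈ S := ⟨one1, K.v_one1⟩
  set T := S ⊓ D.R with hT
  have hTle : zpowers D.a ≤ T := zpowers_le.2 ⟨ha, D.a_mem⟩
  have h3 : 3 < Nat.card T := by
    rw [← D.ha, ← Nat.card_zpowers]
    exact lt_of_le_of_ne (card_le_of_le hTle) fun e =>
      K.r_not ((eq_of_le_of_card_ge hTle e.ge).ge ⟨hr, K.r_mem.2⟩)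
  have h9 : 3 * 3 ≤ Nat.card T := by
    rcases D.three_sub_card (S := T) (fun y hy => hy.2) with e | e | e | e <;> omega
  have hlt : T < S := lt_of_le_of_ne inf_le_left fun e =>
    K.e_not ((show S ≤ T from e.ge) ⟨9, hv9⟩).2
  have h9S : 9 < Nat.card S := by
    refine lt_of_le_of_lt h9 (lt_of_le_of_ne (card_le_of_le hlt.le) fun e => hlt.ne (eq_of_le_of_card_ge hlt.le e.ge))
  have h27 : Nat.card S = 27 := by
    have hd : Nat.card S ∣ 3 ^ 3 := by
      have := card_dvd_of_le hle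
      rw [D.J_card] at this
      simpa using this
    obtain ⟨n, hn, he⟩ := (Nat.dvd_prime_pow Nat.prime_three).1 hd
    rw [he] at h9S ⊢
    interval_cases n <;> simp at h9S ⊢
  rw [← eq_of_le_of_card_ge hle (by rw [h27, D.J_card])]
  rfl

theorem v_injective : Function.Injective K.v := by
  have hsurj : Function.Surjective (fun c => (⟨K.v c, K.v_mem c⟩ : D.J)) := fun j => by
    obtain ⟨c, hc⟩ := (K.range_v ▸ j.2 : (j : G) ∈ Set.range K.v)
    exact ⟨c, Subtype.ext hc⟩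
  have hb := hsurj.bijective_of_nat_card_le (by rw [Nat.card_fin, D.J_card])
  exact fun a b h => hb.1 (Subtype.ext h)

theorem i_not_R : K.i ∉ D.R := fun h => by
  have h1 := (D.ker ⟨K.i, K.i_mem⟩).2 h
  exact sl_facts.2.2.1 (K.i_neg.symm.trans h1)

theorem p_mem_J {k : Fin 6} (h : K.p k ∈ D.J) : k = 0 := by
  have hu2 : K.u * K.u ∉ D.J := fun h' => K.u_not (by
    have e : K.u = (K.u * K.u) * (K.u * K.u) := by
      calc K.u = K.u ^ 3 * K.u := by rw [K.u_cube, one_mul]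
        _ = _ := by rw [pow_succ, pow_two]; group
    rw [e]; exact mul_mem h' h')
  have hinv : ∀ y : G, y * y = 1 → y ∈ D.J → y = 1 := fun y hy hyJ => by
    have h3 := D.J_exp y hyJ
    rwa [pow_succ, pow_two, hy, one_mul] at h3
  have hui : ∀ w ∈ D.R, K.i * w * K.i⁻¹ = w⁻¹ → w * K.i ∉ D.J := fun w hw hwi hJ => by
    have h1 := hinv _ (by
      rw [show w * K.i * (w * K.i) = w * (K.i * w * K.i⁻¹) * (K.i * K.i) by group, hwi, K.i_sq]; group) hJ
    exact K.i_not_R (by rw [eq_inv_of_mul_eq_one_right h1]; exact inv_mem hw)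
  fin_cases k
  · rfl
  · exact absurd (hinv K.i K.i_sq (by simpa [p, expU, expI] using h)) fun e => K.i_not_R (by rw [e]; exact one_mem _)
  · exact absurd (by simpa [p, expU, expI] using h) (hui K.u K.u_mem K.u_inv)
  · exact absurd (by simpa [p, expU, expI] using h) K.u_not
  · exact absurd (by simpa [p, expU, expI, pow_two] using h) hu2
  · refine absurd (by simpa [p, expU, expI, pow_two] using h) (hui (K.u * K.u) (mul_mem K.u_mem K.u_mem) ?_)
    rw [show K.i * (K.u * K.u) * K.i⁻¹ = (K.i * K.u * K.i⁻¹) * (K.i * K.u * K.i⁻¹) by group, K.u_inv]; group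

theorem free (c : Fin 27) (k : Fin 6) (h : K.v c * K.p k = 1) : c = 0 ∧ k = 0 := by
  have hk := K.p_mem_J (k := k) (by rw [eq_inv_of_mul_eq_one_right h]; exact inv_mem (K.v_mem c))
  subst hk
  refine ⟨K.v_injective ?_, rfl⟩
  simpa [v, p, expU, expI] using h

/-- The products of the elements of `J` and the permutations. -/
def mono : Subgroup G where
  carrier := {g | ∃ c k, g = K.v c * K.p k}
  one_mem' := ⟨0, 0, by simp [v, p, expU, expI]⟩
  mul_mem' := by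
    rintro _ _ ⟨c, k, rfl⟩ ⟨d, l, rfl⟩
    refine ⟨vAdd c (lap (lperm k) d), kmul k l, ?_⟩
    rw [K.vmul, K.pmul, mul_assoc, ← mul_assoc (K.p k), K.p_conj]
    group
  inv_mem' := by
    rintro _ ⟨c, k, rfl⟩
    have hv0 : K.v 0 = 1 := by simp [v]
    have hp0 : K.p 0 = 1 := by simp [p, expU, expI]
    have hpi : (K.p k)⁻¹ = K.p (kinv k) :=
      inv_eq_of_mul_eq_one_right (by rw [← K.pmul, (kperm_facts.2.2.2.1 k).1, hp0])
    have hvi : (K.v c)⁻¹ = K.v (vSmul 2 c) :=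
      inv_eq_of_mul_eq_one_right (by rw [← K.vmul, (code_facts.1 c).2.2.1, hv0])
    exact ⟨lap (lperm (kinv k)) (vSmul 2 c), kinv k, by rw [mul_inv_rev, hpi, hvi, K.p_conj]⟩

theorem J_le_mono : D.J ≤ K.mono := fun j hj => by
  obtain ⟨c, hc⟩ := (K.range_v ▸ hj : j ∈ Set.range K.v)
  exact ⟨c, 0, by simp [hc, p, expU, expI]⟩

theorem R_le_mono : D.R ≤ K.mono := by
  have hu : K.u ∈ K.mono := ⟨0, 3, by simp [v, p, expU, expI]⟩
  set S := K.mono ⊓ D.R with hS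
  have hle : D.J ⊓ D.R ≤ S := fun y hy => ⟨K.J_le_mono hy.1, hy.2⟩
  have h9 : 9 < Nat.card S := by
    rw [← D.inf_card]
    exact lt_of_le_of_ne (card_le_of_le hle) fun e =>
      K.u_not ((eq_of_le_of_card_ge hle e.ge).ge ⟨hu, K.u_mem⟩).1
  have hSle : S ≤ D.R := inf_le_right
  have : S = D.R := eq_of_le_of_card_ge hSle (by
    rcases D.three_sub_card hSle with e | e | e | e <;> rw [e] at h9 ⊢ <;> simp [D.R_card] at h9 ⊢)
  exact fun r hr => (this.ge hr).1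

theorem cent {g : G} (hN : ∀ i, ∃ j, g * K.v i * g⁻¹ = K.v j) (hg : g * K.v one1 = K.v one1 * g) :
    g ∈ K.mono := by
  rw [K.v_one1] at hg
  have hgC : g ∈ D.C := D.mem_C.2 hg
  obtain ⟨j, hj, hjR⟩ := SetLike.not_le_iff_exists.1 D.not_J_le_R
  have hiM : K.i ∈ K.mono := ⟨0, 1, by simp [v, p, expU, expI]⟩
  set x := D.π ⟨j, D.J_le hj⟩ with hx
  have hx3 : x * x * x = 1 := by
    rw [hx, ← map_mul, ← map_mul, show (⟨j, D.J_le hj⟩ * ⟨j, D.J_le hj⟩ * ⟨j, D.J_le hj⟩ : D.C) = 1 from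
      Subtype.ext (show j * j * j = 1 by rw [← pow_two, ← pow_succ]; exact D.J_exp _ hj), map_one]
  have hx1 : x ≠ 1 := fun e => hjR ((D.ker _).1 e)
  have hJ3 : ∀ y ∈ D.J, ∀ hy : y ∈ D.C, D.π ⟨y, hy⟩ * x = x * D.π ⟨y, hy⟩ := fun y hy hyC => by
    rw [hx, ← map_mul, ← map_mul]
    exact congrArg D.π (Subtype.ext (D.J_comm y hy j hj))
  have hgj : D.π ⟨g, hgC⟩ * x * (D.π ⟨g, hgC⟩)⁻¹ = x ∨ D.π ⟨g, hgC⟩ * x * (D.π ⟨g, hgC⟩)⁻¹ = x * x := by
    obtain ⟨c, hc⟩ := (K.range_v ▸ hj : j ∈ Set.range K.v)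
    obtain ⟨d, hd⟩ := hN c
    rw [hc] at hd
    have hyJ := K.v_mem d
    have hyC := D.J_le hyJ
    set w := D.π ⟨g, hgC⟩ * x * (D.π ⟨g, hgC⟩)⁻¹ with hw
    have hwy : w = D.π ⟨K.v d, hyC⟩ := by
      rw [hw, hx, ← map_inv, ← map_mul, ← map_mul]
      exact congrArg D.π (Subtype.ext hd)
    have hw3 : w * w * w = 1 := by
      rw [hw, show D.π ⟨g, hgC⟩ * x * (D.π ⟨g, hgC⟩)⁻¹ * (D.π ⟨g, hgC⟩ * x * (D.π ⟨g, hgC⟩)⁻¹) *
        (D.π ⟨g, hgC⟩ * x * (D.π ⟨g, hgC⟩)⁻¹) = D.π ⟨g, hgC⟩ * (x * x * x) * (D.π ⟨g, hgC⟩)⁻¹ by group, hx3]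
      group
    have hw1 : w ≠ 1 := by
      rw [hw, Ne, conj_eq_one_iff]; exact hx1
    have hneg : ∀ y : SL23, y * y * y = 1 → (-y) * (-y) * (-y) ≠ 1 := by decide +kernel
    rcases sl_facts.2.2.2.2.2.1 x w hx3 hx1 (hwy ▸ hJ3 _ hyJ hyC) with h | h | h | h | h | h
    · exact absurd h hw1
    · exact Or.inl h
    · exact Or.inr h
    · rw [h] at hw3; exact absurd hw3 (hneg 1 (by rw [one_mul, one_mul]))
    · rw [h] at hw3; exact absurd hw3 (hneg x hx3)
    · rw [h] at hw3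
      exact absurd hw3 (hneg _ (by rw [show x * x * (x * x) * (x * x) = (x * x * x) * (x * x * x) by group, hx3,
        one_mul]))
  have hm : ∀ m : G, ∀ hmC : m ∈ D.C, m ∈ K.mono → D.π ⟨g, hgC⟩ = D.π ⟨m, hmC⟩ → g ∈ K.mono := by
    intro m hmC hmM e
    have hr : m⁻¹ * g ∈ D.R := by
      simpa using (D.ker (⟨m, hmC⟩⁻¹ * ⟨g, hgC⟩)).1 (by rw [map_mul, map_inv, e, inv_mul_cancel])
    simpa using mul_mem hmM (K.R_le_mono hr)
  have hneg : ∀ y : SL23, -y = -1 * y := fun y => (neg_one_mul y).symm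
  rcases sl_facts.2.2.2.2.2.1 x _ hx3 hx1 (sl_facts.2.2.2.2.2.2.1 x _ hx3 hx1 hgj) with h | h | h | h | h | h
  · exact hm 1 (one_mem _) (one_mem _) (h.trans (map_one D.π).symm)
  · exact hm j (D.J_le hj) (K.J_le_mono hj) h
  · exact hm (j * j) (mul_mem (D.J_le hj) (D.J_le hj)) (K.J_le_mono (mul_mem hj hj))
      (h.trans (by rw [hx, ← map_mul]; rfl))
  · exact hm K.i K.i_mem hiM (h.trans K.i_neg.symm)
  · exact hm (K.i * j) (mul_mem K.i_mem (D.J_le hj)) (mul_mem hiM (K.J_le_mono hj))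
      (h.trans (by rw [hneg, hx, ← K.i_neg, ← map_mul]; rfl))
  · exact hm (K.i * (j * j)) (mul_mem K.i_mem (mul_mem (D.J_le hj) (D.J_le hj)))
      (mul_mem hiM (K.J_le_mono (mul_mem hj hj)))
      (h.trans (by rw [hneg, hx, ← K.i_neg, ← map_mul, ← map_mul]; rfl))

/-- The frame. -/
def frame : Frame G where
  v := K.v
  p := K.p
  vinj := K.v_injective
  vmul := K.vmul
  pmul := K.pmul
  pv := K.p_conj
  free := K.free
  cent := fun g hN hg => K.cent hN hg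
  sylC := fun S hS hc => by
    haveI : Fact (Nat.Prime 3) := ⟨Nat.prime_three⟩
    obtain ⟨n, hn⟩ := hS.exists_card_eq
    have hle : S ≤ D.C := fun y hy => D.mem_C.2 (K.v_one1 ▸ hc y hy)
    have hd := card_dvd_of_le hle
    rw [D.card_C, hn] at hd
    rw [hn]
    have h4 : n ≤ 4 := by
      by_contra h
      have h243 : 3 ^ 5 ∣ 648 := (pow_dvd_pow 3 (by omega)).trans hd
      norm_num at h243
    exact (Nat.pow_le_pow_right (by norm_num) h4).trans (by norm_num)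
  sig := fun S hS h => D.sig S hS fun j hj => by
    obtain ⟨c, rfl⟩ := (K.range_v ▸ hj : j ∈ Set.range K.v)
    exact h c

end Coords

theorem exists_setting {G : Type*} [Group G] [Finite G] (D : Data G) : ∃ S : Setting G, S.D = D := by
  obtain ⟨K⟩ := exists_coords D
  exact ⟨⟨D, K.frame, K.v_one1, SetLike.coe_injective K.range_v⟩, rfl⟩

end Cfsg.Lib.PSpThree
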