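import Cfsg.Agent.Lib.PSpThree.FourTwo
import Cfsg.Agent.Lib.Coprime.Generation
import Cfsg.Agent.Lib.Core.Cores
import Cfsg.Agent.Lib.Recog.SelfThree.Main

/-!
# A self-centralising element of order three in a section normalised by a second one

The section is then its core prime to three extended by the element or by a symmetric group of degree three, and
the core is generated by the centralizers of the other elements of order three.
-/

set_option autoImplicit false
set_option maxHeartbeats 1600000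
set_option linter.unusedSectionVars false
set_option linter.style.haveILetI false

namespace Cfsg.Lib.PSpThree

open Subgroup

/-- The hypotheses: `L / E` has `c` self-centralising and `P` of order nine normalises both. -/
structure PairAct {G : Type*} [Group G] (L E P : Subgroup G) (c : G) : Prop where
  hEL : E ≤ L
  hEn : ∀ l ∈ L, ∀ e ∈ E, l * e * l⁻¹ ∈ E
  hE2 : ∃ n, Nat.card E = 2 ^ n
  hPL : ∀ x ∈ P, ∀ l ∈ L, x * l * x⁻¹ ∈ L
  hPE : ∀ x ∈ P, ∀ e ∈ E, x * e * x⁻¹ ∈ E
  hPc : ∀ x ∈ P, ∀ y ∈ P, x * y = y * x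
  hP3 : ∀ x ∈ P, x ^ 3 = 1
  hP9 : Nat.card P = 9
  c_mem : c ∈ P
  c_L : c ∈ L
  c_ne : c ≠ 1
  cent : ∀ g ∈ L, g * c * g⁻¹ * c⁻¹ ∈ E → ∃ k : ℕ, ∃ e ∈ E, g = c ^ k * e
  small : ∀ x ∈ P, x ∉ zpowers c → ∀ g ∈ L, g * x = x * g → ∀ p : ℕ, p = 5 ∨ p = 7 → g ^ p = 1 → g = 1

namespace PairAct

variable {G : Type*} [Group G] [Finite G] {L E P : Subgroup G} {c : G} (h : PairAct L E P c)
include h

theorem c_not : c ∉ E := fun hc => by
  obtain ⟨n, hn⟩ := h.hE2
  have h1 : orderOf c = 3 := orderOf_eq_prime (h.hP3 c h.c_mem) h.c_ne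
  have h2 := Subgroup.orderOf_dvd_natCard E hc
  rw [h1, hn] at h2
  exact absurd (Nat.prime_three.dvd_of_dvd_pow h2) (by decide)

/-- An element of prime order five or seven of `L` is centralised by no element of `P`. -/
theorem prime_free {p : ℕ} (hp : p = 5 ∨ p = 7) {x : G} (hx : x ∈ P) (hx1 : x ≠ 1) {g : G} (hg : g ∈ L)
    (hgx : g * x = x * g) (hgp : g ^ p = 1) : g = 1 := by
  by_cases hxc : x ∈ zpowers c
  · have hcx : g * c = c * g := by
      obtain ⟨k, hk⟩ : c ∈ zpowers x := by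
        have h1 : orderOf x = 3 := orderOf_eq_prime (h.hP3 x hx) hx1
        have h2 : orderOf c = 3 := orderOf_eq_prime (h.hP3 c h.c_mem) h.c_ne
        have e : zpowers x = zpowers c := eq_of_le_of_card_ge (zpowers_le.2 hxc) (by
          rw [Nat.card_zpowers, Nat.card_zpowers, h1, h2])
        rw [e]; exact mem_zpowers c
      rw [← hk]
      exact ((show Commute g x from hgx).zpow_right k).eq
    obtain ⟨k, e, he, rfl⟩ := h.cent g hg (by rw [hcx, mul_inv_cancel_right, mul_inv_cancel]; exact one_mem _)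
    have hce : Commute (c ^ k) e := by
      have hc1 : Commute c e := by
        have h1 : Commute (c ^ k * e) c := hcx
        have h2 : Commute ((c ^ k)⁻¹ * (c ^ k * e)) c :=
          ((Commute.refl c).pow_left k).inv_left.mul_left h1
        rw [inv_mul_cancel_left] at h2
        exact h2.symm
      exact hc1.pow_left k
    obtain ⟨n, hn⟩ := h.hE2
    have he2 : e ^ 2 ^ n = 1 := by
      rw [← hn]
      have h0 := congrArg Subtype.val (pow_card_eq_one' (x := (⟨e, he⟩ : E)))
      rwa [SubmonoidClass.coe_pow] at h0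
    have h1 : orderOf (c ^ k * e) ∣ p := orderOf_dvd_of_pow_eq_one hgp
    have h2 : orderOf (c ^ k * e) ∣ 3 * 2 ^ n := orderOf_dvd_of_pow_eq_one (by
      rw [hce.mul_pow]
      have e1 : (c ^ k) ^ (3 * 2 ^ n) = 1 := by
        rw [← pow_mul, mul_comm, mul_assoc, pow_mul, h.hP3 c h.c_mem, one_pow]
      have e2 : e ^ (3 * 2 ^ n) = 1 := by rw [mul_comm, pow_mul, he2, one_pow]
      rw [e1, e2, one_mul])
    have hcop : Nat.Coprime p (3 * 2 ^ n) := by
      rcases hp with rfl | rfl <;>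
        exact Nat.Coprime.mul_right (by norm_num) (Nat.Coprime.pow_right _ (by norm_num))
    exact orderOf_eq_one_iff.1 (Nat.eq_one_of_dvd_coprimes hcop h1 h2)
  · exact h.small x hx hxc g hg hgx p hp hgp

/-- Neither five nor seven divides the order of `L` as in the two exceptional cases. -/
theorem no_exceptional {j : ℕ} : Nat.card L ≠ 60 * 2 ^ j ∧ Nat.card L ≠ 168 * 2 ^ j := by
  classical
  haveI : Fact (Nat.Prime 3) := ⟨Nat.prime_three⟩
  -- the action on subgroups of prime order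
  have main : ∀ {p m : ℕ}, p.Prime → (p = 5 ∨ p = 7) → Nat.card L = p * m → ¬ p ∣ m →
      (∀ n, n ∣ m → n ≡ 1 [MOD p] → ¬ 9 ∣ n ∧ (p = 7 → ¬ 3 ∣ n)) → False := by
    intro p m hp hp57 hL hpm hn
    haveI : Fact p.Prime := ⟨hp⟩
    let Ω := {R : Subgroup G // R ≤ L ∧ Nat.card R = p}
    letI : MulAction P Ω :=
      { smul := fun x R => ⟨R.1.map (MulAut.conj (x : G)).toMonoidHom, by
          refine ⟨?_, by rw [card_map_of_injective (MulAut.conj (x : G)).injective]; exact R.2.2⟩
          rintro _ ⟨r, hr, rfl⟩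
          exact h.hPL x x.2 r (R.2.1 hr)⟩
        one_smul := fun R => Subtype.ext (by
          show R.1.map (MulAut.conj ((1 : P) : G)).toMonoidHom = R.1
          ext r; simp [MulAut.conj_apply])
        mul_smul := fun x y R => Subtype.ext (by
          show R.1.map _ = (R.1.map _).map _
          rw [Subgroup.map_map]
          congr 1
          ext r
          simp [mul_assoc]) }
    have hp2 : ¬ p ^ 2 ∣ p * m := fun hd => hpm (by
      rw [pow_two] at hd
      exact Nat.dvd_of_mul_dvd_mul_left hp.pos hd)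
    have hsyl : ∀ R : Sylow p L, Nat.card (R : Subgroup L) = p := fun R => by
      obtain ⟨a, ha⟩ := R.isPGroup'.exists_card_eq
      have h1 : p ∣ Nat.card (R : Subgroup L) := R.dvd_card_of_dvd_card (by rw [hL]; exact dvd_mul_right _ _)
      have h2 : Nat.card (R : Subgroup L) ∣ p * m := hL ▸ card_subgroup_dvd_card _
      rcases a with _ | _ | a
      · rw [ha, pow_zero, Nat.dvd_one] at h1; exact absurd h1 hp.ne_one
      · rw [ha, pow_one]
      · rw [ha] at h2; exact absurd (dvd_trans (pow_dvd_pow p (by omega)) h2) hp2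
    have hbij : Nat.card Ω = Nat.card (Sylow p L) := by
      refine (Nat.card_eq_of_bijective (fun R : Sylow p L => (⟨(R : Subgroup L).map L.subtype, map_subtype_le _,
        by rw [card_map_of_injective L.subtype_injective, hsyl]⟩ : Ω)) ⟨fun R R' e => ?_, fun R => ?_⟩).symm
      · exact Sylow.ext (map_injective L.subtype_injective (congrArg Subtype.val e))
      · have hc : Nat.card (R.1.subgroupOf L) = p := by
          rw [Nat.card_congr (subgroupOfEquivOfLe R.2.1).toEquiv, R.2.2]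
        obtain ⟨S, hS⟩ := (IsPGroup.of_card (n := 1) (by rw [hc, pow_one]) : IsPGroup p (R.1.subgroupOf L)).exists_le_sylow
        refine ⟨S, Subtype.ext ?_⟩
        show (S : Subgroup L).map L.subtype = R.1
        rw [← eq_of_le_of_card_ge hS (by rw [hsyl, hc]), map_subgroupOf_eq_of_le R.2.1]
    obtain ⟨S₀⟩ : Nonempty (Sylow p L) := inferInstance
    have hnd : Nat.card Ω ∣ m := by
      rw [hbij]
      have h1 := S₀.card_dvd_index
      have h2 := card_mul_index (S₀ : Subgroup L)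
      rw [hsyl, hL] at h2
      rwa [Nat.eq_of_mul_eq_mul_left hp.pos h2] at h1
    obtain ⟨h9, h3⟩ := hn _ hnd (hbij ▸ card_sylow_modEq_one p L)
    -- an element fixing a subgroup
    haveI : Finite Ω := Subtype.finite
    haveI : Nonempty Ω := (Nat.card_pos_iff.1 (by rw [hbij]; exact Nat.card_pos)).1
    obtain ⟨R, x, hx1, hfix⟩ : ∃ R : Ω, ∃ x : P, x ≠ 1 ∧ x • R = R ∧ (p = 7 → ∀ y : P, y • R = R) := by
      by_cases h3' : 3 ∣ Nat.card Ω
      · have hp5 : p ≠ 7 := fun e => h3 e h3'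
        by_contra hcon
        push Not at hcon
        letI : Fintype P := Fintype.ofFinite P
        letI : Fintype Ω := Fintype.ofFinite Ω
        have hsum := MulAction.sum_card_fixedBy_eq_card_orbits_mul_card_group P Ω
        rw [Finset.sum_eq_single (1 : P) (fun y _ hy => ?_) (fun e => absurd (Finset.mem_univ _) e)] at hsum
        · apply h9
          refine ⟨Fintype.card (Quotient (MulAction.orbitRel P Ω)), ?_⟩
          have hP : Fintype.card P = 9 := by rw [← Nat.card_eq_fintype_card]; exact h.hP9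
          rw [hP] at hsum
          rw [mul_comm, ← hsum, ← Nat.card_eq_fintype_card (α := MulAction.fixedBy Ω (1 : P))]
          exact Nat.card_congr (Equiv.subtypeUnivEquiv fun R => MulAction.mem_fixedBy.2 (one_smul P R)).symm
        · rw [Fintype.card_eq_zero_iff]
          exact ⟨fun R => hp5 (hcon R.1 y hy R.2).1⟩
      · obtain ⟨R, hR⟩ := IsPGroup.nonempty_fixed_point_of_prime_not_dvd_card
          (IsPGroup.of_card (p := 3) (n := 2) (by rw [h.hP9]; rfl) : IsPGroup 3 P) Ω h3'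
        exact ⟨R, ⟨c, h.c_mem⟩, fun e => h.c_ne (congrArg Subtype.val e), hR _, fun _ => hR⟩
    obtain ⟨r, hr⟩ : ∃ r : G, zpowers r = R.1 ∧ r ≠ 1 := by
      obtain ⟨⟨r, hr⟩, hr1⟩ := exists_prime_orderOf_dvd_card' (G := R.1) p (by rw [R.2.2])
      rw [Subgroup.orderOf_mk] at hr1
      exact ⟨r, eq_of_le_of_card_ge (zpowers_le.2 hr) (by rw [Nat.card_zpowers, hr1, R.2.2]), fun e => by
        rw [e, orderOf_one] at hr1; exact hp.ne_one hr1.symm⟩
    obtain ⟨hr, hr1⟩ := hr
    have hro : orderOf r = p := by rw [← Nat.card_zpowers, hr, R.2.2]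
    have hrL : r ∈ L := R.2.1 (hr ▸ mem_zpowers r)
    have hrp : r ^ p = 1 := hro ▸ pow_orderOf_eq_one r
    have hexp : ∀ y : P, y • R = R → ∃ k : ℕ, k < p ∧ (y : G) * r * (y : G)⁻¹ = r ^ k := by
      intro y hy
      have hmem : (y : G) * r * (y : G)⁻¹ ∈ zpowers r := by
        rw [hr]
        have h1 : R.1.map (MulAut.conj (y : G)).toMonoidHom = R.1 := congrArg Subtype.val hy
        rw [← h1]
        exact ⟨r, hr ▸ mem_zpowers r, rfl⟩
      obtain ⟨k, hk⟩ := (Submonoid.mem_powers_iff _ r).1 (mem_powers_iff_mem_zpowers.2 hmem)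
      exact ⟨k % p, Nat.mod_lt _ hp.pos, by rw [← hro, pow_mod_orderOf, hk]⟩
    have hcube : ∀ (y : P) (k : ℕ), (y : G) * r * (y : G)⁻¹ = r ^ k → k < p → k * k * k % p = 1 := by
      intro y k hk hkp
      have hpow : ∀ a : ℕ, (y : G) * r ^ a * (y : G)⁻¹ = r ^ (k * a) := fun a => by
        rw [← conj_pow, hk, pow_mul]
      have e : r ^ (k * k * k) = r := by
        calc r ^ (k * k * k) = (y : G) * ((y : G) * ((y : G) * r * (y : G)⁻¹) * (y : G)⁻¹) * (y : G)⁻¹ := by
              rw [hk, hpow, hpow, mul_assoc]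
          _ = (y : G) ^ 3 * r * ((y : G) ^ 3)⁻¹ := by rw [pow_succ, pow_two]; group
          _ = r := by rw [h.hP3 _ y.2, inv_one, one_mul, mul_one]
      have e' : r ^ (k * k * k) = r ^ 1 := by rw [pow_one]; exact e
      rw [pow_eq_pow_iff_modEq, hro] at e'
      rwa [Nat.ModEq, Nat.one_mod_eq_one.2 hp.ne_one] at e'
    have hcomm : ∀ y : P, (y : G) * r * (y : G)⁻¹ = r → y = 1 := fun y hy => by
      by_contra hy1
      exact hr1 (h.prime_free hp57 y.2 (fun e => hy1 (Subtype.ext e)) hrL (mul_inv_eq_iff_eq_mul.1 hy).symm hrp)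
    rcases hp57 with rfl | rfl
    · obtain ⟨k, hkp, hk⟩ := hexp x hfix.1
      have hk3 := hcube x k hk hkp
      have key : ∀ k, k < 5 → k * k * k % 5 = 1 → k = 1 := by decide
      rw [key k hkp hk3, pow_one] at hk
      exact hx1 (hcomm x hk)
    · have hall := hfix.2 rfl
      have hval : ∀ y : P, ∃ k : ℕ, (k = 1 ∨ k = 2 ∨ k = 4) ∧ (y : G) * r * (y : G)⁻¹ = r ^ k := fun y => by
        obtain ⟨k, hkp, hk⟩ := hexp y (hall y)
        have key : ∀ k, k < 7 → k * k * k % 7 = 1 → k = 1 ∨ k = 2 ∨ k = 4 := by decide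
        exact ⟨k, key k hkp (hcube y k hk hkp), hk⟩
      choose k hk hke using hval
      have hinj : Function.Injective k := fun y z e => by
        refine inv_mul_eq_one.1 (hcomm (y⁻¹ * z) ?_)
        have h1 := hke y
        rw [e, ← hke z] at h1
        show ((y : G)⁻¹ * z) * r * ((y : G)⁻¹ * z)⁻¹ = r
        calc ((y : G)⁻¹ * z) * r * ((y : G)⁻¹ * z)⁻¹ = (y : G)⁻¹ * ((z : G) * r * (z : G)⁻¹) * y := by group
          _ = r := by rw [← h1]; group
      have : Nat.card P ≤ 3 := by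
        calc Nat.card P ≤ Nat.card ({1, 2, 4} : Finset ℕ) := Nat.card_le_card_of_injective
              (fun y => (⟨k y, by simpa using hk y⟩ : ({1, 2, 4} : Finset ℕ)))
              fun y z e => hinj (congrArg Subtype.val e)
          _ = 3 := by rw [Nat.card_eq_fintype_card, Fintype.card_coe]; rfl
      rw [h.hP9] at this
      omega
  have hpw : ∀ j, 2 ^ j % 7 = 1 ∨ 2 ^ j % 7 = 2 ∨ 2 ^ j % 7 = 4 := fun j => by
    induction j with
    | zero => exact Or.inl rfl
    | succ j ih => rw [pow_succ, Nat.mul_mod]; rcases ih with e | e | e <;> rw [e] <;> simp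
  constructor <;> intro hL
  · refine main (p := 5) (m := 12 * 2 ^ j) (by norm_num) (Or.inl rfl) (by rw [hL]; ring) ?_ fun n hn _ => ?_
    · intro hd
      rcases (by norm_num : Nat.Prime 5).dvd_mul.1 hd with e | e
      · exact absurd e (by decide)
      · exact absurd ((by norm_num : Nat.Prime 5).dvd_of_dvd_pow e) (by decide)
    · refine ⟨fun h9 => ?_, fun e => absurd e (by decide)⟩
      have h1 : (9 : ℕ) ∣ 12 * 2 ^ j := h9.trans hn
      rw [show 12 * 2 ^ j = 3 * (4 * 2 ^ j) by ring, show (9 : ℕ) = 3 * 3 by rfl] at h1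
      rcases Nat.prime_three.dvd_mul.1 (Nat.dvd_of_mul_dvd_mul_left (by norm_num) h1) with e | e
      · exact absurd e (by decide)
      · exact absurd (Nat.prime_three.dvd_of_dvd_pow e) (by decide)
  · refine main (p := 7) (m := 24 * 2 ^ j) (by norm_num) (Or.inr rfl) (by rw [hL]; ring) ?_ fun n hn hn1 => ?_
    · intro hd
      rcases (by norm_num : Nat.Prime 7).dvd_mul.1 hd with e | e
      · exact absurd e (by decide)
      · exact absurd ((by norm_num : Nat.Prime 7).dvd_of_dvd_pow e) (by decide)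
    · have h3 : ¬ 3 ∣ n := fun ⟨d, hd⟩ => by
        subst hd
        rw [show 24 * 2 ^ j = 3 * 2 ^ (j + 3) by ring] at hn
        obtain ⟨a, -, ha⟩ := (Nat.dvd_prime_pow Nat.prime_two).1 (Nat.dvd_of_mul_dvd_mul_left (by norm_num) hn)
        subst ha
        rw [Nat.ModEq, Nat.mul_mod] at hn1
        rcases hpw a with e | e | e <;> rw [e] at hn1 <;> simp at hn1
      exact ⟨fun h9 => h3 (dvd_trans (by norm_num) h9), fun _ => h3⟩

/-- The core prime to three: generated by centralizers, of index three or six. -/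
theorem exists_core : ∃ O : Subgroup G, E ≤ O ∧ O ≤ L ∧
    (∀ x : G, (∀ l ∈ L, x * l * x⁻¹ ∈ L) → (∀ e ∈ E, x * e * x⁻¹ ∈ E) → ∀ o ∈ O, x * o * x⁻¹ ∈ O) ∧
    (O.relIndex L = 3 ∨ O.relIndex L = 6) ∧ (∀ g ∈ O, g ^ 3 ∈ E → g ∈ E) ∧
    (O ≠ E → ∃ g ∈ O, g ∉ E ∧ ∀ o ∈ O, g * o * g⁻¹ * o⁻¹ ∈ E) ∧
    (∀ W : Subgroup G, E ≤ W → (∀ x ∈ P, x ∉ zpowers c → ∀ g ∈ O, g * x = x * g → g ∈ W) → O ≤ W) := by
  classical
  haveI : Fact (Nat.Prime 3) := ⟨Nat.prime_three⟩
  haveI hn : (E.subgroupOf L).Normal := ⟨fun e he l => mem_subgroupOf.2 (h.hEn l l.2 e (mem_subgroupOf.1 he))⟩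
  let π := QuotientGroup.mk' (E.subgroupOf L)
  have hπ : ∀ l : L, π l = 1 ↔ (l : G) ∈ E := fun l => (QuotientGroup.eq_one_iff l).trans mem_subgroupOf
  set cL : L := ⟨c, h.c_L⟩
  have hc3 : orderOf (π cL) = 3 := by
    refine orderOf_eq_prime ?_ fun e => h.c_not ((hπ cL).1 e)
    rw [← map_pow, show cL ^ 3 = 1 from Subtype.ext (by simpa using h.hP3 c h.c_mem), map_one]
  have hsc : Recog.SelfThree.SC (π cL) := by
    refine ⟨hc3, fun q hq => ?_⟩
    obtain ⟨g, rfl⟩ := QuotientGroup.mk'_surjective _ q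
    change π g * π cL = π cL * π g at hq
    obtain ⟨k, e, he, hg⟩ := h.cent g g.2 (by
      have h1 : π (g * cL * g⁻¹ * cL⁻¹) = 1 := by rw [map_mul, map_mul, map_mul, map_inv, map_inv, hq]; group
      exact (hπ _).1 h1)
    refine ⟨k, ?_⟩
    show π cL ^ (k : ℤ) = π g
    rw [zpow_natCast, ← map_pow, show g = cL ^ k * ⟨e, h.hEL he⟩ from Subtype.ext (by simpa using hg),
      map_mul π (cL ^ k), (hπ ⟨e, h.hEL he⟩).2 he, mul_one]
  obtain ⟨n, hn2⟩ := h.hE2
  have hcardL : Nat.card L = Nat.card (L ⧸ E.subgroupOf L) * 2 ^ n := by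
    rw [← hn2, ← Nat.card_congr (subgroupOfEquivOfLe h.hEL).toEquiv,
      ← card_eq_card_quotient_mul_card_subgroup]
  rcases Recog.SelfThree.struct_of_sc hsc with ⟨N, hN, hN3, hidx⟩ | ⟨N, hN, -, hN2, ⟨e⟩⟩ | ⟨-, h168⟩
  rotate_left
  · exfalso
    obtain ⟨a, ha⟩ := (show IsPGroup 2 N from fun s => ⟨1, Subtype.ext (by simpa using hN2 s s.2)⟩).exists_card_eq
    refine (h.no_exceptional (j := a + n)).1 ?_
    rw [hcardL, N.card_eq_card_quotient_mul_card_subgroup, Nat.card_congr e.toEquiv, nat_card_alternatingGroup,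
      Nat.card_fin, ha, pow_add, show Nat.factorial 5 / 2 = 60 by rfl]
    ring
  · exfalso
    exact (h.no_exceptional (j := n)).2 (by rw [hcardL, h168])
  set O₀ := Cfsg.pPrimeCore 3 (L ⧸ E.subgroupOf L) with hO₀
  set O : Subgroup G := (O₀.comap π).map L.subtype with hO
  have hmemO : ∀ {g : G} (hg : g ∈ L), g ∈ O ↔ π ⟨g, hg⟩ ∈ O₀ := fun {g} hg => by
    constructor
    · rintro ⟨l, hl, e⟩
      rwa [show (⟨g, hg⟩ : L) = l from Subtype.ext e.symm]
    · exact fun hl => ⟨⟨g, hg⟩, hl, rfl⟩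
  have hOL : O ≤ L := map_subtype_le _
  have hEO : E ≤ O := fun g hg => (hmemO (h.hEL hg)).2 (by rw [(hπ _).2 hg]; exact one_mem _)
  have hO3 : ¬ 3 ∣ Nat.card O₀ := Core.pPrimeCore_not_dvd 3 _
  have hnorm : ∀ x : G, (∀ l ∈ L, x * l * x⁻¹ ∈ L) → (∀ e ∈ E, x * e * x⁻¹ ∈ E) → ∀ o ∈ O, x * o * x⁻¹ ∈ O := by
    intro x hxL hxE o ho
    let f : L →* L := MonoidHom.mk' (fun l => ⟨x * l * x⁻¹, hxL l l.2⟩) fun a b => Subtype.ext (by
      show x * ((a : G) * b) * x⁻¹ = x * a * x⁻¹ * (x * b * x⁻¹)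
      group)
    have hfs : Function.Surjective f := Finite.surjective_of_injective fun a b e => Subtype.ext (by
      simpa [f] using congrArg Subtype.val e)
    let f' := QuotientGroup.map (E.subgroupOf L) (E.subgroupOf L) f fun e he => by
      rw [mem_comap, mem_subgroupOf]
      exact hxE e (mem_subgroupOf.1 he)
    have hf's : Function.Surjective f' := fun q => by
      obtain ⟨l, rfl⟩ := QuotientGroup.mk'_surjective _ q
      obtain ⟨l', rfl⟩ := hfs l
      exact ⟨π l', rfl⟩
    refine (hmemO (hxL o (hOL ho))).2 ?_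
    exact Core.map_pPrimeCore_le (p := 3) f' hf's ⟨π ⟨o, hOL ho⟩, (hmemO _).1 ho, rfl⟩
  have hle : N ≤ O₀ := Core.le_pPrimeCore' hN ((Nat.Prime.coprime_iff_not_dvd Nat.prime_three).2 hN3).symm
  have hrel : O.relIndex L = O₀.index := by
    rw [hO, relIndex, subgroupOf, comap_map_eq_self_of_injective L.subtype_injective,
      index_comap_of_surjective _ (QuotientGroup.mk'_surjective _)]
  have h3i : 3 ∣ O₀.index := by
    have h1 := card_mul_index O₀
    have h2 : 3 ∣ Nat.card (L ⧸ E.subgroupOf L) := hc3 ▸ orderOf_dvd_natCard _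
    rw [← h1] at h2
    exact (Nat.prime_three.dvd_mul.1 h2).resolve_left hO3
  have hidx' : O.relIndex L = 3 ∨ O.relIndex L = 6 := by
    rw [hrel]
    obtain ⟨d, hd⟩ := h3i
    have := index_dvd_of_le hle
    have hne0 : O₀.index ≠ 0 := index_ne_zero_of_finite
    rcases hidx with e | e <;> rw [e, hd] at this
    · left; have := Nat.le_of_dvd (by norm_num) this; omega
    · have h6 := Nat.le_of_dvd (by norm_num) this
      rcases (by omega : d = 0 ∨ d = 1 ∨ d = 2) with rfl | rfl | rfl <;> simp_all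
  refine ⟨O, hEO, hOL, hnorm, hidx', fun g hg hg3 => ?_, fun hne => ?_, fun W hEW hW => ?_⟩
  · refine (hπ ⟨g, hOL hg⟩).1 ?_
    have h1 : π ⟨g, hOL hg⟩ ^ 3 = 1 := by rw [← map_pow]; exact (hπ _).2 (by simpa using hg3)
    by_contra hne
    have h2 := orderOf_eq_prime h1 hne
    have h3 := Subgroup.orderOf_dvd_natCard O₀ ((hmemO (hOL hg)).1 hg)
    rw [h2] at h3
    exact hO3 h3
  · haveI : Group.IsNilpotent O₀ := hsc.nilpotent ⟨fun k hk => (inferInstance : O₀.Normal).conj_mem k hk _, hO3⟩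
    haveI : Nontrivial O₀ := by
      rw [nontrivial_iff_ne_bot]
      intro hbot
      refine hne (le_antisymm (fun g hg => ?_) hEO)
      have h1 := (hmemO (hOL hg)).1 hg
      rw [hbot, mem_bot] at h1
      exact (hπ _).1 h1
    obtain ⟨⟨q, hqO⟩, hq, hq1⟩ := (Subgroup.bot_or_exists_ne_one _).resolve_left
      (Group.IsNilpotent.center_ne_bot (G := O₀))
    obtain ⟨l, rfl⟩ := QuotientGroup.mk'_surjective _ q
    refine ⟨l, (hmemO l.2).2 hqO, fun hlE => hq1 (Subtype.ext ((hπ l).2 hlE)), fun o ho => ?_⟩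
    have h1 : π (l * ⟨o, hOL ho⟩ * l⁻¹ * ⟨o, hOL ho⟩⁻¹) = 1 := by
      have h2 : π ⟨o, hOL ho⟩ * π l = π l * π ⟨o, hOL ho⟩ :=
        congrArg Subtype.val (mem_center_iff.1 hq ⟨π ⟨o, hOL ho⟩, (hmemO _).1 ho⟩)
      rw [map_mul, map_mul, map_mul, map_inv, map_inv, ← h2]
      group
    exact (hπ _).1 h1
  · haveI : IsMulCommutative P := ⟨⟨fun a b => Subtype.ext (h.hPc a a.2 b b.2)⟩⟩
    have hnc : ¬ IsCyclic P := fun hcyc => by
      obtain ⟨w, hw⟩ := hcyc.exists_generator
      have h1 : orderOf w = 9 := by rw [orderOf_eq_card_of_forall_mem_zpowers hw]; exact h.hP9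
      have h2 : orderOf w ∣ 3 := orderOf_dvd_of_pow_eq_one (Subtype.ext (by simpa using h.hP3 _ w.2))
      rw [h1] at h2
      exact absurd h2 (by decide)
    have hPO : P ≤ normalizer (O : Set G) := fun x hx => Fusion.le_normalizer_of_conj_mem
      fun o ho => hnorm x (h.hPL x hx) (h.hPE x hx) o ho
    have hcardO : Nat.card O = 2 ^ n * Nat.card O₀ := by
      rw [hO, card_map_of_injective L.subtype_injective, Core.card_comap_eq π (QuotientGroup.mk'_surjective _),
        QuotientGroup.ker_mk', Nat.card_congr (subgroupOfEquivOfLe h.hEL).toEquiv, hn2]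
    have hcop : (Nat.card P).Coprime (Nat.card O) := by
      rw [h.hP9, hcardO, show (9 : ℕ) = 3 ^ 2 by rfl]
      exact Nat.Coprime.pow_left 2 (Nat.Coprime.mul_right (Nat.Coprime.pow_right _ (by norm_num))
        ((Nat.Prime.coprime_iff_not_dvd Nat.prime_three).2 hO3))
    refine (Coprime.le_iSup_centralizer_of_not_isCyclic hnc hPO hcop).trans (iSup_le fun a => ?_)
    rintro g ⟨hgO, hga⟩
    have hga' := mem_centralizer_singleton_iff.1 hga
    by_cases hac : (a : G) ∈ zpowers c
    · refine hEW ?_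
      have hgc : g * c = c * g := by
        obtain ⟨k, hk⟩ : c ∈ zpowers (a : G) := by
          have h1 : orderOf (a : G) = 3 := orderOf_eq_prime (h.hP3 _ a.2.1) a.2.2
          have h2 : orderOf c = 3 := orderOf_eq_prime (h.hP3 c h.c_mem) h.c_ne
          have e : zpowers (a : G) = zpowers c := eq_of_le_of_card_ge (zpowers_le.2 hac) (by
            rw [Nat.card_zpowers, Nat.card_zpowers, h1, h2])
          rw [e]; exact mem_zpowers c
        rw [← hk]
        exact ((show Commute g (a : G) from hga').zpow_right k).eq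
      obtain ⟨k, e, he, hge⟩ := h.cent g (hOL hgO) (by rw [hgc, mul_inv_cancel_right, mul_inv_cancel]; exact one_mem _)
      have h1 : π ⟨g, hOL hgO⟩ = π cL ^ k := by
        rw [show (⟨g, hOL hgO⟩ : L) = cL ^ k * ⟨e, h.hEL he⟩ from Subtype.ext (by simpa using hge), map_mul,
          map_pow, (hπ ⟨e, h.hEL he⟩).2 he, mul_one]
      refine (hπ ⟨g, hOL hgO⟩).1 ?_
      by_contra hne
      have h2 : π ⟨g, hOL hgO⟩ ^ 3 = 1 := by
        rw [h1, ← pow_mul, mul_comm, pow_mul, ← map_pow,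
          show cL ^ 3 = 1 from Subtype.ext (by simpa using h.hP3 c h.c_mem), map_one, one_pow]
      have h3 := Subgroup.orderOf_dvd_natCard O₀ ((hmemO (hOL hgO)).1 hgO)
      rw [orderOf_eq_prime h2 hne] at h3
      exact hO3 h3
    · exact hW a a.2.1 hac g hgO hga'

end PairAct

end Cfsg.Lib.PSpThree
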