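import Cfsg.Agent.Lib.PSpThree.MakeFrame

/-!
# The centralizer of the central element in coordinates

`R` consists of the codes with digit sum zero times the cyclic permutations, and every element of `R` outside the
centre is conjugate in the centralizer into `J`.
-/

set_option autoImplicit false
set_option maxHeartbeats 1600000
set_option maxRecDepth 100000
set_option linter.unusedSectionVars false
set_option linter.style.haveILetI false

namespace Cfsg.Lib.PSpThree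

open Subgroup Cfsg.Lib.SymNine

/-- The codes with digit sum zero. -/
def sumz (c : Fin 27) : Bool := (c.val / 9 + c.val / 3 % 3 + c.val % 3) % 3 == 0

theorem sum_facts :
    (∀ c, sumz c = false → ∀ d : Fin 27, ∃ i j l : Fin 3, d = vAdd (vSmul i.val one1)
      (vAdd (vSmul j.val c) (vSmul l.val (vAdd (lap (lperm 3) c) (vSmul 2 c))))) ∧
    (Finset.univ.filter fun c : Fin 27 => sumz c = true).card = 9 ∧
    (∀ c k, (k = 3 ∨ k = 4) → vAdd c (vAdd (lap (lperm k) c) (lap (lperm k) (lap (lperm k) c))) = 0 →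
      sumz c = true) ∧
    (∀ c d, sumz c = true → sumz d = true → sumz (vAdd c d) = true) ∧
    sumz one1 = true ∧ sumz 0 = true ∧
    (∀ c k, (k = 3 ∨ k = 4) → sumz c = true →
      ∃ d, vAdd d (vAdd c (vSmul 2 (lap (lperm k) d))) = 0) ∧
    (∀ k : Fin 6, (k = 3 ∨ k = 4) → kmul k k ≠ k ∧ (kmul k k = 3 ∨ kmul k k = 4) ∧ kmul k (kmul k k) = 0) := by
  refine ⟨?_, ?_, ?_, ?_, ?_, ?_, ?_, ?_⟩ <;> decide +kernel

namespace Setting

variable {G : Type*} [Group G] [Finite G] (S : Setting G)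

theorem a_eq : S.F.v one1 = S.D.a := S.hx

theorem v_mem_J (c : Fin 27) : S.F.v c ∈ S.D.J := S.hJ ▸ S.F.v_mem c

theorem v_mem_C (c : Fin 27) : S.F.v c ∈ S.D.C := S.D.J_le (S.v_mem_J c)

theorem p_mem_C (k : Fin 6) : S.F.p k ∈ S.D.C :=
  S.D.mem_C.2 (S.hx ▸ Frame.p_comm_x k)

theorem norm_mem_N {g : G} (hN : g ∈ normalizer (S.F.J : Set G)) (hg : g ∈ S.D.C) :
    ∃ c k, g = S.F.v c * S.F.p k :=
  S.F.cent g (fun i => ⟨_, S.F.v_lin hN i⟩) (by rw [S.a_eq]; exact S.D.comm_a hg)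

theorem R_isPGroup : IsPGroup 3 S.D.R := IsPGroup.of_card (n := 3) (by rw [S.D.R_card]; rfl)

theorem R_le_P : S.D.R ≤ S.F.P := by
  haveI : Fact (Nat.Prime 3) := ⟨Nat.prime_three⟩
  have hPC : S.F.P ≤ S.D.C := fun y hy => S.D.mem_C.2 (by
    rw [← S.hx]; exact mem_centralizer_singleton_iff.1 (Frame.P_le_cent hy))
  have hn : S.F.P ≤ normalizer (S.D.R : Set G) := fun y hy =>
    Fusion.le_normalizer_of_conj_mem fun x hx => S.D.R_normal (hPC hy) hx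
  have hp : IsPGroup 3 ↥(S.F.P ⊔ S.D.R) :=
    (Frame.P_isPGroup (F := S.F)).to_sup_of_normal_right' S.R_isPGroup hn
  have hcard := S.F.sylC _ hp fun y hy => by
    rw [S.a_eq]
    exact S.D.comm_a ((sup_le hPC S.D.R_le : S.F.P ⊔ S.D.R ≤ S.D.C) hy)
  rw [eq_of_le_of_card_ge (le_sup_left : S.F.P ≤ S.F.P ⊔ S.D.R) (by rw [Frame.card_P]; exact hcard)]
  exact le_sup_right

theorem v_mem_R_sum {c : Fin 27} (h : S.F.v c ∈ S.D.R) : sumz c = true := by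
  by_contra hne
  rw [Bool.not_eq_true] at hne
  refine S.D.not_J_le_R fun j hj => ?_
  obtain ⟨d, rfl⟩ := S.F.mem_J.1 (S.hJ ▸ hj)
  have ha : S.F.v one1 ∈ S.D.R := S.a_eq ▸ S.D.a_mem
  have hm : S.F.v (vAdd (lap (lperm 3) c) (vSmul 2 c)) ∈ S.D.R := by
    rw [S.F.vmul, ← S.F.v_inv, ← mul_inv_eq_iff_eq_mul.2 (S.F.pv 3 c)]
    exact mul_mem (S.D.R_normal (S.p_mem_C 3) h) (inv_mem h)
  obtain ⟨i, j, l, rfl⟩ := sum_facts.1 c hne d
  rw [S.F.vmul, S.F.vmul, S.F.v_smul i.2, S.F.v_smul j.2, S.F.v_smul l.2]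
  exact mul_mem (pow_mem ha _) (mul_mem (pow_mem h _) (pow_mem hm _))

theorem v_mem_R {c : Fin 27} : S.F.v c ∈ S.D.R ↔ sumz c = true := by
  classical
  refine ⟨S.v_mem_R_sum, fun hc => ?_⟩
  have h9 := S.D.inf_card
  rw [← S.hJ] at h9
  let f : ↥(S.F.J ⊓ S.D.R : Subgroup G) → {c : Fin 27 // sumz c = true} := fun y =>
    ⟨(S.F.mem_J.1 y.2.1).choose, S.v_mem_R_sum (by rw [(S.F.mem_J.1 y.2.1).choose_spec]; exact y.2.2)⟩
  have hf : Function.Injective f := fun y z e => Subtype.ext (by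
    rw [← (S.F.mem_J.1 y.2.1).choose_spec, ← (S.F.mem_J.1 z.2.1).choose_spec]
    exact congrArg (fun c : {c : Fin 27 // sumz c = true} => S.F.v c.1) e)
  have hb := hf.bijective_of_nat_card_le (by
    rw [h9, Nat.card_eq_fintype_card, Fintype.card_subtype, sum_facts.2.1])
  obtain ⟨y, hy⟩ := hb.2 ⟨c, hc⟩
  have h := (S.F.mem_J.1 y.2.1).choose_spec
  rw [show (S.F.mem_J.1 y.2.1).choose = c from congrArg Subtype.val hy] at h
  rw [h]
  exact y.2.2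

theorem cube_sum {c : Fin 27} {k : Fin 6} (hk : k = 3 ∨ k = 4) (h : (S.F.v c * S.F.p k) ^ 3 = 1) :
    sumz c = true := by
  refine sum_facts.2.2.1 c k hk (S.F.vinj ?_)
  rw [S.F.v0, ← h, S.F.vmul, S.F.vmul, pow_succ', pow_two]
  have e : ∀ y, S.F.p k * S.F.v y * (S.F.p k)⁻¹ = S.F.v (lap (lperm k) y) := fun y => by
    rw [S.F.pv, mul_inv_cancel_right]
  have hp3 : S.F.p k * (S.F.p k * S.F.p k) = 1 := by
    rw [← S.F.pmul, ← S.F.pmul, (sum_facts.2.2.2.2.2.2.2 k hk).2.2, S.F.p0]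
  rw [← e c, ← e (_ : Fin 27)]
  conv_lhs => rw [← mul_one (S.F.v c * _), ← hp3]
  rw [← e c]
  group

theorem p_three_mem_R : S.F.p 3 ∈ S.D.R ∧ S.F.p 4 ∈ S.D.R := by
  obtain ⟨r, hr, hrJ⟩ := SetLike.not_le_iff_exists.1 (show ¬ S.D.R ≤ S.F.J from fun h => by
    rw [S.hJ] at h
    exact S.D.not_J_le_R (eq_of_le_of_card_ge h (by rw [S.D.J_card, S.D.R_card])).ge)
  obtain ⟨c, k, hk, rfl⟩ := S.R_le_P hr
  rcases hk with rfl | hk
  · exact absurd (by rw [S.F.p0, mul_one]; exact S.F.v_mem c) hrJ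
  have hv : S.F.v c ∈ S.D.R := S.v_mem_R.2 (S.cube_sum hk (S.D.R_exp _ hr))
  have hp : S.F.p k ∈ S.D.R := by simpa using mul_mem (inv_mem hv) hr
  have hp2 : S.F.p (kmul k k) ∈ S.D.R := by rw [S.F.pmul]; exact mul_mem hp hp
  rcases hk with rfl | rfl
  · exact ⟨hp, (show kmul 3 3 = (4 : Fin 6) by decide +kernel) ▸ hp2⟩
  · exact ⟨(show kmul 4 4 = (3 : Fin 6) by decide +kernel) ▸ hp2, hp⟩

theorem mem_R_iff {g : G} : g ∈ S.D.R ↔ ∃ c k, sumz c = true ∧ (k = 0 ∨ k = 3 ∨ k = 4) ∧ g = S.F.v c * S.F.p k := by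
  constructor
  · intro hg
    obtain ⟨c, k, hk, rfl⟩ := S.R_le_P hg
    refine ⟨c, k, ?_, hk, rfl⟩
    rcases hk with rfl | hk
    · rw [S.F.p0, mul_one] at hg
      exact S.v_mem_R_sum hg
    · exact S.cube_sum hk (S.D.R_exp _ hg)
  · rintro ⟨c, k, hc, hk, rfl⟩
    refine mul_mem (S.v_mem_R.2 hc) ?_
    rcases hk with rfl | rfl | rfl
    exacts [by rw [S.F.p0]; exact one_mem _, S.p_three_mem_R.1, S.p_three_mem_R.2]

theorem neg_of_sq {g : G} (hg : g ∈ S.D.C) (h2 : g * g = 1) (h1 : g ≠ 1) : S.D.π ⟨g, hg⟩ = -1 := by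
  have hh : S.D.π ⟨g, hg⟩ * S.D.π ⟨g, hg⟩ = 1 := by
    rw [← map_mul, show (⟨g, hg⟩ * ⟨g, hg⟩ : S.D.C) = 1 from Subtype.ext h2, map_one]
  refine (sl_facts.2.2.2.1 _ hh).resolve_left fun e => h1 ?_
  have h3 := S.D.R_exp g ((S.D.ker _).1 e)
  rwa [pow_succ, pow_two, h2, one_mul] at h3

theorem p_sq {k : Fin 6} (hk : kmul k k = 0) : S.F.p k * S.F.p k = 1 := by rw [← S.F.pmul, hk, S.F.p0]

theorem p_ne {k : Fin 6} (hk : k ≠ 0) : S.F.p k ≠ 1 := fun e =>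
  hk (S.F.free 0 k (by rw [S.F.v0, one_mul, e])).2

/-- The centralizer moves the intersection of `J` and `R`. -/
theorem exists_move : ∃ g ∈ S.D.C, ∃ y ∈ S.D.J ⊓ S.D.R, g * y * g⁻¹ ∉ S.D.J := by
  by_contra hne
  push Not at hne
  haveI : Fact (Nat.Prime 3) := ⟨Nat.prime_three⟩
  set D := S.D
  obtain ⟨i, hi, hi2, hin⟩ := D.exists_i
  obtain ⟨t, ht⟩ := sl_facts.1
  obtain ⟨⟨g, hg⟩, hgt⟩ := D.surj t
  have hL : ∀ c ∈ D.C, ∀ y ∈ D.J ⊓ D.R, c * y * c⁻¹ ∈ D.J ⊓ D.R := fun c hc y hy =>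
    ⟨hne c hc y hy, D.R_normal hc hy.2⟩
  obtain ⟨r, hr, hrZ⟩ := SetLike.not_le_iff_exists.1 (show ¬ D.J ⊓ D.R ≤ zpowers D.a from fun h' => by
    have := card_le_of_le h'
    rw [D.inf_card, Nat.card_zpowers, D.ha] at this
    omega)
  have hcube : r * (r * r) = 1 := by rw [← pow_two, ← pow_succ', D.J_exp _ hr.1]
  have hcomma : ∀ w ∈ zpowers D.a, ∀ c ∈ D.C, c * w = w * c := by
    rintro w ⟨n, rfl⟩ c hc
    exact ((show Commute c D.a from D.comm_a hc).zpow_right n).eq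
  have hspan : ∀ y ∈ D.J ⊓ D.R, ∃ n : ℕ, ∃ w ∈ zpowers D.a, n < 3 ∧ y = r ^ n * w := by
    intro y hy
    obtain ⟨c, hc⟩ := S.F.mem_J.1 (S.hJ ▸ hy.1)
    obtain ⟨d, hd⟩ := S.F.mem_J.1 (S.hJ ▸ hr.1)
    have hcs := S.v_mem_R_sum (hc ▸ hy.2)
    have hds := S.v_mem_R_sum (hd ▸ hr.2)
    have hdn : ¬ ∃ j : Fin 3, d = vSmul j.val one1 := by
      rintro ⟨j, rfl⟩
      rw [S.F.v_smul j.2, S.a_eq] at hd
      exact hrZ (hd ▸ pow_mem (mem_zpowers D.a) _)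
    have key : ∀ c d : Fin 27, sumz c = true → sumz d = true → (¬ ∃ j : Fin 3, d = vSmul j.val one1) →
        ∃ n j : Fin 3, c = vAdd (vSmul n.val d) (vSmul j.val one1) := by decide +kernel
    obtain ⟨n, j, rfl⟩ := key c d hcs hds hdn
    refine ⟨n.val, D.a ^ j.val, pow_mem (mem_zpowers _) _, n.2, ?_⟩
    rw [← hc, S.F.vmul, S.F.v_smul n.2, S.F.v_smul j.2, hd, S.a_eq]
  obtain ⟨n, w, hw, hn, e⟩ := hspan _ (hL g hg r hr)
  have hir : i * r * i⁻¹ * r⁻¹ ∈ zpowers D.a := by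
    have hq : (g * g)⁻¹ * i ∈ D.R := (D.ker ((⟨g, hg⟩ * ⟨g, hg⟩)⁻¹ * ⟨i, hi⟩)).1
        (by rw [map_mul, map_inv, map_mul, hgt, ht, hin, inv_mul_cancel])
    have hgg : g * g * r * (g * g)⁻¹ * r⁻¹ ∈ zpowers D.a := by
      have hn0 : n ≠ 0 := by
        rintro rfl
        rw [pow_zero, one_mul] at e
        refine hrZ ?_
        have h2 : r = g⁻¹ * w * g := by rw [← e]; group
        rw [h2, hcomma w hw g⁻¹ (inv_mem hg), inv_mul_cancel_right]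
        exact hw
      have hgw : g * w * g⁻¹ = w := by rw [hcomma w hw g hg, mul_inv_cancel_right]
      have hwr : Commute w r := (hcomma w hw r (D.R_le hr.2)).symm
      rw [show g * g * r * (g * g)⁻¹ = g * (g * r * g⁻¹) * g⁻¹ by group, e,
        show g * (r ^ n * w) * g⁻¹ = (g * r * g⁻¹) ^ n * (g * w * g⁻¹) by rw [conj_pow]; group, e, hgw]
      interval_cases n
      · exact absurd rfl hn0
      · rw [pow_one, pow_one, show r * w * w * r⁻¹ = r * (w * w) * r⁻¹ by group,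
          ← (hwr.mul_left hwr).eq, mul_inv_cancel_right]
        exact mul_mem hw hw
      · rw [pow_two (r ^ 2 * w), show r ^ 2 * w * (r ^ 2 * w) * w * r⁻¹ = r ^ 2 * (w * r ^ 2) * (w * w) * r⁻¹ by group,
          (hwr.pow_right 2).eq, show r ^ 2 * (r ^ 2 * w) * (w * w) * r⁻¹ = r ^ 4 * (w * (w * w)) * r⁻¹ by group,
          ← ((hwr.mul_left (hwr.mul_left hwr)).pow_right 4).eq,
          show w * (w * w) * r ^ 4 * r⁻¹ = w * (w * w) * r ^ 3 by group, D.J_exp _ hr.1, mul_one]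
        exact mul_mem hw (mul_mem hw hw)
    have hqr : ((g * g)⁻¹ * i) * r * ((g * g)⁻¹ * i)⁻¹ * r⁻¹ ∈ zpowers D.a := D.R_comm _ hq r hr.2
    have e2 : i * r * i⁻¹ * r⁻¹ = (g * g) * (((g * g)⁻¹ * i) * r * ((g * g)⁻¹ * i)⁻¹ * r⁻¹) * (g * g)⁻¹ *
        (g * g * r * (g * g)⁻¹ * r⁻¹) := by group
    rw [e2, hcomma _ hqr _ (mul_mem hg hg), mul_inv_cancel_right]
    exact mul_mem hqr hgg
  have hrr := mul_mem (inv_mem hir) (D.inverts hi hi2 hin hr.2)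
  rw [show (i * r * i⁻¹ * r⁻¹)⁻¹ * (i * r * i⁻¹ * r) = r * r by group] at hrr
  exact hrZ (by rw [show r = (r * r)⁻¹ * (r * (r * r)) by group, hcube, mul_one]; exact inv_mem hrr)

/-- An element of `R` outside the centre is conjugate into `J`. -/
theorem conj_into_J {s : G} (hs : s ∈ S.D.R) : ∃ h ∈ S.D.C, ∃ c, sumz c = true ∧ h * s * h⁻¹ = S.F.v c := by
  obtain ⟨c, k, hc, hk, rfl⟩ := S.mem_R_iff.1 hs
  rcases hk with rfl | hk
  · exact ⟨1, one_mem _, c, hc, by rw [S.F.p0]; group⟩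
  obtain ⟨g, hg, y, hy, hgy⟩ := S.exists_move
  obtain ⟨c', l, hc', hl, e⟩ := S.mem_R_iff.1 (S.D.R_normal hg hy.2)
  rcases hl with rfl | hl
  · exact absurd (by rw [e, S.F.p0, mul_one]; exact S.v_mem_J c') hgy
  obtain ⟨cy, hcy⟩ := S.F.mem_J.1 (S.hJ ▸ hy.1)
  have hJ : ∀ c k, (k = 3 ∨ k = 4) → sumz c = true →
      ∃ d, S.F.v d * (S.F.v c * S.F.p k) * (S.F.v d)⁻¹ = S.F.p k := by
    intro c k hk hc
    obtain ⟨d, hd⟩ := sum_facts.2.2.2.2.2.2.1 c k hk hc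
    refine ⟨d, ?_⟩
    rw [S.F.v_inv, show S.F.v d * (S.F.v c * S.F.p k) * S.F.v (vSmul 2 d) =
      S.F.v d * S.F.v c * (S.F.p k * S.F.v (vSmul 2 d)) by group, S.F.pv, ← mul_assoc, mul_assoc (S.F.v d), ← S.F.vmul,
      ← S.F.vmul, show lap (lperm k) (vSmul 2 d) = vSmul 2 (lap (lperm k) d) from (code_neg.2.2.1 k d).symm, hd,
      S.F.v0, one_mul]
  obtain ⟨d, hd⟩ := hJ c' l hl hc'
  obtain ⟨d', hd'⟩ := hJ c k hk hc
  have hbase : (S.F.v d * g) * S.F.v cy * (S.F.v d * g)⁻¹ = S.F.p l := by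
    rw [← hd, ← e, hcy]; group
  have hinv : (S.F.v d * g)⁻¹ * S.F.p l * (S.F.v d * g) = S.F.v cy := by rw [← hbase]; group
  have hcs : sumz cy = true := S.v_mem_R_sum (hcy ▸ hy.2)
  by_cases hkl : k = l
  · subst hkl
    refine ⟨(S.F.v d * g)⁻¹ * S.F.v d', mul_mem (inv_mem (mul_mem (S.v_mem_C d) hg)) (S.v_mem_C d'), cy, hcs, ?_⟩
    rw [← hinv]
    conv_rhs => rw [← hd']
    group
  · have hkl' : S.F.p k = (S.F.p l)⁻¹ := by
      rw [S.F.p_inv]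
      congr 1
      rcases hk with rfl | rfl <;> rcases hl with rfl | rfl <;> first | exact absurd rfl hkl | decide
    refine ⟨(S.F.v d * g)⁻¹ * S.F.v d', mul_mem (inv_mem (mul_mem (S.v_mem_C d) hg)) (S.v_mem_C d'),
      vSmul 2 cy, ?_, ?_⟩
    · have key : ∀ c, sumz c = true → sumz (vSmul 2 c) = true := by decide +kernel
      exact key cy hcs
    · rw [← S.F.v_inv, ← hinv,
        show (S.F.v d * g)⁻¹ * S.F.v d' * (S.F.v c * S.F.p k) * ((S.F.v d * g)⁻¹ * S.F.v d')⁻¹ =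
          (S.F.v d * g)⁻¹ * (S.F.v d' * (S.F.v c * S.F.p k) * (S.F.v d')⁻¹) * (S.F.v d * g) by group, hd', hkl']
      group

end Setting

end Cfsg.Lib.PSpThree
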