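import Cfsg.Agent.Lib.PSpThree.FusionN
import Cfsg.Agent.Lib.SymNine.Quot

/-!
# Quotients of centralizers of subgroups of `J`
-/

set_option autoImplicit false
set_option maxHeartbeats 1600000
set_option maxRecDepth 100000
set_option synthInstance.maxSize 4000
set_option synthInstance.maxHeartbeats 400000
set_option linter.unusedSectionVars false
set_option linter.style.haveILetI false

namespace Cfsg.Lib.PSpThree

open Subgroup Cfsg.Lib.SymNine

universe u

namespace Frame

variable {G : Type*} [Group G] {F : Frame G}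

theorem J_le_centralizer {W : Subgroup G} (hWJ : W ≤ F.J) : F.J ≤ centralizer (W : Set G) := by
  intro y hy
  refine mem_centralizer_iff.2 fun z hz => ?_
  obtain ⟨i, rfl⟩ := hy
  obtain ⟨j, rfl⟩ := hWJ hz
  exact (F.v_comm j i).eq

/-- The quotient of the centralizer of a subgroup by that subgroup. -/
abbrev CQ (W : Subgroup G) : Type _ :=
  ↥(centralizer (W : Set G)) ⧸ W.subgroupOf (centralizer (W : Set G))

instance subgroupOf_centralizer_normal (W : Subgroup G) : (W.subgroupOf (centralizer (W : Set G))).Normal :=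
  ⟨fun w hw g => by
    rw [mem_subgroupOf] at hw ⊢
    rw [Subgroup.coe_mul, Subgroup.coe_mul, InvMemClass.coe_inv,
      ← mem_centralizer_iff.1 g.2 _ hw, mul_inv_cancel_right]
    exact hw⟩

/-- The image in the quotient of a code. -/
def img {W : Subgroup G} (hWJ : W ≤ F.J) (a : Fin 27) : CQ W :=
  QuotientGroup.mk' _ ⟨F.v a, J_le_centralizer hWJ (F.v_mem a)⟩

theorem img_add {W : Subgroup G} (hWJ : W ≤ F.J) (a b : Fin 27) :
    img hWJ (vAdd a b) = img hWJ a * img hWJ b := by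
  rw [img, img, img, ← map_mul]
  exact congrArg _ (Subtype.ext (F.vmul a b))

theorem img_neg {W : Subgroup G} (hWJ : W ≤ F.J) (a : Fin 27) : img hWJ (vSmul 2 a) = (img hWJ a)⁻¹ := by
  rw [img, img, ← map_inv]
  exact congrArg _ (Subtype.ext (F.v_inv a).symm)

theorem img_cube {W : Subgroup G} (hWJ : W ≤ F.J) (a : Fin 27) : img hWJ a ^ 3 = 1 := by
  rw [img, ← map_pow, show (⟨F.v a, J_le_centralizer hWJ (F.v_mem a)⟩ : centralizer (W : Set G)) ^ 3 = 1 from
    Subtype.ext (F.v_cube a), map_one]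

theorem img_eq_one {W : Subgroup G} (hWJ : W ≤ F.J) {a : Fin 27} : img hWJ a = 1 ↔ F.v a ∈ W :=
  (QuotientGroup.eq_one_iff _).trans mem_subgroupOf

theorem conj_img {W : Subgroup G} (hWJ : W ≤ F.J) {c : centralizer (W : Set G)} {s : Fin 8} {k : Fin 6}
    (h : F.ActsAs (c : G) s k) (a : Fin 27) :
    QuotientGroup.mk' _ c * img hWJ a * (QuotientGroup.mk' _ c)⁻¹ = img hWJ (act s k a) := by
  rw [img, img, ← map_inv, ← map_mul, ← map_mul]
  exact congrArg _ (Subtype.ext (h a))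

variable [Finite G] {m : Fin 4}

namespace IsCase

variable (h : F.IsCase m)
include h

theorem exists_quot {W : Subgroup G} (hWJ : W ≤ F.J) {i : Fin 27} (hi0 : i ≠ 0) (hi : xType m i = false)
    (hiW : F.v i ∈ W) :
    ∃ X : Sig (CQ W), (∀ q, q ∈ (X.S : Subgroup (CQ W)) ↔ ∃ a, q = img hWJ a) ∧
      (∀ c, QuotientGroup.mk' _ c ∈ normalizer ((X.S : Subgroup (CQ W)) : Set (CQ W)) ↔
        (c : G) ∈ normalizer (F.J : Set G)) ∧
      Nat.card (X.S : Subgroup (CQ W)) * Nat.card W = 27 := by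
  haveI : Fact (Nat.Prime 3) := ⟨Nat.prime_three⟩
  set C := centralizer (W : Set G) with hC
  have hJC : F.J ≤ C := J_le_centralizer hWJ
  have hp : IsPGroup 3 F.J := IsPGroup.of_card (n := 3) (by rw [F.card_J]; rfl)
  obtain ⟨R, hR⟩ := (hp.of_equiv (subgroupOfEquivOfLe hJC).symm).exists_le_sylow
  have hRJ : (R : Subgroup C).map C.subtype = F.J := h.eq_J_of_le_cent hi0 hi (R.isPGroup'.map C.subtype)
    (fun a ha => ⟨⟨a, hJC ha⟩, hR ha, rfl⟩) (by
      rintro _ ⟨r, -, rfl⟩; exact (mem_centralizer_iff.1 r.2 _ hiW).symm)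
  have hmem : ∀ c : C, c ∈ (R : Subgroup C) ↔ (c : G) ∈ F.J := fun c =>
    ⟨fun hc => hRJ ▸ ⟨c, hc, rfl⟩, fun hc => hR (mem_subgroupOf.2 hc)⟩
  have hW' : ∀ w ∈ W.subgroupOf C, ∀ y : C, y * w = w * y := fun w hw y =>
    Subtype.ext (mem_centralizer_iff.1 y.2 _ hw).symm
  obtain ⟨X, hX⟩ := exists_sig hW' R
    (fun a ha b hb => Subtype.ext (by
      obtain ⟨i, hi⟩ := (hmem a).1 ha
      obtain ⟨j, hj⟩ := (hmem b).1 hb
      rw [Subgroup.coe_mul, Subgroup.coe_mul, ← hi, ← hj, (F.v_comm i j).eq]))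
    (Or.inl ((hp.to_le hWJ).of_equiv (subgroupOfEquivOfLe (hWJ.trans hJC)).symm))
    (fun K hK hinv y hy => by
      have hb := F.sig (K.map C.subtype) (by rw [card_map_of_injective C.subtype_injective]; exact hK)
        fun a => by
          conv_rhs => rw [← hinv ⟨F.v a, hJC (F.v_mem a)⟩ ((hmem _).2 (F.v_mem a))]
          rw [map_map, map_map]
          rfl
      rw [map_eq_bot_iff_of_injective _ C.subtype_injective] at hb
      rw [hb, mem_bot] at hy
      rw [hy]
      exact one_mem _)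
  refine ⟨X, fun q => ?_, fun c => ?_, ?_⟩
  · rw [hX]
    constructor
    · rintro ⟨c, hc, rfl⟩
      obtain ⟨a, ha⟩ := (hmem c).1 hc
      exact ⟨a, congrArg _ (Subtype.ext ha.symm)⟩
    · rintro ⟨a, rfl⟩
      exact ⟨_, (hmem _).2 (F.v_mem a), rfl⟩
  · rw [hX, mk_mem_normalizer_iff hW' R]
    constructor
    · intro hc
      refine Fusion.le_normalizer_of_conj_mem fun a ha => ?_
      exact (hmem _).1 ((mem_normalizer_iff.1 hc ⟨a, hJC ha⟩).1 ((hmem _).2 ha))
    · intro hc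
      exact Fusion.le_normalizer_of_conj_mem fun a ha => (hmem _).2
        ((mem_normalizer_iff.1 hc _).1 ((hmem a).1 ha))
  · rw [hX]
    have hR' : (R : Subgroup C) = F.J.subgroupOf C := Subgroup.ext hmem
    have h1 : (W.subgroupOf C).relIndex (F.J.subgroupOf C) = Nat.card ((R : Subgroup C).map (QuotientGroup.mk' (W.subgroupOf C))) := by
      conv_lhs => rw [show W.subgroupOf C = (QuotientGroup.mk' (W.subgroupOf C)).ker from
        (QuotientGroup.ker_mk' _).symm]
      rw [Subgroup.relIndex_ker, hR']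
    rw [← h1, relIndex_subgroupOf hJC, mul_comm, ← relIndex_bot_left (H := W),
      relIndex_mul_relIndex _ _ _ bot_le hWJ, relIndex_bot_left, F.card_J]

theorem centralizer_quot {W : Subgroup G} (hWJ : W ≤ F.J) {i : Fin 27} (hi0 : i ≠ 0) (hi : xType m i = false)
    (hiW : F.v i ∈ W) {X : Sig (CQ W)} (hXS : ∀ q, q ∈ (X.S : Subgroup (CQ W)) ↔ ∃ a, q = img hWJ a)
    (hXN : ∀ c, QuotientGroup.mk' _ c ∈ normalizer ((X.S : Subgroup (CQ W)) : Set (CQ W)) ↔
        (c : G) ∈ normalizer (F.J : Set G)) :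
    centralizer ((X.S : Subgroup (CQ W)) : Set (CQ W)) = (X.S : Subgroup (CQ W)) := by
  refine le_antisymm (fun q hq => ?_) fun q hq => mem_centralizer_iff.2 fun z hz => X.comm z hz q hq
  obtain ⟨c, rfl⟩ := QuotientGroup.mk'_surjective _ q
  have hN : (c : G) ∈ normalizer (F.J : Set G) := (hXN c).1 (Subgroup.centralizer_le_normalizer (s := ((X.S : Subgroup (CQ W)) : Set (CQ W))) hq)
  have hJ : (c : G) ∈ F.J := by
    refine h.act_trivial hi0 hi hN (mem_centralizer_iff.1 c.2 _ hiW).symm fun a => ?_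
    have hc := mem_centralizer_iff.1 hq (img hWJ a) ((hXS _).2 ⟨a, rfl⟩)
    rw [img, ← map_mul, ← map_mul, QuotientGroup.mk'_apply, QuotientGroup.mk'_apply, QuotientGroup.eq,
      mem_subgroupOf] at hc
    simp only [Subgroup.coe_mul, InvMemClass.coe_inv] at hc
    generalize hw : (F.v a * (c : G))⁻¹ * ((c : G) * F.v a) = w at hc
    have h1 : (c : G) * F.v a * (c : G)⁻¹ = F.v a * ((c : G) * w * (c : G)⁻¹) := by rw [← hw]; group
    have h2 : (c : G) * w * (c : G)⁻¹ = w := by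
      rw [← mem_centralizer_iff.1 c.2 w hc, mul_inv_cancel_right]
    rw [h2] at h1
    have h3 : (c : G) ^ 3 * F.v a * ((c : G) ^ 3)⁻¹ = F.v a * (w * w * w) := by
      calc (c : G) ^ 3 * F.v a * ((c : G) ^ 3)⁻¹
          = (c : G) * ((c : G) * ((c : G) * F.v a * (c : G)⁻¹) * (c : G)⁻¹) * (c : G)⁻¹ := by
            rw [pow_succ, pow_two]; group
        _ = (c : G) * ((c : G) * (F.v a * w) * (c : G)⁻¹) * (c : G)⁻¹ := by rw [h1]
        _ = (c : G) * ((c : G) * F.v a * (c : G)⁻¹ * ((c : G) * w * (c : G)⁻¹)) * (c : G)⁻¹ := by group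
        _ = (c : G) * (F.v a * w * w) * (c : G)⁻¹ := by rw [h2, h1]
        _ = (c : G) * F.v a * (c : G)⁻¹ * ((c : G) * w * (c : G)⁻¹) * ((c : G) * w * (c : G)⁻¹) := by group
        _ = F.v a * (w * w * w) := by rw [h2, h1]; group
    rw [← pow_two, ← pow_succ, F.J_cube (hWJ hc), mul_one] at h3
    exact mul_inv_eq_iff_eq_mul.1 h3
  obtain ⟨a, ha⟩ := hJ
  exact (hXS _).2 ⟨a, congrArg _ (Subtype.ext ha.symm)⟩

end IsCase

end Frame

end Cfsg.Lib.PSpThree
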