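import Cfsg.Agent.Lib.Core.Cores
import Cfsg.Agent.Lib.UFourThreeLocal.Setup

/-!
# An element of order three with centralizer `3^(1+2) : SL(2,3)`

The central involution of the quotient inverts `R / Z`, and `J` is its own centralizer.
-/

set_option autoImplicit false
set_option linter.unusedSectionVars false
set_option linter.style.haveILetI false

namespace Cfsg.Lib.PSpThree

open Subgroup

/-- The special linear group of degree two over the field with three elements. -/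
abbrev SL23 : Type := Matrix.SpecialLinearGroup (Fin 2) (ZMod 3)

theorem sl_facts :
    (∃ t : SL23, t * t = -1) ∧ ((-1 : SL23) * -1 = 1) ∧ (-1 : SL23) ≠ 1 ∧
    (∀ g : SL23, g * g = 1 → g = 1 ∨ g = -1) ∧ (∀ g : SL23, g * -1 = -1 * g) ∧
    (∀ x g : SL23, x * x * x = 1 → x ≠ 1 → g * x = x * g →
      g = 1 ∨ g = x ∨ g = x * x ∨ g = -1 ∨ g = -x ∨ g = -(x * x)) ∧
    (∀ x g : SL23, x * x * x = 1 → x ≠ 1 → (g * x * g⁻¹ = x ∨ g * x * g⁻¹ = x * x) → g * x = x * g) ∧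
    Nat.card SL23 = 24 := by
  refine ⟨?_, ?_, ?_, ?_, ?_, ?_, ?_, ?_⟩
  iterate 7 decide +kernel
  rw [Nat.card_eq_fintype_card]
  decide +kernel

/-- The centralizer of the element and the quotient map. -/
structure Data (G : Type*) [Group G] where
  /-- The element. -/
  a : G
  ha : orderOf a = 3
  /-- The extraspecial subgroup. -/
  R : Subgroup G
  R_le : R ≤ centralizer ({a} : Set G)
  R_card : Nat.card R = 27
  R_exp : ∀ r ∈ R, r ^ 3 = 1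
  a_mem : a ∈ R
  R_center : ∀ x ∈ R, (∀ y ∈ R, x * y = y * x) → x ∈ zpowers a
  R_comm : ∀ x ∈ R, ∀ y ∈ R, x * y * x⁻¹ * y⁻¹ ∈ zpowers a
  R_nab : ∃ x ∈ R, ∃ y ∈ R, x * y ≠ y * x
  /-- The quotient map. -/
  π : centralizer ({a} : Set G) →* SL23
  surj : Function.Surjective π
  ker : ∀ c, π c = 1 ↔ (c : G) ∈ R
  /-- The elementary abelian subgroup. -/
  J : Subgroup G
  J_le : J ≤ centralizer ({a} : Set G)
  J_comm : ∀ x ∈ J, ∀ y ∈ J, x * y = y * x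
  J_exp : ∀ x ∈ J, x ^ 3 = 1
  J_card : Nat.card J = 27
  sig : ∀ K : Subgroup G, (Nat.card K).Coprime 3 →
    (∀ j ∈ J, K.map (MulAut.conj j).toMonoidHom = K) → K = ⊥

namespace Data

variable {G : Type*} [Group G] [Finite G] (D : Data G)

/-- The centralizer. -/
abbrev C : Subgroup G := centralizer ({D.a} : Set G)

theorem mem_C {g : G} : g ∈ D.C ↔ g * D.a = D.a * g := mem_centralizer_singleton_iff

theorem comm_a {g : G} (hg : g ∈ D.C) : g * D.a = D.a * g := D.mem_C.1 hg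

theorem a_ne : D.a ≠ 1 := fun h => by simpa [h] using D.ha

theorem a_cube : D.a ^ 3 = 1 := by rw [← D.ha]; exact pow_orderOf_eq_one _

theorem mem_zpowers_a {x : G} (hx : x ∈ zpowers D.a) : x = 1 ∨ x = D.a ∨ x = D.a * D.a := by
  obtain ⟨k, rfl⟩ := hx
  show D.a ^ k = 1 ∨ D.a ^ k = D.a ∨ D.a ^ k = D.a * D.a
  rw [← zpow_mod_orderOf, D.ha]
  rcases (by omega : k % ((3 : ℕ) : ℤ) = 0 ∨ k % ((3 : ℕ) : ℤ) = 1 ∨ k % ((3 : ℕ) : ℤ) = 2) with h | h | h <;>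
    rw [h] <;> simp [pow_two, zpow_ofNat]

theorem sq_eq_one_of_zpowers {x : G} (hx : x ∈ zpowers D.a) (h : x * x = 1) : x = 1 := by
  have h3 : x ^ 3 = 1 := D.R_exp x (zpowers_le.2 D.a_mem hx)
  rwa [pow_succ, pow_two, h, one_mul] at h3

theorem R_normal {g x : G} (hg : g ∈ D.C) (hx : x ∈ D.R) : g * x * g⁻¹ ∈ D.R := by
  have h1 : D.π (⟨g, hg⟩ * ⟨x, D.R_le hx⟩ * ⟨g, hg⟩⁻¹) = 1 := by
    rw [map_mul, map_mul, (D.ker ⟨x, D.R_le hx⟩).2 hx, mul_one, map_inv, mul_inv_cancel]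
  simpa using (D.ker _).1 h1

theorem card_C : Nat.card D.C = 648 := by
  have hk : Nat.card D.π.ker = 27 := by
    rw [← D.R_card]
    exact Nat.card_congr ⟨fun c => ⟨c.1.1, (D.ker _).1 c.2⟩, fun r => ⟨⟨r.1, D.R_le r.2⟩, (D.ker _).2 r.2⟩,
      fun _ => rfl, fun _ => rfl⟩
  have h := card_mul_index D.π.ker
  rw [index_ker, MonoidHom.range_eq_top.2 D.surj, Subgroup.card_top, sl_facts.2.2.2.2.2.2.2, hk] at h
  exact h.symm

/-- An involution over the central element. -/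
theorem exists_i : ∃ i : G, ∃ hi : i ∈ D.C, i * i = 1 ∧ D.π ⟨i, hi⟩ = -1 := by
  obtain ⟨g₀, hg₀⟩ := D.surj (-1)
  have hq : (g₀ : G) ^ 2 ∈ D.R := (D.ker (g₀ ^ 2)).1 (by rw [map_pow, hg₀, pow_two, sl_facts.2.1])
  have h3 := D.R_exp _ hq
  refine ⟨(g₀ : G) ^ 3, pow_mem g₀.2 3, ?_, ?_⟩
  · rw [← h3, ← pow_add, ← pow_mul]
  · rw [show (⟨(g₀ : G) ^ 3, pow_mem g₀.2 3⟩ : D.C) = g₀ ^ 3 from rfl, map_pow, hg₀, pow_succ, pow_two,
      sl_facts.2.1, one_mul]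

variable {i : G} (hi : i ∈ D.C) (hi2 : i * i = 1) (hin : D.π ⟨i, hi⟩ = -1)
include hi2 hin

theorem i_ne : i ≠ 1 := fun h => by
  have h1 : D.π ⟨i, hi⟩ = 1 := by rw [show (⟨i, hi⟩ : D.C) = 1 from Subtype.ext h, map_one]
  exact sl_facts.2.2.1 (hin.symm.trans h1)

theorem i_inv : i⁻¹ = i := inv_eq_of_mul_eq_one_left hi2

theorem conj_i_mem {g : G} (hg : g ∈ D.C) : g * i * g⁻¹ * i⁻¹ ∈ D.R := by
  have h1 : D.π (⟨g, hg⟩ * ⟨i, hi⟩ * ⟨g, hg⟩⁻¹ * ⟨i, hi⟩⁻¹) = 1 := by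
    rw [map_mul, map_mul, map_mul, map_inv, map_inv, hin, sl_facts.2.2.2.2.1 (D.π ⟨g, hg⟩)]
    group
  simpa using (D.ker _).1 h1

/-- Elements of `R` moved by the involution only inside the centre are fixed. -/
theorem fixed_of_mod {x : G} (_hx : x ∈ D.R) (h : i * x * i⁻¹ * x⁻¹ ∈ zpowers D.a) : i * x * i⁻¹ = x := by
  set z := i * x * i⁻¹ * x⁻¹ with hz
  have hzi : i * z = z * i := by
    obtain ⟨k, hk⟩ := h
    rw [← hk]
    exact ((show Commute i D.a from D.comm_a hi).zpow_right k).eq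
  have e : i * x * i⁻¹ = z * x := by rw [hz]; group
  have e2 : z * z = 1 := by
    have h2 : i * (i * x * i⁻¹) * i⁻¹ = x := by
      rw [show i * (i * x * i⁻¹) * i⁻¹ = (i * i) * x * (i * i)⁻¹ by group, hi2, inv_one, one_mul, mul_one]
    rw [e, show i * (z * x) * i⁻¹ = (i * z * i⁻¹) * (i * x * i⁻¹) by group, hzi, mul_inv_cancel_right, e,
      ← mul_assoc] at h2
    exact mul_eq_right.1 h2
  rw [e, D.sq_eq_one_of_zpowers h e2, one_mul]

theorem not_central : ∃ x ∈ D.R, i * x * i⁻¹ * x⁻¹ ∉ zpowers D.a := by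
  by_contra hne
  push Not at hne
  have hc : ∀ x ∈ D.R, i * x = x * i := fun x hx =>
    mul_inv_eq_iff_eq_mul.1 (D.fixed_of_mod hi hi2 hin hx (hne x hx))
  have hnorm : ∀ g ∈ D.C, g * i * g⁻¹ = i := by
    intro g hg
    set r := g * i * g⁻¹ * i⁻¹ with hr
    have hrR := D.conj_i_mem hi hi2 hin hg
    have e : g * i * g⁻¹ = r * i := by rw [hr]; group
    have e2 : (r * i) * (r * i) = 1 := by
      rw [← e, show g * i * g⁻¹ * (g * i * g⁻¹) = g * (i * i) * g⁻¹ by group, hi2, mul_one, mul_inv_cancel]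
    rw [show (r * i) * (r * i) = r * (i * r) * i by group, hc r hrR,
      show r * (r * i) * i = r * r * (i * i) by group, hi2, mul_one] at e2
    have h3 := D.R_exp r hrR
    rw [pow_succ, pow_two, e2, one_mul] at h3
    rw [e, h3, one_mul]
  have hbot : zpowers i = ⊥ := by
    refine D.sig _ ?_ fun j hj => ?_
    · rw [Nat.card_zpowers, orderOf_eq_prime (by rw [pow_two, hi2]) (D.i_ne hi hi2 hin)]
      norm_num
    · rw [MonoidHom.map_zpowers]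
      show zpowers (j * i * j⁻¹) = zpowers i
      rw [hnorm j (D.J_le hj)]
  exact D.i_ne hi hi2 hin (zpowers_eq_bot.1 hbot)

/-- The fixed subgroup modulo the centre. -/
def fixMod : Subgroup G where
  carrier := {x | x ∈ D.R ∧ i * x * i⁻¹ * x⁻¹ ∈ zpowers D.a}
  one_mem' := ⟨one_mem _, by rw [mul_one, mul_inv_cancel, inv_one, mul_one]; exact one_mem _⟩
  mul_mem' := fun {x y} hx hy => by
    refine ⟨mul_mem hx.1 hy.1, ?_⟩
    rw [show i * (x * y) * i⁻¹ * (x * y)⁻¹ = (i * x * i⁻¹) * (i * y * i⁻¹) * (x * y)⁻¹ by group,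
      D.fixed_of_mod hi hi2 hin hx.1 hx.2, D.fixed_of_mod hi hi2 hin hy.1 hy.2, mul_inv_cancel]
    exact one_mem _
  inv_mem' := fun {x} hx => by
    refine ⟨inv_mem hx.1, ?_⟩
    rw [show i * x⁻¹ * i⁻¹ * x⁻¹⁻¹ = (i * x * i⁻¹)⁻¹ * x by group,
      D.fixed_of_mod hi hi2 hin hx.1 hx.2, inv_mul_cancel]
    exact one_mem _

theorem fixMod_le : D.fixMod hi hi2 hin ≤ D.R := fun _ h => h.1

theorem za_le_fixMod : zpowers D.a ≤ D.fixMod hi hi2 hin := by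
  rintro x hx
  refine ⟨zpowers_le.2 D.a_mem hx, ?_⟩
  obtain ⟨k, rfl⟩ := hx
  show i * D.a ^ k * i⁻¹ * (D.a ^ k)⁻¹ ∈ zpowers D.a
  rw [((show Commute i D.a from D.comm_a hi).zpow_right k).eq, mul_inv_cancel_right, mul_inv_cancel]
  exact one_mem _

/-- Conjugation by an element of the centralizer preserves the fixed subgroup. -/
theorem conj_fixMod {g x : G} (hg : g ∈ D.C) (hx : x ∈ D.fixMod hi hi2 hin) :
    g * x * g⁻¹ ∈ D.fixMod hi hi2 hin := by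
  refine ⟨D.R_normal hg hx.1, ?_⟩
  set w := g⁻¹ * i * g * i⁻¹ with hw
  have hwR : w ∈ D.R := by
    simpa using D.conj_i_mem hi hi2 hin (inv_mem hg)
  have e : i * (g * x * g⁻¹) * i⁻¹ * (g * x * g⁻¹)⁻¹ =
      g * (w * (i * x * i⁻¹) * w⁻¹ * x⁻¹) * g⁻¹ := by rw [hw]; group
  rw [e, D.fixed_of_mod hi hi2 hin hx.1 hx.2]
  obtain ⟨k, hk⟩ := D.R_comm w hwR x hx.1
  refine ⟨k, ?_⟩
  show D.a ^ k = _
  rw [← hk, ((show Commute g D.a from D.comm_a hg).zpow_right k).eq, mul_inv_cancel_right]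

/-- The involution inverts `R` modulo the centre. -/
theorem inverts {x : G} (hx : x ∈ D.R) : i * x * i⁻¹ * x ∈ zpowers D.a := by
  haveI : Fact (Nat.Prime 3) := ⟨Nat.prime_three⟩
  set F := D.fixMod hi hi2 hin with hF
  have hix := D.R_normal hi hx
  have hcomm : ∀ p ∈ D.R, ∀ q ∈ D.R, p * q * p⁻¹ * q⁻¹ ∈ zpowers D.a := D.R_comm
  have hyF : i * x * i⁻¹ * x ∈ F := by
    refine ⟨mul_mem hix hx, ?_⟩
    rw [show i * (i * x * i⁻¹ * x) * i⁻¹ * (i * x * i⁻¹ * x)⁻¹ =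
      (i * i) * x * (i * i)⁻¹ * (i * x * i⁻¹) * (x⁻¹ * (i * x * i⁻¹)⁻¹) by group, hi2, inv_one, one_mul, mul_one]
    simpa [mul_assoc] using hcomm x hx _ hix
  obtain ⟨n, hn, hnd⟩ : ∃ n, Nat.card F = n ∧ (n = 3 ∨ n = 9 ∨ n = 27) := by
    refine ⟨_, rfl, ?_⟩
    have h1 : Nat.card F ∣ 27 := D.R_card ▸ card_dvd_of_le (D.fixMod_le hi hi2 hin)
    have h2 : 3 ∣ Nat.card F := by
      rw [← D.ha, ← Nat.card_zpowers]; exact card_dvd_of_le (D.za_le_fixMod hi hi2 hin)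
    obtain ⟨e, he, h⟩ := (Nat.dvd_prime_pow Nat.prime_three).1 (show Nat.card F ∣ 3 ^ 3 by simpa using h1)
    rw [h] at h2 ⊢
    interval_cases e <;> omega
  rcases hnd with h | h | h
  · have : F = zpowers D.a :=
      (eq_of_le_of_card_ge (D.za_le_fixMod hi hi2 hin) (by rw [Nat.card_zpowers, D.ha, hn, h])).symm
    exact this ▸ hyF
  · exfalso
    obtain ⟨t, ht⟩ := sl_facts.1
    obtain ⟨g, hg⟩ := D.surj t
    have hFR : ∀ c ∈ D.C, ∀ y ∈ F, c * y * c⁻¹ ∈ F := fun c hc y hy => D.conj_fixMod hi hi2 hin hc hy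
    obtain ⟨x₁, hx₁, hx₁n⟩ := D.not_central hi hi2 hin
    have hx₁F : x₁ ∉ F := fun h' => hx₁n h'.2
    have hsup : ∀ y ∈ D.R, y ∈ F ∨ y * x₁⁻¹ ∈ F ∨ y * x₁ ∈ F := by
      have hidx : (F.subgroupOf D.R).index = 3 := by
        have h' := card_mul_index (F.subgroupOf D.R)
        rw [Nat.card_congr (subgroupOfEquivOfLe (D.fixMod_le hi hi2 hin)).toEquiv, D.R_card, hn, h] at h'
        omega
      have hN : (F.subgroupOf D.R).Normal :=
        ⟨fun y hy c => mem_subgroupOf.2 (hFR _ (D.R_le c.2) _ (mem_subgroupOf.1 hy))⟩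
      intro y hy
      let q : D.R →* D.R ⧸ F.subgroupOf D.R := QuotientGroup.mk' _
      have hq : ∀ z : D.R, q z = 1 ↔ (z : G) ∈ F := fun z =>
        (QuotientGroup.eq_one_iff z).trans mem_subgroupOf
      have ho : orderOf (q ⟨x₁, hx₁⟩) = 3 := by
        refine orderOf_eq_prime ?_ fun e => hx₁F ((hq _).1 e)
        rw [← map_pow, show (⟨x₁, hx₁⟩ : D.R) ^ 3 = 1 from Subtype.ext (D.R_exp x₁ hx₁), map_one]
      have htop : zpowers (q ⟨x₁, hx₁⟩) = ⊤ := eq_top_of_card_eq _ (by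
        rw [Nat.card_zpowers, ho]; exact hidx.symm)
      obtain ⟨k, hk⟩ := mem_zpowers_iff.1 (show q ⟨y, hy⟩ ∈ zpowers (q ⟨x₁, hx₁⟩) from htop ▸ mem_top _)
      rw [← zpow_mod_orderOf, ho] at hk
      rcases (by omega : k % ((3 : ℕ) : ℤ) = 0 ∨ k % ((3 : ℕ) : ℤ) = 1 ∨ k % ((3 : ℕ) : ℤ) = 2) with h | h | h <;>
        rw [h] at hk
      · exact Or.inl ((hq _).1 (hk.symm.trans (zpow_zero _)))
      · refine Or.inr (Or.inl ((hq ⟨y * x₁⁻¹, mul_mem hy (inv_mem hx₁)⟩).1 ?_))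
        rw [show (⟨y * x₁⁻¹, mul_mem hy (inv_mem hx₁)⟩ : D.R) = ⟨y, hy⟩ * ⟨x₁, hx₁⟩⁻¹ from rfl, map_mul, map_inv,
          ← hk, zpow_one, mul_inv_cancel]
      · refine Or.inr (Or.inr ((hq ⟨y * x₁, mul_mem hy hx₁⟩).1 ?_))
        rw [show (⟨y * x₁, mul_mem hy hx₁⟩ : D.R) = ⟨y, hy⟩ * ⟨x₁, hx₁⟩ from rfl, map_mul, ← hk,
          show ((2 : ℤ)) = ((2 : ℕ) : ℤ) from rfl, zpow_natCast, ← pow_succ]
        rw [show (2 : ℕ) + 1 = orderOf (q ⟨x₁, hx₁⟩) by rw [ho]]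
        exact pow_orderOf_eq_one _
    have hZF : ∀ p ∈ D.R, ∀ q ∈ D.R, p * q * p⁻¹ * q⁻¹ ∈ F := fun p hp q hq =>
      D.za_le_fixMod hi hi2 hin (hcomm p hp q hq)
    have hgR : ((g : G) * g)⁻¹ * i ∈ D.R := by
      have h1 : D.π ((g * g)⁻¹ * ⟨i, hi⟩) = 1 := by rw [map_mul, map_inv, map_mul, hg, ht, hin, inv_mul_cancel]
      simpa using (D.ker _).1 h1
    have hgg : (g : G) * g * x₁ * ((g : G) * g)⁻¹ * x₁⁻¹ ∈ F := by
      rcases hsup _ (D.R_normal g.2 hx₁) with h | h | h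
      · exact absurd (by simpa [mul_assoc] using hFR _ (inv_mem g.2) _ h) hx₁F
      · rw [show (g : G) * g * x₁ * ((g : G) * g)⁻¹ * x₁⁻¹ = (g : G) * ((g : G) * x₁ * (g : G)⁻¹ * x₁⁻¹) *
          (g : G)⁻¹ * ((g : G) * x₁ * (g : G)⁻¹ * x₁⁻¹) by group]
        exact mul_mem (hFR _ g.2 _ h) h
      · set f := (g : G) * x₁ * (g : G)⁻¹ * x₁ with hf
        rw [show (g : G) * g * x₁ * ((g : G) * g)⁻¹ * x₁⁻¹ = ((g : G) * f * (g : G)⁻¹) * (x₁ * f⁻¹ * x₁⁻¹) by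
          rw [hf]; group]
        exact mul_mem (hFR _ g.2 _ h) (hFR _ (D.R_le hx₁) _ (inv_mem h))
    set r := ((g : G) * g)⁻¹ * i with hr
    have hix₁ : i * x₁ * i⁻¹ * x₁⁻¹ ∈ F := by
      rw [show i * x₁ * i⁻¹ * x₁⁻¹ = ((g : G) * g * (r * x₁ * r⁻¹ * x₁⁻¹) * ((g : G) * g)⁻¹) *
        ((g : G) * g * x₁ * ((g : G) * g)⁻¹ * x₁⁻¹) by rw [hr]; group]
      exact mul_mem (hFR _ (mul_mem g.2 g.2) _ (hZF r hgR x₁ hx₁)) hgg
    set y := i * x₁ * i⁻¹ * x₁⁻¹ with hy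
    have hiy : i * y * i⁻¹ = y := D.fixed_of_mod hi hi2 hin hix₁.1 hix₁.2
    have hy2 : y * y = 1 := by
      have h2 : y * y * x₁ = (i * i) * x₁ * (i * i)⁻¹ := by
        calc y * y * x₁ = i * y * i⁻¹ * (y * x₁) := by rw [hiy, mul_assoc]
          _ = _ := by rw [hy]; group
      rw [hi2, inv_one, one_mul, mul_one] at h2
      exact mul_eq_right.1 h2
    have hy3 := D.R_exp y hix₁.1
    rw [pow_succ, pow_two, hy2, one_mul] at hy3
    exact hx₁n (by rw [hy3]; exact one_mem _)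
  · exfalso
    obtain ⟨x₁, hx₁, hx₁n⟩ := D.not_central hi hi2 hin
    exact hx₁n (((eq_of_le_of_card_ge (D.fixMod_le hi hi2 hin) (by rw [D.R_card, hn, h])).ge hx₁)).2

end Data

end Cfsg.Lib.PSpThree
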