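import Cfsg.Agent.Lib.PSpThree.SixQE

/-!
# A split axis centralizer: the conjugate quaternion group does not centralise the quaternion group
-/

set_option autoImplicit false
set_option maxHeartbeats 1600000
set_option maxRecDepth 100000
set_option linter.unusedSectionVars false
set_option linter.style.haveILetI false
set_option synthInstance.maxSize 5000

namespace Cfsg.Lib.PSpThree

open Subgroup Cfsg.Lib.SymNine Equiv

namespace SData

variable {G : Type*} [Group G] [Finite G] (T : SData G)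

theorem v14_eq : T.v 14 = T.v 13 * T.v 1 := by
  obtain ⟨-, -, -, -, -, -, -, -, -, -, -, h⟩ := order_facts
  rw [← h]; exact T.S.F.vmul 13 1

theorem exists_four : ∃ q ∈ T.Q, q ≠ 1 ∧ q ≠ T.i := by
  classical
  by_contra hcon
  push Not at hcon
  have hle : T.Q ≤ zpowers T.i := fun q hq => by
    by_cases h : q = 1
    · rw [h]; exact one_mem _
    · rw [hcon q hq h]; exact mem_zpowers _
  have := card_le_of_le hle
  rw [T.Q_card, Nat.card_zpowers, orderOf_eq_prime (by rw [pow_two, T.i_sq]) T.i_ne] at this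
  omega

theorem Q_modC : T.Q ≤ T.modC T.Q := fun q hq => by
  refine ⟨T.Q_comm_i hq, fun r hr => ?_⟩
  have hm : q * r * q⁻¹ * r⁻¹ ∈ T.Q := mul_mem (mul_mem (mul_mem hq hr) (inv_mem hq)) (inv_mem hr)
  have hπ : T.S.D.π ⟨q * r * q⁻¹ * r⁻¹, T.Q_C hm⟩ = T.S.D.π ⟨q, T.Q_C hq⟩ * T.S.D.π ⟨r, T.Q_C hr⟩ *
      (T.S.D.π ⟨q, T.Q_C hq⟩)⁻¹ * (T.S.D.π ⟨r, T.Q_C hr⟩)⁻¹ := by
    rw [← map_inv, ← map_inv, ← map_mul, ← map_mul, ← map_mul]; rfl
  rcases sl_quat.1 _ _ (T.π_four hq) (T.π_four hr) with e | e <;> rw [e] at hπ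
  · exact Or.inl (T.π_Q_inj hm (one_mem _) (hπ.trans (map_one T.S.D.π).symm))
  · exact Or.inr (T.π_Q_inj hm T.i_mem_Q (hπ.trans T.π_i_Q.symm))

/-- The four group of the swap and the sign change in their centralizer. -/
noncomputable def tiN : Subgroup (centralizer ({T.t} : Set G) ⊓ centralizer {T.i} : Subgroup G) where
  carrier := {x | (x : G) = 1 ∨ (x : G) = T.t ∨ (x : G) = T.i ∨ (x : G) = T.i * T.t}
  one_mem' := Or.inl rfl
  mul_mem' := by
    rintro ⟨x, _⟩ ⟨y, _⟩ hx hy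
    simp only [Set.mem_ofPred_eq, Subgroup.coe_mul] at hx hy ⊢
    have h1 := T.t_comm_i
    have h2 : T.t * (T.i * T.t) = T.i := by rw [← h1, ← mul_assoc, T.t_sq, one_mul]
    have h3 : T.i * (T.i * T.t) = T.t := by rw [← mul_assoc, T.i_sq, one_mul]
    have h4 : T.i * T.t * T.t = T.i := by rw [mul_assoc, T.t_sq, mul_one]
    have h5 : T.i * T.t * T.i = T.t := by rw [mul_assoc, h1, ← mul_assoc, T.i_sq, one_mul]
    have h6 : T.i * T.t * (T.i * T.t) = 1 := by rw [← mul_assoc, h5, T.t_sq]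
    rcases hx with rfl | rfl | rfl | rfl <;> rcases hy with rfl | rfl | rfl | rfl <;>
      simp [h1, h2, h3, h4, h5, h6, T.t_sq, T.i_sq]
  inv_mem' := by
    rintro ⟨x, _⟩ hx
    simp only [Set.mem_ofPred_eq, InvMemClass.coe_inv] at hx ⊢
    rcases hx with rfl | rfl | rfl | rfl
    · simp
    · simp [T.t_inv]
    · simp [T.i_inv]
    · right; right; right
      rw [mul_inv_rev, T.t_inv, T.i_inv, T.t_comm_i]

section

variable (hbad : ¬ ∀ q ∈ T.Q, ∀ e ∈ T.E, q * e = e * q)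
include hbad

theorem Q'_not_le : ¬ T.Q' ≤ T.modC T.Q := by
  classical
  intro hQ'
  have hinvt : ∀ x : G, (T.t * x * T.t)⁻¹ = T.t * x⁻¹ * T.t := fun x => by
    rw [mul_inv_rev, mul_inv_rev, T.t_inv, mul_assoc]
  -- the two quaternion groups commute
  have hcomm : ∀ r ∈ T.Q, ∀ w ∈ T.Q', w * r = r * w := by
    intro r hr
    set W : Subgroup G := (centralizer ({r} : Set G) ⊓ T.Q').comap (MulAut.conj T.t).toMonoidHom with hW
    have hmemW : ∀ {x : G}, x ∈ W ↔ T.t * x * T.t * r = r * (T.t * x * T.t) ∧ T.t * x * T.t ∈ T.Q' := fun {x} => by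
      rw [hW, mem_comap, MulEquiv.coe_toMonoidHom, MulAut.conj_apply, T.t_inv, mem_inf,
        mem_centralizer_singleton_iff]
    have hiW : T.i ∈ W := hmemW.2 (by
      rw [T.t_i_t]
      exact ⟨(T.Q_comm_i hr).symm, T.mem_Q'.2 (by rw [T.t_i_t]; exact T.i_mem_Q)⟩)
    have hWe : ∀ x ∈ W, T.v 1 * x * (T.v 1)⁻¹ ∈ W := fun x hx => by
      obtain ⟨hx1, hx2⟩ := hmemW.1 hx
      have hxQ : x ∈ T.Q := by
        have := T.mem_Q'.1 hx2
        rwa [T.t_t] at this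
      have hinv : T.t * (T.v 1)⁻¹ * T.t = T.v 1 := by
        rw [← T.t_e3, T.t_t]
      have e : T.t * (T.v 1 * x * (T.v 1)⁻¹) * T.t = T.v 13 * (T.t * x * T.t) * (T.v 13)⁻¹ := by
        have h14 : T.t * x * T.t * T.v 14 = T.v 14 * (T.t * x * T.t) := by
          rw [← T.t_a, T.t_conj_mul, T.t_conj_mul, T.Q_comm_a hxQ]
        have hc : T.v 13 = T.v 14 * (T.v 1)⁻¹ := by rw [T.v14_eq, mul_inv_cancel_right]
        have hc' : Commute (T.v 1)⁻¹ (T.v 14) := (show Commute (T.v 1) (T.v 14) from T.v_comm 1 14).inv_left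
        calc T.t * (T.v 1 * x * (T.v 1)⁻¹) * T.t
            = T.t * T.v 1 * T.t * (T.t * x * T.t) * (T.t * (T.v 1)⁻¹ * T.t) := by
              rw [T.t_conj_mul, T.t_conj_mul]
          _ = (T.v 1)⁻¹ * (T.v 14 * (T.t * x * T.t) * (T.v 14)⁻¹) * T.v 1 := by
              rw [T.t_e3, hinv, ← h14, mul_inv_cancel_right]
          _ = ((T.v 1)⁻¹ * T.v 14) * (T.t * x * T.t) * ((T.v 1)⁻¹ * T.v 14)⁻¹ := by group
          _ = _ := by rw [hc'.eq, ← hc]
      refine hmemW.2 ⟨?_, T.mem_Q'.2 (by rw [T.t_t]; exact T.e3_Q hxQ)⟩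
      rw [e]
      have ha : Commute (T.v 13) r := (T.Q_comm_a hr).symm
      exact ((ha.mul_left (show Commute (T.t * x * T.t) r from hx1)).mul_left ha.inv_left).eq
    obtain ⟨q, hq, hq1, hqi⟩ := T.exists_four
    have he := T.e3_Q hq
    have hq' : T.t * q * T.t ∈ T.Q' := T.mem_Q'.2 (by rw [T.t_t]; exact hq)
    have he' : T.t * (T.v 1 * q * (T.v 1)⁻¹) * T.t ∈ T.Q' := T.mem_Q'.2 (by rw [T.t_t]; exact he)
    set w := T.t * q * T.t with hwdef
    have hew : T.t * (T.v 1 * q * (T.v 1)⁻¹) * T.t = T.v 13 * w * (T.v 13)⁻¹ := by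
      have h14 : w * T.v 14 = T.v 14 * w := by
        rw [hwdef, ← T.t_a, T.t_conj_mul, T.t_conj_mul, T.Q_comm_a hq]
      have hinv : T.t * (T.v 1)⁻¹ * T.t = T.v 1 := by rw [← T.t_e3, T.t_t]
      have hc : T.v 13 = T.v 14 * (T.v 1)⁻¹ := by rw [T.v14_eq, mul_inv_cancel_right]
      have hc' : Commute (T.v 1)⁻¹ (T.v 14) := (show Commute (T.v 1) (T.v 14) from T.v_comm 1 14).inv_left
      calc T.t * (T.v 1 * q * (T.v 1)⁻¹) * T.t
          = T.t * T.v 1 * T.t * w * (T.t * (T.v 1)⁻¹ * T.t) := by rw [hwdef, T.t_conj_mul, T.t_conj_mul]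
        _ = (T.v 1)⁻¹ * (T.v 14 * w * (T.v 14)⁻¹) * T.v 1 := by rw [T.t_e3, hinv, ← h14, mul_inv_cancel_right]
        _ = ((T.v 1)⁻¹ * T.v 14) * w * ((T.v 1)⁻¹ * T.v 14)⁻¹ := by group
        _ = _ := by rw [hc'.eq, ← hc]
    have hc1 : Commute (w * r * w⁻¹ * r⁻¹) (T.v 13) := by
      rcases (hQ' hq').2 r hr with e | e <;> rw [e]
      exacts [Commute.one_left _, T.a_comm_i.symm]
    have hWd : (T.v 1 * q * (T.v 1)⁻¹)⁻¹ * q ∈ W := by
      refine hmemW.2 ?_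
      have e : T.t * ((T.v 1 * q * (T.v 1)⁻¹)⁻¹ * q) * T.t = (T.v 13 * w * (T.v 13)⁻¹)⁻¹ * w := by
        rw [← hew, hwdef, hinvt, T.t_conj_mul]
      refine ⟨?_, e ▸ mul_mem (inv_mem (hew ▸ he')) hq'⟩
      rw [e]
      have ha : Commute (T.v 13) r := (T.Q_comm_a hr).symm
      have hsame : T.v 13 * w * (T.v 13)⁻¹ * r * (T.v 13 * w * (T.v 13)⁻¹)⁻¹ = w * r * w⁻¹ := by
        calc T.v 13 * w * (T.v 13)⁻¹ * r * (T.v 13 * w * (T.v 13)⁻¹)⁻¹
            = T.v 13 * w * ((T.v 13)⁻¹ * r * T.v 13) * w⁻¹ * (T.v 13)⁻¹ := by group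
          _ = T.v 13 * (w * r * w⁻¹ * r⁻¹) * r * (T.v 13)⁻¹ := by rw [ha.inv_left.eq, inv_mul_cancel_right]; group
          _ = w * r * w⁻¹ * r⁻¹ * (T.v 13 * r * (T.v 13)⁻¹) := by rw [← hc1.eq]; group
          _ = w * r * w⁻¹ := by rw [ha.eq, mul_inv_cancel_right]; group
      calc (T.v 13 * w * (T.v 13)⁻¹)⁻¹ * w * r
          = (T.v 13 * w * (T.v 13)⁻¹)⁻¹ * (w * r * w⁻¹) * w := by group
        _ = r * ((T.v 13 * w * (T.v 13)⁻¹)⁻¹ * w) := by rw [← hsame]; group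
    have hne : (T.v 1 * q * (T.v 1)⁻¹)⁻¹ * q ≠ 1 ∧ (T.v 1 * q * (T.v 1)⁻¹)⁻¹ * q ≠ T.i := by
      obtain ⟨m1, m2⟩ := T.e3_moves hq hq1 hqi
      refine ⟨fun e => m1 (inv_mul_eq_one.1 e), fun e => m2 ?_⟩
      have e' : q = T.v 1 * q * (T.v 1)⁻¹ * T.i := inv_mul_eq_iff_eq_mul.1 e
      conv_rhs => rw [e', mul_assoc, T.i_sq, mul_one]
    intro x hx
    have hx' := T.mem_Q'.1 hx
    have := (hmemW.1 (T.Q_le_of_inv hiW hWe (mul_mem (inv_mem he) hq) hWd hne.1 hne.2 hx')).1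
    rwa [T.t_t] at this
  -- the involutions centralised by the sign change
  set X : Subgroup G := centralizer ({T.t} : Set G) ⊓ centralizer {T.i} with hX
  have hmemX : ∀ {x : G}, x ∈ X ↔ x * T.t = T.t * x ∧ x * T.i = T.i * x := fun {x} => by
    rw [hX, mem_inf, mem_centralizer_singleton_iff, mem_centralizer_singleton_iff]
  have hNn : ∀ x ∈ X, ∀ n : G, (n = 1 ∨ n = T.t ∨ n = T.i ∨ n = T.i * T.t) → x * n = n * x := fun x hx n hn => by
    obtain ⟨h1, h2⟩ := hmemX.1 hx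
    rcases hn with rfl | rfl | rfl | rfl
    exacts [by group, h1, h2, ((show Commute x T.i from h2).mul_right (show Commute x T.t from h1)).eq]
  haveI : T.tiN.Normal := ⟨fun n hn x => by
    have : x * n = n * x := Subtype.ext (hNn x x.2 n hn)
    rwa [this, mul_inv_cancel_right]⟩
  set mk := QuotientGroup.mk' T.tiN with hmk
  have hmk1 : ∀ x : X, mk x = 1 ↔ ((x : G) = 1 ∨ (x : G) = T.t ∨ (x : G) = T.i ∨ (x : G) = T.i * T.t) :=
    fun x => QuotientGroup.eq_one_iff x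
  have hQ't : ∀ q ∈ T.Q, T.t * q * T.t ∈ T.Q' := fun q hq => T.mem_Q'.2 (by rw [T.t_t]; exact hq)
  have hti : T.t ≠ T.i := fun e => T.D.w_ne_one (s := 1) (k := 2) (by decide)
    (by rw [← T.ti_eq, e, T.i_sq])
  have hxmem : ∀ q ∈ T.Q, q * T.t * q⁻¹ * T.t ∈ X := fun q hq => by
    refine hmemX.2 ⟨?_, ?_⟩
    · have h2 : Commute (T.t * q⁻¹ * T.t) q := hcomm q hq _ (hQ't _ (inv_mem hq))
      calc q * T.t * q⁻¹ * T.t * T.t = q * T.t * q⁻¹ * (T.t * T.t) := by group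
        _ = T.t * (T.t * q * T.t * q⁻¹) := by
            rw [T.t_sq, mul_one, show T.t * (T.t * q * T.t * q⁻¹) = T.t * T.t * q * T.t * q⁻¹ by group, T.t_sq, one_mul]
        _ = T.t * (q⁻¹ * (T.t * q * T.t)) := by rw [hcomm q⁻¹ (inv_mem hq) _ (hQ't q hq)]
        _ = T.t * (T.t * q⁻¹ * T.t * q)⁻¹ := by rw [mul_inv_rev, mul_inv_rev, mul_inv_rev, T.t_inv, inv_inv]; group
        _ = T.t * (q * (T.t * q⁻¹ * T.t))⁻¹ := by rw [h2.eq]
        _ = _ := by
          have hsq : (q * (T.t * q⁻¹ * T.t)) * (q * (T.t * q⁻¹ * T.t)) = 1 := by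
            have hq4 := T.Q_four hq
            have h22 : q * q = (q * q)⁻¹ := by
              refine (inv_eq_of_mul_eq_one_right ?_).symm
              rw [← pow_two, ← pow_two, ← pow_mul]; exact hq4
            calc q * (T.t * q⁻¹ * T.t) * (q * (T.t * q⁻¹ * T.t))
                = q * q * ((T.t * q⁻¹ * T.t) * (T.t * q⁻¹ * T.t)) := by rw [← mul_assoc, mul_assoc q _ q, h2.eq]; group
              _ = q * q * (T.t * (q * q)⁻¹ * T.t) := by rw [T.t_conj_mul, mul_inv_rev]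
              _ = q * q * (T.t * (q * q) * T.t) := by rw [← h22]
              _ = 1 := by
                by_cases h1 : q = 1 ∨ q = T.i
                · have : q * q = 1 := by rcases h1 with rfl | rfl; exacts [one_mul 1, T.i_sq]
                  rw [this, one_mul, mul_one, T.t_sq]
                · push Not at h1
                  rw [T.Q_sq hq h1.1 h1.2, T.t_i_t, T.i_sq]
          rw [inv_eq_of_mul_eq_one_right hsq]; group
    · have hq : Commute q T.i := T.Q_comm_i hq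
      exact ((((hq.mul_left (show Commute T.t T.i from T.t_comm_i)).mul_left hq.inv_left)).mul_left
        (show Commute T.t T.i from T.t_comm_i)).eq
  let f : T.Q →* X ⧸ T.tiN := MonoidHom.mk' (fun q => mk ⟨_, hxmem q q.2⟩) fun q r => by
    rw [← map_mul, eq_comm, hmk, QuotientGroup.mk'_apply, QuotientGroup.mk'_apply, QuotientGroup.eq]
    show ((_ : X) : G) = 1 ∨ _
    simp only [Subgroup.coe_mul, InvMemClass.coe_inv]
    have hr' := hQ't _ (inv_mem r.2)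
    have hq' := hQ't _ (inv_mem q.2)
    have e1 : (r : G) * (T.t * (q : G)⁻¹ * T.t) = T.t * (q : G)⁻¹ * T.t * r := (hcomm r r.2 _ hq').symm
    have e2 : (q : G) * T.t * (q : G)⁻¹ * T.t * ((r : G) * T.t * (r : G)⁻¹ * T.t) =
        (q : G) * r * (T.t * ((q : G)⁻¹ * (r : G)⁻¹) * T.t) := by
      rw [← T.t_conj_mul]
      calc (q : G) * T.t * (q : G)⁻¹ * T.t * ((r : G) * T.t * (r : G)⁻¹ * T.t)
          = (q : G) * ((T.t * (q : G)⁻¹ * T.t) * r) * (T.t * (r : G)⁻¹ * T.t) := by group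
        _ = _ := by rw [← e1]; group
    have e3 : (q : G) * r * T.t * ((q : G) * r)⁻¹ * T.t = (q : G) * r * (T.t * ((r : G)⁻¹ * (q : G)⁻¹) * T.t) := by
      group
    rw [e2, e3]
    have hc : (q : G) * r * (q : G)⁻¹ * (r : G)⁻¹ = 1 ∨ (q : G) * r * (q : G)⁻¹ * (r : G)⁻¹ = T.i :=
      (T.Q_modC q.2).2 r r.2
    rw [mul_inv_rev, mul_assoc _ ((q : G) * r)⁻¹, inv_mul_cancel_left, hinvt, T.t_conj_mul,
      show ((q : G)⁻¹ * (r : G)⁻¹)⁻¹ * ((r : G)⁻¹ * (q : G)⁻¹) = ((q : G) * r * (q : G)⁻¹ * (r : G)⁻¹)⁻¹ by group]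
    rcases hc with e | e <;> rw [e]
    · left
      rw [inv_one, mul_one, T.t_sq]
    · right; right; left
      rw [T.i_inv, T.t_i_t]
  have hker : ∀ q : T.Q, f q = 1 → (q : G) = 1 ∨ (q : G) = T.i := by
    intro q hq
    by_contra h
    push Not at h
    have hv := (hmk1 _).1 hq
    simp only at hv
    set y := (q : G)
    have hy : y ∈ T.Q := q.2
    have hmove : ∀ n : G, (n = 1 ∨ n = T.i) → y * T.t * y⁻¹ * T.t = n → False := fun n hn e => by
      have e' : T.t * y * T.t = n⁻¹ * y := by rw [← e]; group; simp [zpow_neg, T.t_inv]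
      have h14 : T.t * y * T.t * T.v 14 = T.v 14 * (T.t * y * T.t) := by
        rw [← T.t_a, T.t_conj_mul, T.t_conj_mul, T.Q_comm_a hy]
      have hn13 : Commute n (T.v 14) := by
        rcases hn with rfl | rfl
        exacts [Commute.one_left _, (T.v_comm_i.2 plane_i_facts.2.2.1).symm]
      rw [e'] at h14
      have h' := hn13.mul_left (show Commute (n⁻¹ * y) (T.v 14) from h14)
      rw [mul_inv_cancel_left, T.v14_eq] at h'
      have h'' := (show Commute y (T.v 13) from T.Q_comm_a hy).inv_right.mul_right h'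
      rw [inv_mul_cancel_left] at h''
      exact (T.e3_moves hy h.1 h.2).1 (mul_inv_eq_iff_eq_mul.2 h''.eq.symm)
    have hstay : y * T.t * y⁻¹ * T.t = T.t ∨ y * T.t * y⁻¹ * T.t = T.i * T.t → False := by
      rintro (e | e)
      · exact T.D.w_ne_one (s := 1) (k := 0) (by decide) (conj_eq_one_iff.1 (mul_eq_right.1 e))
      · have e' : y * T.t * y⁻¹ = T.i := mul_right_cancel e
        refine hti ?_
        calc T.t = y⁻¹ * (y * T.t * y⁻¹) * y := by group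
          _ = T.i := by rw [e', mul_assoc, ← T.Q_comm_i hy, inv_mul_cancel_left]
    rcases hv with e | e | e | e
    exacts [hmove 1 (Or.inl rfl) e, hstay (Or.inl e), hmove T.i (Or.inr rfl) e, hstay (Or.inr e)]
  have hcard4 : ∀ {H : Type _} [Group H] [Finite H] (g : H →* X ⧸ T.tiN) (j : H), Nat.card H = 8 →
      (∀ y, g y = 1 ↔ y = 1 ∨ y = j) → j ≠ 1 → Nat.card g.range = 4 := by
    intro H _ _ g j hH hg hj
    have hk : Nat.card g.ker = 2 := by
      rw [Nat.card_eq_two_iff]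
      refine ⟨⟨1, one_mem _⟩, ⟨j, (hg j).2 (Or.inr rfl)⟩, fun e => hj (congrArg Subtype.val e).symm, ?_⟩
      ext ⟨y, hy⟩
      simpa [Subtype.ext_iff] using (hg y).1 hy
    have h := card_mul_index g.ker
    rw [index_ker, hk, hH] at h
    omega
  let fE : T.E →* X ⧸ T.tiN := mk.comp (Subgroup.inclusion fun e he => hmemX.2 ⟨T.E_comm_t he, T.E_comm_i he⟩)
  have hE4 : Nat.card fE.range = 4 := hcard4 fE ⟨T.i, T.i_mem_E⟩ T.E_card (fun ⟨e, he⟩ => by
    show mk _ = 1 ↔ _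
    rw [hmk1]
    have htE : T.t ∉ T.E := fun h => by
      have := T.E_comm_e3 h
      have h2 : T.t * T.v 1 * T.t = T.v 1 := by rw [this, mul_assoc, T.t_sq, mul_one]
      rw [T.t_e3] at h2
      have h3 : T.v 1 ^ 3 = 1 := T.S.F.v_cube 1
      rw [pow_succ, pow_two] at h3
      nth_rewrite 1 [← h2] at h3
      rw [inv_mul_cancel, one_mul] at h3
      exact absurd (T.S.F.v_eq_one.1 h3) (by decide)
    constructor
    · rintro (h | h | h | h) <;> change e = _ at h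
      · exact Or.inl (Subtype.ext h)
      · exact absurd (h ▸ he) htE
      · exact Or.inr (Subtype.ext h)
      · refine absurd ?_ htE
        have := mul_mem T.i_mem_E he
        rwa [h, ← mul_assoc, T.i_sq, one_mul] at this
    · rintro (h | h) <;> have h' := congrArg Subtype.val h
      exacts [Or.inl h', Or.inr (Or.inr (Or.inl h'))])
    (fun e => T.i_ne (congrArg Subtype.val e))
  have hQ4 : Nat.card f.range = 4 := hcard4 f ⟨T.i, T.i_mem_Q⟩ T.Q_card (fun q => by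
    refine ⟨fun h => (hker q h).imp Subtype.ext Subtype.ext, ?_⟩
    rintro (rfl | rfl)
    · exact map_one f
    · refine (hmk1 _).2 (Or.inl ?_)
      show T.i * T.t * T.i⁻¹ * T.t = 1
      rw [T.i_inv, mul_assoc T.i T.t T.i, T.t_comm_i, ← mul_assoc, T.i_sq, one_mul, T.t_sq])
    (fun e => T.i_ne (congrArg Subtype.val e))
  have hconjt : ∀ {σ : Perm (Fin 6)}, (σ = swap 0 3 ∨ σ = swap 1 4 ∨ σ = swap 2 5) → ∀ {y n : G},
      (n = 1 ∨ n = T.t ∨ n = T.i ∨ n = T.i * T.t) → y * T.φ σ * y⁻¹ = T.φ σ * n →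
      y * T.φ σ = T.φ σ * y := fun {σ} hσ {y n} hn e => by
    obtain ⟨g, hg⟩ := T.s_conj_t hσ
    have := T.unique_s hσ hn rfl ⟨y * g, by rw [← e, ← hg]; group⟩
    rw [this] at e
    exact mul_inv_eq_iff_eq_mul.1 e
  obtain ⟨g, u, hu, hu1, hgu⟩ := shared_involution (Q := fE.range) (V := f.range) hE4
    (by
      rintro _ ⟨e, rfl⟩
      rw [← map_mul, show e * e = 1 from Subtype.ext (T.E_sq e.2), map_one])
    hQ4
    (by
      rintro _ ⟨q, rfl⟩
      rw [← map_mul]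
      refine (hmk1 _).2 ?_
      show ((q * q : T.Q) : G) * T.t * ((q * q : T.Q) : G)⁻¹ * T.t = 1 ∨ _
      left
      by_cases h1 : (q : G) = 1 ∨ (q : G) = T.i
      · have : (q : G) * q = 1 := by rcases h1 with e | e <;> rw [e]; exacts [one_mul 1, T.i_sq]
        rw [Subgroup.coe_mul, this, one_mul, inv_one, mul_one, T.t_sq]
      · push Not at h1
        rw [Subgroup.coe_mul, T.Q_sq q.2 h1.1 h1.2, T.i_inv, mul_assoc T.i T.t T.i, T.t_comm_i, ← mul_assoc,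
          T.i_sq, one_mul, T.t_sq])
    (fun y m hym hy => by
      obtain ⟨y, rfl⟩ := QuotientGroup.mk'_surjective _ y
      obtain ⟨hyt, hyi⟩ := hmemX.1 y.2
      have hcen : ∀ σ, (σ = swap 0 3 ∨ σ = swap 1 4) → (y : G) * T.φ σ = T.φ σ * y := fun σ hσ => by
        have hσ' : σ = swap 0 3 ∨ σ = swap 1 4 ∨ σ = swap 2 5 := hσ.imp_right Or.inl
        have hσE := T.φ_mem_E (e_class_facts.1 σ hσ').2.2
        have h := hy (fE ⟨_, hσE⟩) ⟨_, rfl⟩
        set s' : X := Subgroup.inclusion _ (⟨_, hσE⟩ : T.E) with hs'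
        have h' : mk (s'⁻¹ * (y * s' * y⁻¹)) = 1 := by
          rw [map_mul, map_mul, map_mul, map_inv, map_inv]
          change mk y * mk s' = mk s' * mk y at h
          rw [h, mul_inv_cancel_right, inv_mul_cancel]
        refine hconjt hσ' ((hmk1 _).1 h') ?_
        show _ = T.φ σ * ((T.φ σ)⁻¹ * ((y : G) * T.φ σ * (y : G)⁻¹))
        rw [mul_inv_cancel_left]
      have hyA : (y : G) ∈ T.modC T.E := by
        refine ⟨hyi, ?_⟩
        rintro _ ⟨τ, hτ, rfl⟩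
        obtain ⟨a, b, c, rfl⟩ := E_span τ hτ
        left
        rw [mul_inv_eq_one, mul_inv_eq_iff_eq_mul, map_mul, map_mul, map_pow, map_pow, map_pow, ← T.i_eq]
        exact ((((show Commute (y : G) _ from hcen _ (Or.inl rfl))).pow_right a.val).mul_right
          ((show Commute (y : G) _ from hcen _ (Or.inr rfl)).pow_right b.val)).mul_right
          ((show Commute (y : G) T.i from hyi).pow_right c.val)
      obtain ⟨l, b, e, he, hye⟩ := T.modC_E_elts hbad hyA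
      have hl : T.v 1 ^ l = 1 := by
        have hc1 : Commute (T.t ^ b.val * e) T.t :=
          ((Commute.refl T.t).pow_left _).mul_left (T.E_comm_t he)
        have hc2 := (show Commute (y : G) T.t from hyt).mul_left hc1.inv_left
        rw [hye, mul_assoc (T.v 1 ^ l), mul_inv_cancel_right] at hc2
        have h2 := conj_pow (i := l) (a := T.t) (b := T.v 1)
        rw [T.t_inv, T.t_e3] at h2
        have h3 : T.t * T.v 1 ^ l * T.t = T.v 1 ^ l := by rw [← hc2.eq, mul_assoc, T.t_sq, mul_one]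
        rw [← h2, inv_pow] at h3
        have h4 : T.v 1 ^ l * T.v 1 ^ l = 1 := by
          nth_rewrite 1 [← h3]; rw [inv_mul_cancel]
        have h5 : (T.v 1 ^ l) ^ 3 = 1 := by
          rw [← pow_mul, mul_comm, pow_mul, show T.v 1 ^ 3 = 1 from T.S.F.v_cube 1, one_pow]
        rwa [pow_succ, pow_two, h4, one_mul] at h5
      rw [hl, one_mul] at hye
      refine ⟨⟨e, he⟩, ?_⟩
      rw [show fE ⟨e, he⟩ = mk ⟨e, hmemX.2 ⟨T.E_comm_t he, T.E_comm_i he⟩⟩ from rfl, hmk, QuotientGroup.mk'_apply,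
        QuotientGroup.mk'_apply, QuotientGroup.eq]
      show e⁻¹ * (y : G) = 1 ∨ e⁻¹ * (y : G) = T.t ∨ e⁻¹ * (y : G) = T.i ∨ e⁻¹ * (y : G) = T.i * T.t
      rw [hye, show T.t ^ b.val * e = e * T.t ^ b.val from
        (((show Commute e T.t from T.E_comm_t he).pow_right b.val).eq).symm, inv_mul_cancel_left]
      fin_cases b
      · exact Or.inl (pow_zero _)
      · exact Or.inr (Or.inl (pow_one _)))
  obtain ⟨⟨e₀, σ, hσ, rfl⟩, rfl⟩ := hu
  obtain ⟨⟨q, hq⟩, hqx⟩ := hgu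
  obtain ⟨g, rfl⟩ := QuotientGroup.mk'_surjective _ g
  have hσ1 : σ ≠ 1 := by
    rintro rfl
    exact hu1 ((hmk1 _).2 (Or.inl (map_one _)))
  have hσ2 : σ ≠ SixP.t0 := by
    rintro rfl
    exact hu1 ((hmk1 _).2 (Or.inr (Or.inr (Or.inl T.i_eq.symm))))
  obtain ⟨s, hs, hσs⟩ := e_class_facts.2.1 σ hσ hσ1 hσ2
  obtain ⟨hgt, hgi⟩ := hmemX.1 g.2
  have hgN := hNn _ g.2
  -- the coset
  have hco : ∃ n, (n = 1 ∨ n = T.t ∨ n = T.i ∨ n = T.i * T.t) ∧
      (g : G) * T.φ s * (g : G)⁻¹ * n = q * T.t * q⁻¹ := by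
    have h1 := QuotientGroup.eq.1 (show mk ⟨_, hxmem q hq⟩ =
      mk (g * ⟨T.φ σ, hmemX.2 ⟨T.E_comm_t (T.φ_mem_E hσ), T.E_comm_i (T.φ_mem_E hσ)⟩⟩ * g⁻¹) by
      rw [map_mul, map_mul, map_inv]; exact hqx)
    change ((q * T.t * q⁻¹ * T.t)⁻¹ * ((g : G) * T.φ σ * (g : G)⁻¹) = 1 ∨ _) at h1
    obtain ⟨δ, hδ, hσδ⟩ : ∃ δ : X, δ ∈ T.tiN ∧ T.φ σ = T.φ s * δ := by
      rcases hσs with e | e
      · exact ⟨1, one_mem _, by rw [e, OneMemClass.coe_one, mul_one]⟩
      · exact ⟨⟨T.i, hmemX.2 ⟨T.t_comm_i.symm, rfl⟩⟩, Or.inr (Or.inr (Or.inl rfl)),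
          by rw [e, map_mul, ← T.i_eq]⟩
    set m := ((q * T.t * q⁻¹ * T.t)⁻¹ * ((g : G) * T.φ σ * (g : G)⁻¹)) with hm
    have hmX : m ∈ X := mul_mem (inv_mem (hxmem q hq)) (mul_mem (mul_mem g.2
      (hmemX.2 ⟨T.E_comm_t (T.φ_mem_E hσ), T.E_comm_i (T.φ_mem_E hσ)⟩)) (inv_mem g.2))
    have hnmem : δ * (⟨m, hmX⟩ : X)⁻¹ * ⟨T.t, hmemX.2 ⟨rfl, T.t_comm_i⟩⟩ ∈ T.tiN :=
      mul_mem (mul_mem hδ (inv_mem (show (⟨m, hmX⟩ : X) ∈ T.tiN from h1))) (Or.inr (Or.inl rfl))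
    refine ⟨_, hnmem, ?_⟩
    have e : (g : G) * T.φ s * (g : G)⁻¹ * δ = q * T.t * q⁻¹ * T.t * m := by
      rw [hm, mul_inv_cancel_left, hσδ, ← mul_assoc (g : G), mul_assoc ((g : G) * T.φ s) (δ : G) (g : G)⁻¹,
        ← hNn _ (inv_mem g.2) _ hδ, ← mul_assoc]
    show _ * ((δ : G) * m⁻¹ * T.t) = _
    rw [← mul_assoc, ← mul_assoc, e, mul_inv_cancel_right, mul_assoc _ T.t T.t, T.t_sq, mul_one]
  obtain ⟨n, hn, hgs⟩ := hco
  obtain ⟨w, hw⟩ := T.s_conj_t hs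
  have hn1 : T.φ s * n = T.φ s := by
    refine T.unique_s hs hn rfl ⟨(g : G)⁻¹ * q, ?_⟩
    rw [show (g : G)⁻¹ * q * T.t * ((g : G)⁻¹ * q)⁻¹ = (g : G)⁻¹ * (q * T.t * q⁻¹) * g by group, ← hgs,
      ← mul_assoc, mul_assoc _ n (g : G), ← hgN n hn]
    group
  rw [mul_eq_left] at hn1
  rw [hn1, mul_one] at hgs
  obtain ⟨z, hz⟩ := T.si_conj_z hs
  refine T.z_not_ti (q⁻¹ * g * z⁻¹) ?_
  rw [← hz, show q⁻¹ * (g : G) * z⁻¹ * (z * (T.φ s * T.i) * z⁻¹) * (q⁻¹ * g * z⁻¹)⁻¹ =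
    q⁻¹ * ((g : G) * T.φ s * (g : G)⁻¹) * ((g : G) * T.i * (g : G)⁻¹) * q by group, hgs, hgi, mul_inv_cancel_right]
  calc q⁻¹ * (q * T.t * q⁻¹) * T.i * q = T.t * (q⁻¹ * (T.i * q)) := by group
    _ = T.t * T.i := by rw [← T.Q_comm_i hq, inv_mul_cancel_left]

end

end SData

end Cfsg.Lib.PSpThree
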