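import Cfsg.Agent.Lib.PSpThree.SixCertData

/-!
# A split axis centralizer: the finite checks

A product of commuting transvections may be sorted, and two products agreeing on the six basis vectors agree
everywhere; so a scan over sorted triples against a short list proves the check for all products.
-/

set_option autoImplicit false
set_option maxHeartbeats 1600000
set_option maxRecDepth 100000
set_option linter.unusedSectionVars false

namespace Cfsg.Lib.PSpThree.SpSeven

open Cfsg.Lib.SpSix

/-- Commutation on the six basis vectors. -/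
def commS (L A : List ℕ) : Bool :=
  [0, 1, 3, 7, 15, 31].all fun x => Nat.beq (pImg L (pImg A x)) (pImg A (pImg L x))

/-- A product commuting with the pair is in the list. -/
def scan1 (u z : List ℕ) (M : List (ℕ × List ℕ)) (L : List ℕ) : Bool :=
  !(commS L z && commS L u) || M.any fun p => Nat.beq (code L) p.1

/-- The scan of the sorted products. -/
def scanOk (u z : List ℕ) (M : List (ℕ × List ℕ)) : Bool :=
  (List.range 63).all fun a => scan1 u z M [a] && (List.range 63).all fun b => (!Nat.ble a b || bT a b) ||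
    (scan1 u z M [a, b] && (List.range 63).all fun c =>
      (!Nat.ble b c || (bT a c || bT b c)) || scan1 u z M [a, b, c])

/-- Every member of the list passes. -/
def goodOk (u z v : List ℕ) (M : List (ℕ × List ℕ)) : Bool :=
  M.all fun p => p.2.all (fun a => Nat.blt a 63) && (Nat.beq (code p.2) p.1 && chk u z v p.2)

theorem lt_append {A B : List ℕ} (hA : ∀ a ∈ A, a < 63) (hB : ∀ a ∈ B, a < 63) : ∀ a ∈ A ++ B, a < 63 :=
  fun a ha => (List.mem_append.1 ha).elim (hA a) (hB a)

theorem pImg_append (L M : List ℕ) (x : ℕ) : pImg (L ++ M) x = pImg L (pImg M x) := List.foldr_append ..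

theorem pImg_lt (L : List ℕ) (hL : ∀ a ∈ L, a < 63) (x : Fin 63) : pImg L x < 63 := by
  rw [← lW_img L hL, ← wPerm_apply]; exact (wPerm (lW L) x).isLt

/-- Agreement on the six basis vectors is agreement. -/
theorem pImg_of_six {L M : List ℕ} (hL : ∀ a ∈ L, a < 63) (hM : ∀ a ∈ M, a < 63)
    (h : ∀ j ∈ basisV, pImg L (j : Fin 63) = pImg M j) (x : Fin 63) : pImg L x = pImg M x := by
  have hr : ∀ W : List (Fin 7), ∃ g : Cov, proj g = wPerm W := fun W => by
    rw [← rho_wElt]
    have hm : rho (wElt W) ∈ proj.range := by rw [proj_range, ← rho_range]; exact ⟨_, rfl⟩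
    exact hm
  obtain ⟨g, hg⟩ := hr (lW L)
  obtain ⟨g', hg'⟩ := hr (lW M)
  have e : proj g = proj g' := eq_of_basis fun j hj => Fin.ext (by
    rw [hg, hg', wPerm_apply, wPerm_apply, lW_img L hL, lW_img M hM, h j hj])
  rw [← lW_img L hL, ← lW_img M hM, ← wPerm_apply, ← wPerm_apply, ← hg, e, hg']

theorem pImg_of_code {L M : List ℕ} (hL : ∀ a ∈ L, a < 63) (hM : ∀ a ∈ M, a < 63) (h : code L = code M)
    (x : Fin 63) : pImg L x = pImg M x := by
  refine pImg_of_six hL hM (fun j hj => ?_) x
  have l0 := pImg_lt L hL 0; have l1 := pImg_lt L hL 1; have l3 := pImg_lt L hL 3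
  have l7 := pImg_lt L hL 7; have l15 := pImg_lt L hL 15; have l31 := pImg_lt L hL 31
  have m0 := pImg_lt M hM 0; have m1 := pImg_lt M hM 1; have m3 := pImg_lt M hM 3
  have m7 := pImg_lt M hM 7; have m15 := pImg_lt M hM 15; have m31 := pImg_lt M hM 31
  simp only [code, Nat.add_eq, Nat.mul_eq] at h
  simp only [Fin.isValue, Fin.val_zero, Fin.val_one, show ((3 : Fin 63) : ℕ) = 3 from rfl,
    show ((7 : Fin 63) : ℕ) = 7 from rfl, show ((15 : Fin 63) : ℕ) = 15 from rfl,
    show ((31 : Fin 63) : ℕ) = 31 from rfl] at l0 l1 l3 l7 l15 l31 m0 m1 m3 m7 m15 m31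
  simp only [basisV, List.mem_cons, List.not_mem_nil, or_false] at hj
  rcases hj with rfl | rfl | rfl | rfl | rfl | rfl <;>
    simp only [Fin.isValue, Fin.val_zero, Fin.val_one, show ((3 : Fin 63) : ℕ) = 3 from rfl,
      show ((7 : Fin 63) : ℕ) = 7 from rfl, show ((15 : Fin 63) : ℕ) = 15 from rfl,
      show ((31 : Fin 63) : ℕ) = 31 from rfl] <;> omega

theorem pair_comm_six : ∀ a b : Fin 63, bT a b = true ∨
    [0, 1, 3, 7, 15, 31].all (fun x => Nat.beq (pImg [(a : ℕ), (b : ℕ)] x) (pImg [(b : ℕ), (a : ℕ)] x)) = true := by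
  decide +kernel

theorem bB_symm : ∀ a b : Fin 63, bB a b = bB b a := fun a b => by
  have h : ∀ a b : Fin 63, bT a b = bT b a := by decide +kernel
  rw [← bT_ok, ← bT_ok, h]

theorem perm_img {L L' : List ℕ} (hL : ∀ a ∈ L, a < 63) (ho : L.Pairwise fun a b => bB a b = false)
    (hp : L.Perm L') (x : Fin 63) : pImg L x = pImg L' x := by
  have hL' : ∀ a ∈ L', a < 63 := fun a ha => hL a (hp.symm.subset ha)
  have hprod : ∀ M : List ℕ, wPerm (lW M) = (M.map fun a => wPerm (tvW a)).prod := fun M => by
    induction M with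
    | nil => rfl
    | cons a M ih =>
      rw [List.map_cons, List.prod_cons, ← ih, show lW (a :: M) = tvW a ++ lW M from rfl, wPerm, wPerm, wPerm,
        List.map_append, List.prod_append]
  have hc : (L.map fun a => wPerm (tvW a)).Pairwise Commute := by
    rw [List.pairwise_map]
    refine ho.imp_of_mem fun {a b} ha hb h => ?_
    have hab : ∀ c d : ℕ, (hc : c < 63) → (hd : d < 63) → ∀ y : Fin 63,
        ((wPerm (tvW c) * wPerm (tvW d)) y : ℕ) = pImg [c, d] y := fun c d hc hd y => by
      rw [← lW_img [c, d] (by simp [hc, hd]), ← wPerm_apply, hprod]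
      simp
    refine Equiv.ext fun y => Fin.ext ?_
    rw [hab a b (hL a ha) (hL b hb), hab b a (hL b hb) (hL a ha)]
    refine pImg_of_six (by simp [hL a ha, hL b hb]) (by simp [hL a ha, hL b hb]) (fun j hj => ?_) y
    have h6 := (pair_comm_six ⟨a, hL a ha⟩ ⟨b, hL b hb⟩).resolve_left (by
      rw [bT_ok]; exact fun e => Bool.false_ne_true (h.symm.trans e))
    simp only [List.all_eq_true, Nat.beq_eq] at h6
    refine h6 _ ?_
    simp only [basisV, List.mem_cons, List.not_mem_nil, or_false] at hj
    rcases hj with rfl | rfl | rfl | rfl | rfl | rfl <;> simp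
  rw [← lW_img L hL, ← lW_img L' hL', ← wPerm_apply, ← wPerm_apply, hprod, hprod,
    (hp.map fun a => wPerm (tvW a)).prod_eq' hc]

theorem chk_congr {u z v L L' : List ℕ} (hz : ∀ a ∈ z, a < 63) (hu : ∀ a ∈ u, a < 63)
    (h : ∀ x : Fin 63, pImg L x = pImg L' x) : chk u z v L = chk u z v L' := by
  have hl : ∀ {A : List ℕ}, (∀ a ∈ A, a < 63) → ∀ x : Fin 63, pImg (L ++ A) x = pImg (L' ++ A) x :=
    fun {A} hA x => by
      rw [pImg_append, pImg_append]
      exact h ⟨pImg A x, pImg_lt A hA x⟩
  have hr : ∀ (A : List ℕ) (x : Fin 63), pImg (A ++ L) x = pImg (A ++ L') x := fun A x => by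
    rw [pImg_append, pImg_append, h]
  have hc : ∀ {A : List ℕ}, (∀ a ∈ A, a < 63) → commB L A = commB L' A := fun {A} hA => by
    simp only [commB, hl hA, hr]
  have h3 : ∀ x : Fin 63, pImg (z ++ L ++ u) x = pImg (z ++ L' ++ u) x := fun x => by
    rw [List.append_assoc, List.append_assoc, pImg_append, pImg_append z, hl hu]
  have h63 : fixP L = fixP L' := by simp only [fixP, h]
  simp only [chk, hc hz, hc hu, h63, clP_congr h, clP_congr (hr u), clP_congr (hr z), clP_congr h3]

/-- The scan gives the check for all products. -/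
theorem check_of_scan {u z v : List ℕ} {M : List (ℕ × List ℕ)} (hz : ∀ a ∈ z, a < 63) (hu : ∀ a ∈ u, a < 63)
    (hs : scanOk u z M = true) (hg : goodOk u z v M = true) :
    ∀ L : List ℕ, (L.length = 1 ∨ L.length = 2 ∨ L.length = 3) → (∀ a ∈ L, a < 63) →
      L.Pairwise (fun a b => bB a b = false) → chk u z v L = true := by
  intro L hlen hlt ho
  set L' := L.insertionSort (· ≤ ·) with hL'
  have hp : L'.Perm L := List.perm_insertionSort _ L
  have hlt' : ∀ a ∈ L', a < 63 := fun a ha => hlt a (hp.subset ha)
  have hsort : L'.Pairwise (· ≤ ·) := List.pairwise_insertionSort _ L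
  have ho' : L'.Pairwise fun a b => bT a b = false := by
    have h1 : L.Pairwise fun a b => bT a b = false ∧ bT b a = false := ho.imp_of_mem fun {a b} ha hb h => by
      have e1 := bT_ok ⟨a, hlt a ha⟩ ⟨b, hlt b hb⟩
      have e2 := (bT_ok ⟨b, hlt b hb⟩ ⟨a, hlt a ha⟩).trans (bB_symm _ _)
      exact ⟨e1.trans h, e2.trans h⟩
    have h2 : L'.Pairwise fun a b => bT a b = false ∧ bT b a = false :=
      h1.perm hp.symm fun {a b} h => ⟨h.2, h.1⟩
    exact h2.imp fun h => h.1
  rw [chk_congr hz hu fun x => perm_img hlt ho hp.symm x]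
  by_cases hc : commS L' z = true ∧ commS L' u = true
  · have hmem : M.any (fun p => Nat.beq (code L') p.1) = true := by
      have h1 : scan1 u z M L' = true := by
        have hlen' : L'.length = 1 ∨ L'.length = 2 ∨ L'.length = 3 := by rw [hp.length_eq]; exact hlen
        simp only [scanOk, List.all_eq_true, List.mem_range, Bool.and_eq_true, Bool.or_eq_true,
          Bool.not_eq_true'] at hs
        clear_value L'
        rcases L' with - | ⟨a, - | ⟨b, - | ⟨c, - | ⟨d, L'⟩⟩⟩⟩ <;> simp at hlen'
        · exact (hs a (hlt' a (by simp))).1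
        · obtain ⟨-, h2⟩ := hs a (hlt' a (by simp))
          simp only [List.pairwise_cons, List.mem_singleton, forall_eq] at ho' hsort
          refine ((h2 b (hlt' b (by simp))).resolve_left ?_).1
          rintro (e | e)
          · exact absurd e (by simp [Nat.ble_eq, hsort.1])
          · exact absurd e (by simp [ho'.1])
        · obtain ⟨-, h2⟩ := hs a (hlt' a (by simp))
          simp only [List.pairwise_cons, List.mem_cons, forall_eq_or_imp, forall_eq,
            List.not_mem_nil, or_false] at ho' hsort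
          refine (((h2 b (hlt' b (by simp))).resolve_left ?_).2 c (hlt' c (by simp))).resolve_left ?_
          · rintro (e | e)
            · exact absurd e (by simp [Nat.ble_eq, hsort.1.1])
            · exact absurd e (by simp [ho'.1.1])
          · rintro (e | e | e)
            · exact absurd e (by simp [Nat.ble_eq, hsort.2.1])
            · exact absurd e (by simp [ho'.1.2])
            · exact absurd e (by simp [ho'.2.1])
      simpa [scan1, hc.1, hc.2] using h1
    obtain ⟨p, hp1, hp2⟩ := List.any_eq_true.1 hmem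
    simp only [goodOk, List.all_eq_true, Bool.and_eq_true, Nat.beq_eq, Nat.blt_eq] at hg
    obtain ⟨g1, g2, g3⟩ := hg p hp1
    rw [chk_congr hz hu (pImg_of_code hlt' g1 ((Nat.eq_of_beq_eq_true hp2).trans g2.symm))]
    exact g3
  · -- no commutation
    have hcomm : ∀ A : List ℕ, (∀ a ∈ A, a < 63) → commB L' A = true → commS L' A = true := fun A _ h => by
      simp only [commB, List.all_eq_true, List.mem_finRange, true_implies, beq_iff_eq] at h
      simp only [commS, List.all_eq_true, Nat.beq_eq]
      intro x hx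
      have hx63 : x < 63 := by
        simp only [List.mem_cons, List.not_mem_nil, or_false] at hx
        omega
      have := h ⟨x, hx63⟩
      rwa [pImg_append, pImg_append] at this
    rw [chk, Bool.or_eq_true]
    left
    simp only [Bool.not_eq_true', Bool.and_eq_false_iff]
    by_contra hn
    simp only [not_or, Bool.not_eq_false] at hn
    exact hc ⟨hcomm z hz hn.1, hcomm u hu hn.2⟩

theorem pair_t : ∀ L : List ℕ, (L.length = 1 ∨ L.length = 2 ∨ L.length = 3) → (∀ a ∈ L, a < 63) →
    L.Pairwise (fun a b => bB a b = false) → chk [7] [1, 7] [1, 3, 5] L = true :=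
  check_of_scan (M := listT) (by decide) (by decide) (by decide +kernel) (by decide +kernel)

theorem pair_i : ∀ L : List ℕ, (L.length = 1 ∨ L.length = 2 ∨ L.length = 3) → (∀ a ∈ L, a < 63) →
    L.Pairwise (fun a b => bB a b = false) → chk [0, 1, 2] [0, 1] [3] L = true :=
  check_of_scan (M := listI) (by decide) (by decide) (by decide +kernel) (by decide +kernel)

theorem pair_ti : ∀ L : List ℕ, (L.length = 1 ∨ L.length = 2 ∨ L.length = 3) → (∀ a ∈ L, a < 63) →
    L.Pairwise (fun a b => bB a b = false) → chk [0, 1, 3] [0, 1] [2] L = true :=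
  check_of_scan (M := listW) (by decide) (by decide) (by decide +kernel) (by decide +kernel)

end Cfsg.Lib.PSpThree.SpSeven
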