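import Cfsg.Agent.Lib.PSpThree.SixQuat

/-!
# A split axis centralizer: classes of the involutions over the elementary group
-/

set_option autoImplicit false
set_option maxHeartbeats 1600000
set_option maxRecDepth 100000
set_option linter.unusedSectionVars false
set_option linter.style.haveILetI false
set_option synthInstance.maxSize 5000

namespace Cfsg.Lib.PSpThree

open Subgroup Cfsg.Lib.SymNine Equiv

theorem e_class_facts :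
    (∀ σ : Perm (Fin 6), (σ = swap 0 3 ∨ σ = swap 1 4 ∨ σ = swap 2 5) →
      (∃ ρ : Perm (Fin 6), ρ * σ = swap 1 2 * ρ) ∧
      (∃ ρ : Perm (Fin 6), ρ * (σ * SixP.t0) = swap 1 2 * swap 4 5 * ρ) ∧ InE σ) ∧
    (∀ σ : Perm (Fin 6), InE σ → σ ≠ 1 → σ ≠ SixP.t0 → ∃ s : Perm (Fin 6),
      (s = swap 0 3 ∨ s = swap 1 4 ∨ s = swap 2 5) ∧ (σ = s ∨ σ = s * SixP.t0)) ∧
    kmul 1 0 = kmul 0 1 ∧ sComp 0 1 5 = sComp 6 0 0 ∧ sComp 0 5 4 = sComp 1 0 0 ∧ kmul 5 0 = kmul 0 5 ∧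
    sComp 4 0 1 = 5 ∧ sComp 4 0 2 = 6 ∧ sComp 6 0 1 = 7 ∧ sComp 1 0 0 = 1 ∧ kmul 0 2 = 2 ∧ kmul 0 0 = 0 := by
  refine ⟨?_, ?_, ?_, ?_, ?_, ?_, ?_, ?_, ?_, ?_, ?_, ?_⟩ <;> decide +kernel

namespace SData

variable {G : Type*} [Group G] [Finite G] (T : SData G)

theorem φ_conj {ρ σ τ : Perm (Fin 6)} (h : ρ * σ = τ * ρ) : T.φ ρ * T.φ σ * (T.φ ρ)⁻¹ = T.φ τ := by
  rw [← map_mul, h, map_mul, mul_inv_cancel_right]

theorem t_a_eq : T.φ (swap 1 2) = T.D.w 4 0 := T.K.map_ea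

theorem t_b_eq : T.φ (swap 4 5) = T.D.w 2 0 := T.K.map_eb

/-- Transpositions in the elementary group are conjugate to the sign change. -/
theorem s_conj_t {σ : Perm (Fin 6)} (h : σ = swap 0 3 ∨ σ = swap 1 4 ∨ σ = swap 2 5) :
    ∃ g : G, g * T.t * g⁻¹ = T.φ σ := by
  obtain ⟨ρ, hρ⟩ := (e_class_facts.1 σ h).1
  obtain ⟨-, -, -, -, q5, q5', -⟩ := e_class_facts
  refine ⟨(T.φ ρ)⁻¹ * (T.D.w 0 5)⁻¹, ?_⟩
  have e : T.D.w 0 5 * T.D.w 4 0 * (T.D.w 0 5)⁻¹ = T.t := by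
    rw [mul_inv_eq_iff_eq_mul, t, T.D.w_mul, T.D.w_mul, q5, q5']
  rw [← e, ← T.t_a_eq, ← T.φ_conj hρ]
  group

/-- Products of two transpositions are conjugate to the product of two sign changes. -/
theorem si_conj_z {σ : Perm (Fin 6)} (h : σ = swap 0 3 ∨ σ = swap 1 4 ∨ σ = swap 2 5) :
    ∃ g : G, g * (T.φ σ * T.i) * g⁻¹ = T.D.w 6 0 := by
  obtain ⟨ρ, hρ⟩ := (e_class_facts.1 σ h).2.1
  refine ⟨T.φ ρ, ?_⟩
  rw [T.i_eq, ← map_mul, T.φ_conj hρ]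
  exact T.K.z_eq

theorem sit_conj_inv {σ : Perm (Fin 6)} (h : σ = swap 0 3 ∨ σ = swap 1 4 ∨ σ = swap 2 5) :
    ∃ g : G, g * (T.φ σ * T.i * T.t) * g⁻¹ = T.D.w 7 0 := by
  obtain ⟨ρ, hρ⟩ := (e_class_facts.1 σ h).2.1
  obtain ⟨-, -, -, -, -, -, -, -, q67, -, -, k00⟩ := e_class_facts
  refine ⟨T.φ ρ, ?_⟩
  have hc : Commute (T.φ ρ) T.t := T.φ_comm_t ρ
  calc T.φ ρ * (T.φ σ * T.i * T.t) * (T.φ ρ)⁻¹ = T.φ ρ * (T.φ σ * T.i) * (T.φ ρ)⁻¹ * (T.φ ρ * T.t * (T.φ ρ)⁻¹) := by group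
    _ = T.D.w 6 0 * T.t := by
      rw [hc.eq, mul_inv_cancel_right, T.i_eq, ← map_mul, T.φ_conj hρ, T.K.z_eq]
    _ = T.D.w 7 0 := by rw [t, T.D.w_mul, q67, k00]

theorem st_conj_z {σ : Perm (Fin 6)} (h : σ = swap 0 3 ∨ σ = swap 1 4 ∨ σ = swap 2 5) :
    ∃ g : G, g * (T.φ σ * T.t) * g⁻¹ = T.D.w 6 0 := by
  obtain ⟨ρ, hρ⟩ := (e_class_facts.1 σ h).1
  obtain ⟨-, -, q1', q1, -, -, q41, -, -, -, -, k00⟩ := e_class_facts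
  refine ⟨T.D.w 0 1 * T.φ ρ, ?_⟩
  have hc : Commute (T.φ ρ) T.t := T.φ_comm_t ρ
  calc T.D.w 0 1 * T.φ ρ * (T.φ σ * T.t) * (T.D.w 0 1 * T.φ ρ)⁻¹
      = T.D.w 0 1 * (T.φ ρ * T.φ σ * (T.φ ρ)⁻¹ * (T.φ ρ * T.t * (T.φ ρ)⁻¹)) * (T.D.w 0 1)⁻¹ := by group
    _ = T.D.w 0 1 * T.D.w 5 0 * (T.D.w 0 1)⁻¹ := by
      rw [hc.eq, mul_inv_cancel_right, T.φ_conj hρ, T.t_a_eq, t, T.D.w_mul, q41, k00]
    _ = T.D.w 6 0 := by rw [mul_inv_eq_iff_eq_mul, T.D.w_mul, T.D.w_mul, q1, q1']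

theorem t_not_z (g : G) : g * T.t * g⁻¹ ≠ T.D.w 6 0 := T.S.t_not_z T.D g

theorem t_not_inv (g : G) : g * T.t * g⁻¹ ≠ T.D.w 7 0 := T.S.t_not_inv T.D g

theorem ti_eq : T.t * T.i = T.D.w 1 2 := by
  obtain ⟨-, -, -, -, -, -, -, -, -, q10, k02, -⟩ := e_class_facts
  rw [t, i, T.D.w_mul, q10, k02]

theorem z_not_ti (g : G) : g * T.D.w 6 0 * g⁻¹ ≠ T.t * T.i := by
  rw [T.ti_eq]; exact T.K.z_not_zp T.D.isCase g

/-- Conjugates are not conjugate to different representatives. -/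
theorem ne_of_conj {x y u v : G} (hne : ∀ g : G, g * u * g⁻¹ ≠ v) (hx : ∃ g : G, g * u * g⁻¹ = x)
    (hy : ∃ g : G, g * y * g⁻¹ = v) : x ≠ y := by
  rintro rfl
  obtain ⟨g, hg⟩ := hx
  obtain ⟨h, hh⟩ := hy
  exact hne (h * g) (by rw [← hh, ← hg]; group)

/-- In the coset of a transposition modulo the sign change and the swap, only it is fused to the sign change. -/
theorem unique_s {σ : Perm (Fin 6)} (h : σ = swap 0 3 ∨ σ = swap 1 4 ∨ σ = swap 2 5) {u n : G}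
    (hn : n = 1 ∨ n = T.t ∨ n = T.i ∨ n = T.i * T.t) (hu : u = T.φ σ * n) (hut : ∃ g : G, g * T.t * g⁻¹ = u) :
    u = T.φ σ := by
  rcases hn with rfl | rfl | rfl | rfl
  · rw [hu, mul_one]
  · exact absurd hu (ne_of_conj T.t_not_z hut (T.st_conj_z h))
  · exact absurd hu (ne_of_conj T.t_not_z hut (T.si_conj_z h))
  · rw [← mul_assoc] at hu
    exact absurd hu (ne_of_conj T.t_not_inv hut (T.sit_conj_inv h))

end SData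

end Cfsg.Lib.PSpThree
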