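import Cfsg.Agent.Lib.PSpThree.SixQComm

/-!
# A split axis centralizer: the centralizer of the elementary group

Modulo the elementary group its core is abelian, so the two quaternion groups commute; the centralizer is the
product of the elementary group and the two quaternion groups, extended by the axis and the sign change.
-/

set_option autoImplicit false
set_option maxHeartbeats 1600000
set_option maxRecDepth 100000
set_option linter.unusedSectionVars false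
set_option linter.style.haveILetI false
set_option synthInstance.maxSize 5000

namespace Cfsg.Lib.PSpThree

open Subgroup Cfsg.Lib.SymNine Equiv

namespace SData

variable {G : Type*} [Group G] [Finite G] (T : SData G)

theorem t_mul_inv (x : G) : (T.t * x * T.t)⁻¹ = T.t * x⁻¹ * T.t := by
  rw [mul_inv_rev, mul_inv_rev, T.t_inv, mul_assoc]

theorem t_Q {q : G} (hq : q ∈ T.Q) : T.t * q * T.t ∈ T.Q' := T.mem_Q'.2 (by rw [T.t_t]; exact hq)

theorem i_mem_Q' : T.i ∈ T.Q' := T.t_i_t ▸ T.t_Q T.i_mem_Q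

theorem Q'_comm_14 {r : G} (hr : r ∈ T.Q') : r * T.v 14 = T.v 14 * r := by
  rw [← T.t_t r, ← T.t_a, T.t_conj_mul, T.t_conj_mul, T.Q_comm_a (T.mem_Q'.1 hr)]

/-- Conjugating the conjugate quaternion group by the axis element. -/
theorem e3_conj_t_Q {q : G} (hq : q ∈ T.Q) :
    T.t * (T.v 1 * q * (T.v 1)⁻¹) * T.t = T.v 13 * (T.t * q * T.t) * (T.v 13)⁻¹ := by
  have hinv : T.t * (T.v 1)⁻¹ * T.t = T.v 1 := by rw [← T.t_e3, T.t_t]
  have hc : T.v 13 = T.v 14 * (T.v 1)⁻¹ := by rw [T.v14_eq, mul_inv_cancel_right]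
  have hc' : Commute (T.v 1)⁻¹ (T.v 14) := (show Commute (T.v 1) (T.v 14) from T.v_comm 1 14).inv_left
  calc T.t * (T.v 1 * q * (T.v 1)⁻¹) * T.t
      = T.t * T.v 1 * T.t * (T.t * q * T.t) * (T.t * (T.v 1)⁻¹ * T.t) := by rw [T.t_conj_mul, T.t_conj_mul]
    _ = (T.v 1)⁻¹ * (T.v 14 * (T.t * q * T.t) * (T.v 14)⁻¹) * T.v 1 := by
      rw [T.t_e3, hinv, ← T.Q'_comm_14 (T.t_Q hq), mul_inv_cancel_right]
    _ = ((T.v 1)⁻¹ * T.v 14) * (T.t * q * T.t) * ((T.v 1)⁻¹ * T.v 14)⁻¹ := by group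
    _ = _ := by rw [hc'.eq, ← hc]

theorem Q'_comm_E {r e : G} (hr : r ∈ T.Q') (he : e ∈ T.E) : r * e = e * r := by
  have h := T.Q_comm_E _ (T.mem_Q'.1 hr) e he
  have e' : T.t * e * T.t = e := by rw [← T.E_comm_t he, mul_assoc, T.t_sq, mul_one]
  rw [← T.t_t r, ← e', T.t_conj_mul, T.t_conj_mul, h]

theorem Q'_comm_i {r : G} (hr : r ∈ T.Q') : r * T.i = T.i * r := T.Q'_comm_E hr T.i_mem_E

theorem E_meet_Q {x : G} (hE : x ∈ T.E) (hQ : x ∈ T.Q) : x = 1 ∨ x = T.i := T.Q_invol hQ (T.E_sq hE)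

/-- The core of the centralizer of the elementary group. -/
theorem exists_core_E : ∃ O : Subgroup G, T.E ≤ O ∧ T.Q ≤ O ∧ T.Q' ≤ O ∧
    (∀ W : Subgroup G, T.E ≤ W → T.Q ≤ W → T.Q' ≤ W → O ≤ W) ∧
    (∀ x ∈ O, ∀ y ∈ O, x * y * x⁻¹ * y⁻¹ ∈ T.E) ∧
    (∀ g ∈ T.modC T.E, ∃ l : ℕ, ∃ m : Fin 2, ∃ o ∈ O, g = o * (T.v 1 ^ l * T.t ^ m.val)) := by
  classical
  haveI : Fact (Nat.Prime 3) := ⟨Nat.prime_three⟩
  set A := T.modC T.E with hA
  have hEA : T.E ≤ A := fun e he =>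
    ⟨T.E_comm_i he, fun a ha => Or.inl (by rw [T.E_comm he ha, mul_inv_cancel_right, mul_inv_cancel])⟩
  have he3A : T.v 1 ∈ A :=
    ⟨T.e3_comm_i, fun a ha => Or.inl (by rw [← T.E_comm_e3 ha, mul_inv_cancel_right, mul_inv_cancel])⟩
  have htA : T.t ∈ A :=
    ⟨T.t_comm_i, fun a ha => Or.inl (by rw [← T.E_comm_t ha, mul_inv_cancel_right, mul_inv_cancel])⟩
  have hQA : T.Q ≤ A := fun q hq =>
    ⟨T.Q_comm_i hq, fun a ha => Or.inl (by rw [T.Q_comm_E q hq a ha, mul_inv_cancel_right, mul_inv_cancel])⟩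
  have hQ'A : T.Q' ≤ A := fun q hq =>
    ⟨T.Q'_comm_i hq, fun a ha => Or.inl (by rw [T.Q'_comm_E hq ha, mul_inv_cancel_right, mul_inv_cancel])⟩
  have hi_E : ∀ {x : G}, x = 1 ∨ x = T.i → x ∈ T.E := fun {x} hx =>
    hx.elim (fun e => e ▸ one_mem _) fun e => e ▸ T.i_mem_E
  have hEn : ∀ l ∈ A, ∀ e ∈ T.E, l * e * l⁻¹ ∈ T.E := fun l hl e he => by
    rw [show l * e * l⁻¹ = l * e * l⁻¹ * e⁻¹ * e by group]
    exact mul_mem (hi_E (hl.2 e he)) he
  have he3' : T.v 1 ≠ 1 := fun e => absurd (T.S.F.v_eq_one.1 e) (by decide)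
  have hcent : ∀ g ∈ A, g * T.v 1 * g⁻¹ * (T.v 1)⁻¹ ∈ T.E → ∃ k : ℕ, ∃ e ∈ T.E, g = T.v 1 ^ k * e := by
    intro g hg hc
    set ε := g * T.v 1 * g⁻¹ * (T.v 1)⁻¹ with hε
    have h3 : (ε * T.v 1) ^ 3 = 1 := by
      rw [show ε * T.v 1 = g * T.v 1 * g⁻¹ by rw [hε]; group, conj_pow, show T.v 1 ^ 3 = 1 from T.S.F.v_cube 1]
      group
    rw [(show Commute ε (T.v 1) from T.E_comm_e3 hc).mul_pow, show T.v 1 ^ 3 = 1 from T.S.F.v_cube 1, mul_one,
      pow_succ, pow_two, T.E_sq hc, one_mul] at h3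
    obtain ⟨l, σ, hσ, rfl⟩ := T.cent_e3 (mul_inv_eq_iff_eq_mul.1 (mul_inv_eq_one.1 h3)) hg.1
    refine ⟨l, T.φ σ, T.φ_mem_E ?_, rfl⟩
    have hφA : T.φ σ ∈ A := by simpa using mul_mem (inv_mem (pow_mem he3A l)) hg
    have hval : ∀ τ, InE τ → σ * τ * σ⁻¹ * τ⁻¹ = 1 ∨ σ * τ * σ⁻¹ * τ⁻¹ = SixP.t0 := fun τ hτ => by
      rcases hφA.2 _ (T.φ_mem_E hτ) with e | e
      · exact Or.inl (T.K.inj (by rw [map_mul, map_mul, map_mul, map_inv, map_inv, map_one]; exact e))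
      · exact Or.inr (T.K.inj (by rw [map_mul, map_mul, map_mul, map_inv, map_inv, ← T.i_eq]; exact e))
    exact order_facts.2.2.1 σ hσ (hval _ inE_facts.2.1) (hval _ inE_facts.2.2.1)
  have hp := T.pairAct (A := T.E) (E₀ := T.E) (c := T.v 1) (fun x hx a ha => T.P_E hx ha)
    (fun x hx e he => T.P_E hx he) hEA hEn T.E_card T.e3_mem_P he3' he3A hcent
  obtain ⟨O, hEO, hOA, hnorm, hidx, hO3, hZ, hgen⟩ := hp.exists_core
  obtain ⟨h1, -⟩ := three_free (E := T.E) (fun e he => by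
    rw [show (4 : ℕ) = 2 * 2 by rfl, pow_mul, pow_two e, T.E_sq he, one_pow]) hO3
  have hOn : ∀ l ∈ A, ∀ o ∈ O, l * o * l⁻¹ ∈ O := fun l hl => hnorm l (fun x hx => mul_mem (mul_mem hl hx) (inv_mem hl))
    (hEn l hl)
  have he3O : T.v 1 ∉ O := fun h => he3' (h1 _ h (T.S.F.v_cube 1))
  have h3pow : ∀ {x : G}, x ∈ T.P → x ∈ O → x = 1 := fun {x} hx hxO => h1 x hxO (T.P_cube hx)
  have htO : ∀ {j : G}, (j = 1 ∨ j = T.i) → ∀ y ∈ T.P, y * (T.t * j) ∉ O := by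
    intro j hj y hy hgO
    have h2 := mul_mem (hOn _ he3A _ hgO) (inv_mem hgO)
    have hey : Commute (T.v 1) y := T.P_comm T.e3_mem_P hy
    have hj' : Commute (T.v 1)⁻¹ j := by
      rcases hj with rfl | rfl
      exacts [Commute.one_right _, (show Commute (T.v 1) T.i from T.e3_comm_i).inv_left]
    have hm : T.t * j * (T.v 1)⁻¹ * (T.t * j)⁻¹ = T.v 1 := by
      rw [show T.t * j * (T.v 1)⁻¹ * (T.t * j)⁻¹ = T.t * (j * (T.v 1)⁻¹ * j⁻¹) * T.t⁻¹ by group,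
        ← hj'.eq, mul_inv_cancel_right, ← conj_inv, T.t_inv, T.t_e3, inv_inv]
    have e : T.v 1 * (y * (T.t * j)) * (T.v 1)⁻¹ * (y * (T.t * j))⁻¹ = T.v 1 * T.v 1 := by
      calc T.v 1 * (y * (T.t * j)) * (T.v 1)⁻¹ * (y * (T.t * j))⁻¹
          = T.v 1 * (y * (T.t * j * (T.v 1)⁻¹ * (T.t * j)⁻¹) * y⁻¹) := by group
        _ = _ := by rw [hm, ← hey.eq, mul_inv_cancel_right]
    rw [e] at h2
    have h4 := mul_mem h2 h2
    rw [show T.v 1 * T.v 1 * (T.v 1 * T.v 1) = T.v 1 ^ 3 * T.v 1 by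
      simp only [pow_succ, pow_zero, one_mul, mul_assoc], show T.v 1 ^ 3 = 1 from T.S.F.v_cube 1, one_mul] at h4
    exact he3O h4
  -- the six cosets
  haveI : (O.subgroupOf A).Normal := ⟨fun q hq l => mem_subgroupOf.2 (hOn l l.2 q (mem_subgroupOf.1 hq))⟩
  let mk := QuotientGroup.mk' (O.subgroupOf A)
  have hmk1 : ∀ x : A, mk x = 1 ↔ (x : G) ∈ O := fun x => (QuotientGroup.eq_one_iff x).trans mem_subgroupOf
  set ē := mk ⟨T.v 1, he3A⟩ with hedef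
  set τ := mk ⟨T.t, htA⟩ with hτdef
  have hē3 : ē ^ 3 = 1 := by
    rw [hedef, ← map_pow, show (⟨T.v 1, he3A⟩ : A) ^ 3 = 1 from Subtype.ext (by simpa using T.S.F.v_cube 1), map_one]
  have hē1 : ē ≠ 1 := fun e => he3O ((hmk1 _).1 e)
  have hτ1 : τ ≠ 1 := fun e => htO (Or.inl rfl) 1 (one_mem _) (by
    rw [one_mul, mul_one]; exact (hmk1 _).1 e)
  have hτ2 : τ * τ = 1 := by
    rw [hτdef, ← map_mul, show (⟨T.t, htA⟩ : A) * ⟨T.t, htA⟩ = 1 from Subtype.ext T.t_sq, map_one]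
  have hcard : Nat.card (A ⧸ O.subgroupOf A) = 3 ∨ Nat.card (A ⧸ O.subgroupOf A) = 6 := hidx
  have hcard6 : Nat.card (A ⧸ O.subgroupOf A) = 6 := hcard.resolve_left fun h => hτ1 (by
    have h3 := pow_card_eq_one' (x := τ)
    rwa [h, pow_succ, pow_two, hτ2, one_mul] at h3)
  have hord : orderOf ē = 3 := orderOf_eq_prime hē3 hē1
  have hτne : τ ∉ zpowers ē := fun h => by
    have h3 : τ ^ 3 = 1 := orderOf_dvd_iff_pow_eq_one.1 (hord ▸ (Subgroup.orderOf_dvd_natCard (zpowers ē) h).trans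
      (Nat.card_zpowers ē).dvd)
    rw [pow_succ, pow_two, hτ2, one_mul] at h3
    exact hτ1 h3
  have hidx2 : (zpowers ē).index = 2 := by
    have := card_mul_index (zpowers ē)
    rw [Nat.card_zpowers, hord, hcard6] at this
    omega
  haveI := normal_of_index_eq_two hidx2
  have hrep : ∀ u : A ⧸ O.subgroupOf A, ∃ l : ℕ, ∃ m : Fin 2, u = ē ^ l * τ ^ m.val := by
    intro u
    by_cases hu : u ∈ zpowers ē
    · obtain ⟨l, rfl⟩ := (Submonoid.mem_powers_iff _ ē).1 (mem_powers_iff_mem_zpowers.2 hu)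
      exact ⟨l, 0, by simp⟩
    · have h : u * τ ∈ zpowers ē :=
        (mul_mem_iff_of_index_two hidx2).2 ⟨fun h => absurd h hu, fun h => absurd h hτne⟩
      obtain ⟨l, hl⟩ := (Submonoid.mem_powers_iff _ ē).1 (mem_powers_iff_mem_zpowers.2 h)
      exact ⟨l, 1, by rw [hl, Fin.val_one, pow_one, mul_assoc, hτ2, mul_one]⟩
  have hQO : T.Q ≤ O := by
    obtain ⟨q, hq, hq1, hqi⟩ := T.exists_four
    obtain ⟨m1, m2⟩ := T.e3_moves hq hq1 hqi
    set c := q⁻¹ * (T.v 1 * q * (T.v 1)⁻¹) with hcdef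
    have hcQ : c ∈ T.Q := mul_mem (inv_mem hq) (T.e3_Q hq)
    have hc : mk ⟨c, hQA hcQ⟩ ∈ zpowers ē := by
      rw [show (⟨c, hQA hcQ⟩ : A) = (⟨q, hQA hq⟩⁻¹ * ⟨T.v 1, he3A⟩ * ⟨q, hQA hq⟩) * ⟨T.v 1, he3A⟩⁻¹ from
        Subtype.ext (by simp [hcdef, mul_assoc]), map_mul, map_mul, map_mul, map_inv, map_inv]
      have h := (inferInstance : (zpowers ē).Normal).conj_mem ē (mem_zpowers ē) (mk ⟨q, hQA hq⟩)⁻¹
      rw [inv_inv] at h
      exact mul_mem h (inv_mem (mem_zpowers ē))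
    have hc1 : mk ⟨c, hQA hcQ⟩ = 1 := by
      refine orderOf_eq_one_iff.1 (Nat.eq_one_of_dvd_coprimes (show Nat.Coprime 4 3 by norm_num) ?_ ?_)
      · refine orderOf_dvd_of_pow_eq_one ?_
        rw [← map_pow, show (⟨c, hQA hcQ⟩ : A) ^ 4 = 1 from Subtype.ext (by simpa using T.Q_four hcQ), map_one]
      · exact hord ▸ (Subgroup.orderOf_dvd_natCard (zpowers ē) hc).trans (Nat.card_zpowers ē).dvd
    refine T.Q_le_of_inv (hEO T.i_mem_E) (hOn _ he3A) hcQ ((hmk1 _).1 hc1) (fun e => m1 ?_) fun e => m2 ?_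
    · exact (inv_mul_eq_one.1 e).symm
    · exact inv_mul_eq_iff_eq_mul.1 e
  have hQ'O : T.Q' ≤ O := fun r hr => by
    have := hOn _ htA _ (hQO (T.mem_Q'.1 hr))
    rwa [T.t_inv, T.t_t] at this
  -- fixed points of the plane
  have hCx : ∀ x ∈ T.P, x ≠ 1 → ∀ g ∈ O, g * x = x * g → g ∈ T.E ∨ g ∈ T.Q ∨ g ∈ T.Q' := by
    intro x hx hx1 g hgO hgx
    have hgen' : ∀ c, x ∈ zpowers (T.v c) → g * T.v c = T.v c * g := by
      intro c hxc'
      have hox : orderOf x = 3 := orderOf_eq_prime (T.P_cube hx) hx1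
      have e : zpowers x = zpowers (T.v c) := eq_of_le_of_card_ge (zpowers_le.2 hxc') (by
        rw [Nat.card_zpowers, Nat.card_zpowers, hox]
        exact Nat.le_of_dvd (by norm_num) (orderOf_dvd_of_pow_eq_one (T.S.F.v_cube c)))
      obtain ⟨k, hk⟩ : T.v c ∈ zpowers x := e ▸ mem_zpowers _
      rw [← hk]; exact ((show Commute g x from hgx).zpow_right k).eq
    have hgi := (hOA hgO).1
    rcases T.P_cases hx with h | h | h | h
    · obtain ⟨k, e, he, rfl⟩ := hcent g (hOA hgO) (by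
        rw [hgen' 1 h, mul_inv_cancel_right, mul_inv_cancel]; exact one_mem _)
      have := h3pow (pow_mem T.e3_mem_P k) (by simpa using mul_mem hgO (inv_mem (hEO he)))
      rw [this, one_mul]; exact Or.inl he
    · obtain ⟨q, hq, k, l, rfl⟩ := T.cent_a (hgen' 13 h) hgi
      have := h3pow (mul_mem (pow_mem T.a_mem_P k) (pow_mem T.e3_mem_P l))
        (by simpa using mul_mem (inv_mem (hQO hq)) hgO)
      rw [this, mul_one]; exact Or.inr (Or.inl hq)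
    · obtain ⟨q, hq, k, l, rfl⟩ := T.cent_14 (hgen' 14 h) hgi
      have := h3pow (mul_mem (pow_mem (show T.v 14 ∈ T.P from T.v14_eq ▸ mul_mem T.a_mem_P T.e3_mem_P) k)
        (pow_mem (inv_mem T.e3_mem_P) l)) (by simpa using mul_mem (inv_mem (hQ'O hq)) hgO)
      rw [this, mul_one]; exact Or.inr (Or.inr hq)
    · obtain ⟨y, hy, m, hm, rfl⟩ := T.cent_12 (hgen' 12 h) hgi
      rcases hm with rfl | rfl | rfl | rfl
      · rw [mul_one] at hgO ⊢
        rw [h3pow hy hgO]; exact Or.inl (one_mem _)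
      · exact absurd (by rwa [mul_one]) (htO (Or.inl rfl) y hy)
      · exact absurd hgO (htO (Or.inr rfl) y hy)
      · rw [h3pow hy (by simpa using mul_mem hgO (inv_mem (hEO T.i_mem_E))), one_mul]
        exact Or.inl T.i_mem_E
  have hgenW : ∀ W : Subgroup G, T.E ≤ W → T.Q ≤ W → T.Q' ≤ W → O ≤ W := fun W hE hQ hQ' =>
    hgen W hE fun x hx hxc g hgO hgx => by
      rcases hCx x hx (fun e => hxc (e ▸ one_mem _)) g hgO hgx with h | h | h
      exacts [hE h, hQ h, hQ' h]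
  have hOcoset : ∀ g ∈ A, ∃ l : ℕ, ∃ m : Fin 2, ∃ o ∈ O, g = o * (T.v 1 ^ l * T.t ^ m.val) := fun g hg => by
    obtain ⟨l, m, hu⟩ := hrep (mk ⟨g, hg⟩)
    set y : A := ⟨T.v 1, he3A⟩ ^ l * ⟨T.t, htA⟩ ^ m.val with hy
    have h : mk (⟨g, hg⟩ * y⁻¹) = 1 := by
      rw [map_mul, map_inv, hu, hy, map_mul, map_pow, map_pow, ← hedef, ← hτdef, mul_inv_cancel]
    refine ⟨l, m, _, (hmk1 _).1 h, ?_⟩
    rw [show T.v 1 ^ l * T.t ^ m.val = (y : G) by simp [hy]]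
    simp
  refine ⟨O, hEO, hQO, hQ'O, hgenW, ?_, hOcoset⟩
  -- the preimage of the centre of the quotient is everything
  let Z : Subgroup G :=
    { carrier := {g | g ∈ O ∧ ∀ o ∈ O, g * o * g⁻¹ * o⁻¹ ∈ T.E}
      one_mem' := ⟨one_mem _, fun o _ => by simp [one_mem]⟩
      mul_mem' := by
        rintro x y ⟨hx, hxo⟩ ⟨hy, hyo⟩
        refine ⟨mul_mem hx hy, fun o ho => ?_⟩
        rw [show x * y * o * (x * y)⁻¹ * o⁻¹ = x * (y * o * y⁻¹ * o⁻¹) * x⁻¹ * (x * o * x⁻¹ * o⁻¹) by group]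
        exact mul_mem (hEn x (hOA hx) _ (hyo o ho)) (hxo o ho)
      inv_mem' := by
        rintro x ⟨hx, hxo⟩
        refine ⟨inv_mem hx, fun o ho => ?_⟩
        rw [show x⁻¹ * o * x⁻¹⁻¹ * o⁻¹ = x⁻¹ * (x * o * x⁻¹ * o⁻¹)⁻¹ * x⁻¹⁻¹ by group]
        exact hEn _ (hOA (inv_mem hx)) _ (inv_mem (hxo o ho)) }
  have hEZ : T.E ≤ Z := fun e he => ⟨hEO he, fun o ho => by
    rw [show e * o * e⁻¹ * o⁻¹ = e * (o * e⁻¹ * o⁻¹) by group]
    exact mul_mem he (hEn o (hOA ho) _ (inv_mem he))⟩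
  have hZinv : ∀ x : G, (∀ o ∈ O, x * o * x⁻¹ ∈ O) → (∀ e ∈ T.E, x * e * x⁻¹ ∈ T.E) → ∀ z ∈ Z, x * z * x⁻¹ ∈ Z := by
    intro x hxO hxE z hz
    refine ⟨hxO z hz.1, fun o ho => ?_⟩
    let f : O → O := fun o => ⟨x * o * x⁻¹, hxO o o.2⟩
    obtain ⟨⟨o', ho'⟩, he⟩ := Finite.surjective_of_injective (f := f)
      (fun b c e => Subtype.ext (by simpa [f] using congrArg Subtype.val e)) ⟨o, ho⟩
    rw [show o = x * o' * x⁻¹ from (congrArg Subtype.val he).symm,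
      show x * z * x⁻¹ * (x * o' * x⁻¹) * (x * z * x⁻¹)⁻¹ * (x * o' * x⁻¹)⁻¹ = x * (z * o' * z⁻¹ * o'⁻¹) * x⁻¹ by group]
    exact hxE _ (hz.2 o' ho')
  have hQne : ∃ q ∈ T.Q, q ∉ T.E := by
    obtain ⟨q, hq, hq1, hqi⟩ := T.exists_four
    exact ⟨q, hq, fun h => (T.E_meet_Q h hq).elim hq1 hqi⟩
  obtain ⟨g₀, hg₀O, hg₀E, hg₀⟩ := hZ fun e => by
    obtain ⟨q, hq, hqE⟩ := hQne
    exact hqE (e ▸ hQO hq)
  have hPO : ∀ x ∈ T.P, ∀ o ∈ O, x * o * x⁻¹ ∈ O := fun x hx => hnorm x (hp.hPL x hx) (hp.hPE x hx)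
  have hQZ : T.Q ≤ Z ∨ T.Q' ≤ Z := by
    by_contra hcon
    push Not at hcon
    obtain ⟨hQn, hQ'n⟩ := hcon
    have htZ : ∀ z ∈ Z, T.t * z * T.t ∈ Z := fun z hz => by
      have := hZinv T.t (hOn _ htA) (hEn _ htA) z hz
      rwa [T.t_inv] at this
    have hmeet : ∀ q ∈ T.Q, q ∈ Z → q ∈ T.E := fun q hq hqZ => by
      by_contra hqE
      exact hQn (T.Q_le_of_inv (hEZ T.i_mem_E) (fun w hw => hZinv _ (hPO _ T.e3_mem_P) (hp.hPE _ T.e3_mem_P) w hw)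
        hq hqZ (fun e => hqE (e ▸ one_mem _)) fun e => hqE (e ▸ T.i_mem_E))
    haveI : IsMulCommutative T.P := ⟨⟨fun a b => Subtype.ext (T.P_comm a.2 b.2)⟩⟩
    have hnc : ¬ IsCyclic T.P := fun hcyc => by
      obtain ⟨w, hw⟩ := hcyc.exists_generator
      have h1 : orderOf w = 9 := by rw [orderOf_eq_card_of_forall_mem_zpowers hw]; exact T.P_card
      have h2 : orderOf w ∣ 3 := orderOf_dvd_of_pow_eq_one (Subtype.ext (by simpa using T.P_cube w.2))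
      rw [h1] at h2
      exact absurd h2 (by decide)
    have hPZ : T.P ≤ normalizer (Z : Set G) := fun x hx =>
      Fusion.le_normalizer_of_conj_mem (hZinv x (hPO x hx) (hp.hPE x hx))
    have hcop : (Nat.card T.P).Coprime (Nat.card Z) := by
      rw [T.P_card, show (9 : ℕ) = 3 ^ 2 by rfl]
      refine Nat.Coprime.pow_left 2 ((Nat.Prime.coprime_iff_not_dvd Nat.prime_three).2 fun hd => ?_)
      obtain ⟨z, hz⟩ := exists_prime_orderOf_dvd_card' 3 hd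
      have h3 : (z : G) ^ 3 = 1 := by
        have := congrArg Subtype.val (pow_orderOf_eq_one z)
        rwa [hz] at this
      have := h1 z z.2.1 h3
      rw [← Subgroup.orderOf_coe, this, orderOf_one] at hz
      exact absurd hz (by norm_num)
    have hle : Z ≤ T.E := (Coprime.le_iSup_centralizer_of_not_isCyclic hnc hPZ hcop).trans (iSup_le fun a => by
      rintro g ⟨hgZ, hga⟩
      rcases hCx a a.2.1 a.2.2 g hgZ.1 (mem_centralizer_singleton_iff.1 hga) with h | h | h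
      · exact h
      · exact hmeet g h hgZ
      · have := hmeet _ (T.mem_Q'.1 h) (htZ g hgZ)
        rw [← T.t_t g, ← T.E_comm_t this, mul_assoc, T.t_sq, mul_one]
        exact this)
    exact hg₀E (hle ⟨hg₀O, hg₀⟩)
  have htZ' : ∀ z ∈ Z, T.t * z * T.t ∈ Z := fun z hz => by
    have := hZinv T.t (hOn _ htA) (hEn _ htA) z hz
    rwa [T.t_inv] at this
  have hboth : T.Q ≤ Z ∧ T.Q' ≤ Z := by
    rcases hQZ with h | h
    · exact ⟨h, fun r hr => by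
        have := htZ' _ (h (T.mem_Q'.1 hr))
        rwa [T.t_t] at this⟩
    · exact ⟨fun q hq => by
        have := htZ' _ (h (T.t_Q hq))
        rwa [T.t_t] at this, h⟩
  exact fun x hx => (hgenW Z hEZ hboth.1 hboth.2 hx).2

/-- The two quaternion groups commute. -/
theorem Q_comm_Q' {q r : G} (hq : q ∈ T.Q) (hr : r ∈ T.Q') : q * r = r * q := by
  obtain ⟨O, -, hQO, hQ'O, -, hab, -⟩ := T.exists_core_E
  by_cases hq0 : q = 1 ∨ q = T.i
  · rcases hq0 with rfl | rfl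
    · rw [one_mul, mul_one]
    · exact (T.Q'_comm_i hr).symm
  push Not at hq0
  obtain ⟨hq1, hqi⟩ := hq0
  set q' := T.t * q * T.t with hq'
  have hq'Q : q' ∈ T.Q' := T.t_Q hq
  set c := q * q' * q⁻¹ * q'⁻¹ with hc
  have hct : q * q' * T.t * (q * q')⁻¹ = c * T.t := by
    rw [hc, hq', T.t_mul_inv, mul_inv_rev, T.t_mul_inv]
    calc q * (T.t * q * T.t) * T.t * (T.t * q⁻¹ * T.t * q⁻¹)
        = q * (T.t * q * T.t) * (T.t * T.t) * q⁻¹ * T.t * q⁻¹ := by group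
      _ = q * (T.t * q * T.t) * q⁻¹ * T.t * q⁻¹ * (T.t * T.t) := by rw [T.t_sq, mul_one, mul_one]
      _ = q * (T.t * q * T.t) * q⁻¹ * (T.t * q⁻¹ * T.t) * T.t := by group
  have hc1 : c = 1 ∨ c = T.i := by
    obtain ⟨σ, hσ, hσc⟩ := hab q (hQO hq) q' (hQ'O hq'Q)
    by_contra hcon
    push Not at hcon
    obtain ⟨s, hs, hσs⟩ := e_class_facts.2.1 σ hσ (fun e => hcon.1 (by rw [hc, ← hσc, e, map_one]))
      (fun e => hcon.2 (by rw [hc, ← hσc, e, T.i_eq]))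
    rw [hc, ← hσc] at hct
    rcases hσs with e | e <;> subst e
    · exact ne_of_conj T.t_not_z ⟨_, hct⟩ (T.st_conj_z hs) rfl
    · rw [map_mul, ← T.i_eq] at hct
      exact ne_of_conj T.t_not_inv ⟨_, hct⟩ (T.sit_conj_inv hs) rfl
  -- the conjugates by the central element
  set r' := T.v 13 * q' * (T.v 13)⁻¹ with hr'
  have hr'e : T.t * (T.v 1 * q * (T.v 1)⁻¹) * T.t = r' := T.e3_conj_t_Q hq
  have hqa : Commute q (T.v 13) := T.Q_comm_a hq
  have hcr : q * r' * q⁻¹ * r'⁻¹ = c := by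
    have hca : Commute (T.v 13) c := by
      rcases hc1 with e | e <;> rw [e]
      exacts [Commute.one_right _, T.a_comm_i]
    calc q * r' * q⁻¹ * r'⁻¹ = (q * T.v 13) * q' * ((T.v 13)⁻¹ * q⁻¹) * T.v 13 * q'⁻¹ * (T.v 13)⁻¹ := by
          rw [hr']; group
      _ = (T.v 13 * q) * q' * (q⁻¹ * (T.v 13)⁻¹) * T.v 13 * q'⁻¹ * (T.v 13)⁻¹ := by
          rw [hqa.eq, hqa.inv_inv.eq]
      _ = T.v 13 * c * (T.v 13)⁻¹ := by rw [hc]; group
      _ = c := by rw [hca.eq, mul_inv_cancel_right]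
  set W : Subgroup G := (centralizer ({q} : Set G) ⊓ T.Q').comap (MulAut.conj T.t).toMonoidHom with hW
  have hmemW : ∀ {x : G}, x ∈ W ↔ T.t * x * T.t * q = q * (T.t * x * T.t) ∧ T.t * x * T.t ∈ T.Q' := fun {x} => by
    rw [hW, mem_comap, MulEquiv.coe_toMonoidHom, MulAut.conj_apply, T.t_inv, mem_inf, mem_centralizer_singleton_iff]
  have hiW : T.i ∈ W := hmemW.2 (by
    rw [T.t_i_t]
    exact ⟨(T.Q_comm_i hq).symm, T.i_mem_Q'⟩)
  have hWe : ∀ x ∈ W, T.v 1 * x * (T.v 1)⁻¹ ∈ W := fun x hx => by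
    obtain ⟨hx1, hx2⟩ := hmemW.1 hx
    have hxQ : x ∈ T.Q := by
      have := T.mem_Q'.1 hx2
      rwa [T.t_t] at this
    refine hmemW.2 ⟨?_, T.t_Q (T.e3_Q hxQ)⟩
    rw [T.e3_conj_t_Q hxQ]
    exact ((hqa.symm.mul_left (show Commute (T.t * x * T.t) q from hx1)).mul_left hqa.symm.inv_left).eq
  have hwW : q⁻¹ * (T.v 1 * q * (T.v 1)⁻¹) ∈ W := by
    have e : T.t * (q⁻¹ * (T.v 1 * q * (T.v 1)⁻¹)) * T.t = q'⁻¹ * r' := by
      rw [← T.t_conj_mul, hr'e, ← T.t_mul_inv]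
    refine hmemW.2 ⟨?_, e ▸ mul_mem (inv_mem hq'Q) (hr'e ▸ T.t_Q (T.e3_Q hq))⟩
    rw [e]
    calc q'⁻¹ * r' * q = q'⁻¹ * (q * r' * q⁻¹ * r'⁻¹)⁻¹ * q * r' := by group
      _ = q'⁻¹ * (q * q' * q⁻¹ * q'⁻¹)⁻¹ * q * r' := by rw [hcr, hc]
      _ = q * (q'⁻¹ * r') := by group
  have hne : q⁻¹ * (T.v 1 * q * (T.v 1)⁻¹) ≠ 1 ∧ q⁻¹ * (T.v 1 * q * (T.v 1)⁻¹) ≠ T.i := by
    obtain ⟨m1, m2⟩ := T.e3_moves hq hq1 hqi
    exact ⟨fun e => m1 (inv_mul_eq_one.1 e).symm, fun e => m2 (inv_mul_eq_iff_eq_mul.1 e)⟩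
  have h := (hmemW.1 (T.Q_le_of_inv hiW hWe (mul_mem (inv_mem hq) (T.e3_Q hq)) hwW hne.1 hne.2 (T.mem_Q'.1 hr))).1
  rw [T.t_t] at h
  exact h.symm

/-- The product of the elementary group and the two quaternion groups. -/
noncomputable def O : Subgroup G where
  carrier := {g | ∃ e ∈ T.E, ∃ q ∈ T.Q, ∃ r ∈ T.Q', g = e * q * r}
  one_mem' := ⟨1, one_mem _, 1, one_mem _, 1, one_mem _, by group⟩
  mul_mem' := by
    rintro _ _ ⟨e, he, q, hq, r, hr, rfl⟩ ⟨e', he', q', hq', r', hr', rfl⟩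
    refine ⟨e * e', mul_mem he he', q * q', mul_mem hq hq', r * r', mul_mem hr hr', ?_⟩
    have h1 : Commute r e' := T.Q'_comm_E hr he'
    have h2 : Commute q e' := T.Q_comm_E q hq e' he'
    have h3 : Commute q' r := T.Q_comm_Q' hq' hr
    calc e * q * r * (e' * q' * r') = e * (q * (r * e')) * q' * r' := by group
      _ = e * (q * e') * r * q' * r' := by rw [h1.eq]; group
      _ = e * e' * q * (r * q') * r' := by rw [h2.eq]; group
      _ = _ := by rw [← h3.eq]; group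
  inv_mem' := by
    rintro _ ⟨e, he, q, hq, r, hr, rfl⟩
    refine ⟨e⁻¹, inv_mem he, q⁻¹, inv_mem hq, r⁻¹, inv_mem hr, ?_⟩
    have h1 : Commute r e := T.Q'_comm_E hr he
    have h2 : Commute q e := T.Q_comm_E q hq e he
    have h3 : Commute q r := T.Q_comm_Q' hq hr
    calc (e * q * r)⁻¹ = (r⁻¹ * q⁻¹) * e⁻¹ := by group
      _ = e⁻¹ * (r⁻¹ * q⁻¹) := ((h1.inv_inv).mul_left h2.inv_inv).eq
      _ = e⁻¹ * q⁻¹ * r⁻¹ := by rw [← h3.inv_inv.eq, mul_assoc]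

theorem mem_O {g : G} : g ∈ T.O ↔ ∃ e ∈ T.E, ∃ q ∈ T.Q, ∃ r ∈ T.Q', g = e * q * r := Iff.rfl

theorem E_le_O : T.E ≤ T.O := fun e he => ⟨e, he, 1, one_mem _, 1, one_mem _, by group⟩

theorem Q_le_O : T.Q ≤ T.O := fun q hq => ⟨1, one_mem _, q, hq, 1, one_mem _, by group⟩

theorem Q'_le_O : T.Q' ≤ T.O := fun r hr => ⟨1, one_mem _, 1, one_mem _, r, hr, by group⟩

/-- The centralizer of the elementary group modulo the swap. -/
theorem modC_E_form {g : G} (hg : g ∈ T.modC T.E) :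
    ∃ l : ℕ, ∃ m : Fin 2, ∃ o ∈ T.O, g = o * (T.v 1 ^ l * T.t ^ m.val) := by
  obtain ⟨O, -, -, -, hgen, -, hco⟩ := T.exists_core_E
  obtain ⟨l, m, o, ho, e⟩ := hco g hg
  exact ⟨l, m, o, hgen T.O T.E_le_O T.Q_le_O T.Q'_le_O ho, e⟩

theorem O_comm_E {o e : G} (ho : o ∈ T.O) (he : e ∈ T.E) : o * e = e * o := by
  obtain ⟨e', he', q, hq, r, hr, rfl⟩ := ho
  exact (((show Commute e' e from T.E_comm he' he).mul_left (T.Q_comm_E q hq e he)).mul_left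
    (T.Q'_comm_E hr he)).eq

/-- Elements centralising the elementary group modulo the swap centralise it. -/
theorem modC_E_comm {g e : G} (hg : g ∈ T.modC T.E) (he : e ∈ T.E) : g * e = e * g := by
  obtain ⟨l, m, o, ho, rfl⟩ := T.modC_E_form hg
  exact ((show Commute o e from T.O_comm_E ho he).mul_left
    (((show Commute e (T.v 1) from T.E_comm_e3 he).symm.pow_left l).mul_left
      ((show Commute e T.t from T.E_comm_t he).symm.pow_left m.val))).eq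

end SData

end Cfsg.Lib.PSpThree
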