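import Cfsg.Agent.Lib.PSpThree.SixQMem

/-!
# A split axis centralizer: no elements of odd order centralise the core

An element of odd order centralising the swap, the pair and both quaternion groups is trivial: the centralizer of
one quaternion group modulo the swap is a two group extended by the central element.
-/

set_option autoImplicit false
set_option maxHeartbeats 1600000
set_option maxRecDepth 100000
set_option linter.unusedSectionVars false
set_option linter.style.haveILetI false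
set_option synthInstance.maxSize 5000

namespace Cfsg.Lib.PSpThree

open Subgroup Cfsg.Lib.SymNine Equiv

theorem qcent_facts :
    (∀ σ : Perm (Fin 6), σ * SixP.t0 = SixP.t0 * σ →
      ∃ ε : Perm (Fin 6), InE ε ∧ ∃ k : Fin 3, σ = ε * (SixP.a0 * SixP.b0) ^ k.val ∨
        σ = ε * (swap 0 1 * swap 3 4) * (SixP.a0 * SixP.b0) ^ k.val) ∧
    (swap 0 1 * swap 3 4 : Perm (Fin 6)) * (SixP.a0 * SixP.b0) * (swap 0 1 * swap 3 4)⁻¹ = (SixP.a0 * SixP.b0)⁻¹ ∧
    (∀ ε : Perm (Fin 6), InE ε → ∀ k : Fin 3, k = 0 ∨ (ε * (SixP.a0 * SixP.b0) ^ k.val) ^ 3 = 1 ∨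
      (ε * (SixP.a0 * SixP.b0) ^ k.val) ^ 3 = SixP.t0) ∧
    (∀ k : Fin 3, (SixP.a0 * SixP.b0) ^ k.val * (swap 0 3 * swap 1 4) =
      swap 0 3 * swap 1 4 * (SixP.a0 * SixP.b0) ^ k.val → k = 0) ∧
    InE (swap 0 3 * swap 1 4) := by
  refine ⟨?_, ?_, ?_, ?_, ?_⟩ <;> decide +kernel

namespace SData

variable {G : Type*} [Group G] [Finite G] (T : SData G)

theorem a_mem_modC_Q : T.v 13 ∈ T.modC T.Q :=
  ⟨T.P_comm_i T.a_mem_P, fun q hq => Or.inl (by rw [← T.Q_comm_a hq, mul_inv_cancel_right, mul_inv_cancel])⟩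

theorem e3_not_modC_Q {l : ℕ} (h : T.v 1 ^ l ∈ T.modC T.Q) : T.v 1 ^ l = 1 := by
  by_contra hne
  have h3 : orderOf (T.v 1 ^ l) = 3 := orderOf_eq_prime (T.P_cube (pow_mem T.e3_mem_P l)) hne
  have e : zpowers (T.v 1 ^ l) = zpowers (T.v 1) :=
    eq_of_le_of_card_ge (zpowers_le.2 ⟨l, zpow_natCast _ _⟩) (by
      rw [Nat.card_zpowers, Nat.card_zpowers, h3]
      exact Nat.le_of_dvd (by norm_num) (orderOf_dvd_of_pow_eq_one (T.S.F.v_cube 1)))
  have he3 : T.v 1 ∈ T.modC T.Q := zpowers_le.2 h (e ▸ mem_zpowers (T.v 1))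
  obtain ⟨q, hq, h1, hi⟩ := T.exists_four
  obtain ⟨m1, m2⟩ := T.e3_moves hq h1 hi
  rcases he3.2 q hq with e' | e'
  · exact m1 (mul_inv_eq_one.1 e')
  · exact m2 ((mul_inv_eq_iff_eq_mul.1 e').trans (T.Q_comm_i hq).symm)

theorem flip_not_modC_Q {g : G} (hg : g ∈ T.modC T.Q)
    (h : g * T.v 13 * g⁻¹ = T.v 14 ∨ g * T.v 13 * g⁻¹ = (T.v 14)⁻¹) : False := by
  obtain ⟨q, hq, h1, hi⟩ := T.exists_four
  set r := g * q * g⁻¹ with hr
  have hr' : r = q ∨ r = T.i * q := by
    rcases hg.2 q hq with e | e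
    · exact Or.inl (mul_inv_eq_one.1 e)
    · exact Or.inr (mul_inv_eq_iff_eq_mul.1 e)
  have hc : Commute r (T.v 14) := by
    have h0 : Commute r (g * T.v 13 * g⁻¹) := by
      show g * q * g⁻¹ * (g * T.v 13 * g⁻¹) = g * T.v 13 * g⁻¹ * (g * q * g⁻¹)
      rw [show g * q * g⁻¹ * (g * T.v 13 * g⁻¹) = g * (q * T.v 13) * g⁻¹ by group, T.Q_comm_a hq]
      group
    rcases h with e | e <;> rw [e] at h0
    · exact h0
    · exact Commute.inv_right_iff.1 h0
  have hq14 : Commute q (T.v 14) := by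
    rcases hr' with e | e <;> rw [e] at hc
    · exact hc
    · have h2 := (show Commute T.i⁻¹ (T.v 14) from
        (show Commute (T.v 14) T.i from T.v_comm_i.2 plane_i_facts.2.2.1).symm.inv_left).mul_left hc
      rwa [inv_mul_cancel_left] at h2
  have h3 := (show Commute q (T.v 13) from T.Q_comm_a hq).inv_right.mul_right hq14
  rw [T.v14_eq, inv_mul_cancel_left] at h3
  exact (T.e3_moves hq h1 hi).1 (by rw [← h3.eq, mul_inv_cancel_right])

/-- The centralizer of the core and the pair has no elements of odd order. -/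
theorem odd_cent {y : G} (hyi : y * T.i = T.i * y) (hyQ : ∀ q ∈ T.Q, y * q = q * y)
    (hyz : y * T.φ (swap 0 3 * swap 1 4) = T.φ (swap 0 3 * swap 1 4) * y) {n : ℕ} (hn : Odd n)
    (hyn : y ^ n = 1) : y = 1 := by
  classical
  obtain ⟨f1, hf, f2, f3, f4⟩ := qcent_facts
  set A := T.modC T.Q with hA
  have hyA : y ∈ A := ⟨hyi, fun q hq => Or.inl (by rw [hyQ q hq, mul_inv_cancel_right, mul_inv_cancel])⟩
  have haA := T.a_mem_modC_Q
  have hiQ : ∀ {x : G}, x = 1 ∨ x = T.i → x ∈ T.Q := fun {x} hx =>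
    hx.elim (fun e => e ▸ one_mem _) fun e => e ▸ T.i_mem_Q
  have hEn : ∀ l ∈ A, ∀ q ∈ T.Q, l * q * l⁻¹ ∈ T.Q := fun l hl q hq => by
    rw [show l * q * l⁻¹ = l * q * l⁻¹ * q⁻¹ * q by group]
    exact mul_mem (hiQ (hl.2 q hq)) hq
  have ha1 : T.v 13 ≠ 1 := fun e => absurd (T.S.F.v_eq_one.1 e) (by decide)
  have hcent : ∀ g ∈ A, g * T.v 13 * g⁻¹ * (T.v 13)⁻¹ ∈ T.Q → ∃ k : ℕ, ∃ q ∈ T.Q, g = T.v 13 ^ k * q := by
    intro g hg hc
    set ε := g * T.v 13 * g⁻¹ * (T.v 13)⁻¹ with hε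
    have h3 : (ε * T.v 13) ^ 3 = 1 := by
      rw [show ε * T.v 13 = g * T.v 13 * g⁻¹ by rw [hε]; group, conj_pow, T.P_cube T.a_mem_P]
      group
    rw [(show Commute ε (T.v 13) from T.Q_comm_a hc).mul_pow, T.P_cube T.a_mem_P, mul_one] at h3
    have hε1 : ε = 1 := by
      have h4 := T.Q_four hc
      rwa [pow_succ, h3, one_mul] at h4
    obtain ⟨q, hq, k, l, rfl⟩ := T.cent_a (mul_inv_eq_iff_eq_mul.1 (mul_inv_eq_one.1 hε1)) hg.1
    have hl : T.v 1 ^ l = 1 := T.e3_not_modC_Q (by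
      have := mul_mem (inv_mem (pow_mem haA k)) (mul_mem (inv_mem (T.Q_modC hq)) hg)
      simpa [mul_assoc] using this)
    exact ⟨k, q, hq, by rw [hl, mul_one, ((show Commute q (T.v 13) from T.Q_comm_a hq).pow_right k).eq]⟩
  have hp := T.pairAct (A := T.Q) (E₀ := T.Q) (c := T.v 13) (fun x hx a ha => T.P_Q hx ha)
    (fun x hx e he => T.P_Q hx he) T.Q_modC hEn T.Q_card T.a_mem_P ha1 haA hcent
  obtain ⟨O, hQO, hOA, hnorm, hidx, hO3, -, hgen⟩ := hp.exists_core
  have h1O : ∀ g ∈ O, g ^ 3 = 1 → g ∈ T.Q := fun g hg h => hO3 g hg (by rw [h]; exact one_mem _)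
  have hPO : ∀ {x : G}, x ∈ T.P → x ∈ O → x = 1 := fun {x} hx hxO => by
    have h4 := T.Q_four (h1O x hxO (T.P_cube hx))
    rwa [pow_succ, T.P_cube hx, one_mul] at h4
  -- the centralizers of the other elements of the plane lie in the core
  have hOle : O ≤ T.O := hgen T.O T.Q_le_O fun x hx hxc g hgO hgx => by
    have hgA := hOA hgO
    have hgi : g * T.i = T.i * g := T.modC_comm_i hgA
    have hx1 : x ≠ 1 := fun e => hxc (e ▸ one_mem _)
    have hgen' : ∀ c, x ∈ zpowers (T.v c) → g * T.v c = T.v c * g := by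
      intro c hxc'
      have hox : orderOf x = 3 := orderOf_eq_prime (T.P_cube hx) hx1
      have e : zpowers x = zpowers (T.v c) := eq_of_le_of_card_ge (zpowers_le.2 hxc') (by
        rw [Nat.card_zpowers, Nat.card_zpowers, hox]
        exact Nat.le_of_dvd (by norm_num) (orderOf_dvd_of_pow_eq_one (T.S.F.v_cube c)))
      obtain ⟨k, hk⟩ : T.v c ∈ zpowers x := e ▸ mem_zpowers _
      rw [← hk]; exact ((show Commute g x from hgx).zpow_right k).eq
    rcases T.P_cases hx with h | h | h | h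
    · obtain ⟨l, σ, hσ, rfl⟩ := T.cent_e3 (hgen' 1 h) hgi
      obtain ⟨ε, hε, k, hσ'⟩ := f1 σ hσ
      set b := T.φ (SixP.a0 * SixP.b0) with hb
      have hεA : T.φ ε ∈ A := ⟨T.E_comm_i (T.φ_mem_E hε), fun q hq => Or.inl (by
        rw [← T.Q_comm_E q hq _ (T.φ_mem_E hε), mul_inv_cancel_right, mul_inv_cancel])⟩
      have hbv : Commute b (T.v 1) := T.φ_comm_e3 _
      rcases hσ' with rfl | rfl
      rotate_left
      · set ρ : Perm (Fin 6) := swap 0 1 * swap 3 4 with hρ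
        have hc : ∀ π : Perm (Fin 6), ∀ n : ℕ, Commute (T.φ π) (T.v 1 ^ n) := fun π n =>
          (show Commute (T.φ π) (T.v 1) from T.φ_comm_e3 π).pow_right n
        have hk3 : T.v 13 ^ k.val = b ^ k.val * T.v 1 ^ k.val := by rw [T.a_split, ← hb, hbv.mul_pow]
        have hgA' : T.v 1 ^ (l + 2 * k.val) * T.φ ρ ∈ A := by
          have h0 := mul_mem (mul_mem (inv_mem hεA) hgA) (inv_mem (pow_mem haA k.val))
          have hcube : (T.v 1 ^ k.val)⁻¹ = T.v 1 ^ (2 * k.val) := inv_eq_of_mul_eq_one_left (by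
            rw [← pow_add, show 2 * k.val + k.val = 3 * k.val by ring, pow_mul,
              show T.v 1 ^ 3 = 1 from T.S.F.v_cube 1, one_pow])
          have e : T.v 1 ^ (l + 2 * k.val) * T.φ ρ =
              (T.φ ε)⁻¹ * (T.v 1 ^ l * T.φ (ε * ρ * (SixP.a0 * SixP.b0) ^ k.val)) * (T.v 13 ^ k.val)⁻¹ := by
            rw [hk3, mul_inv_rev, hcube, show T.φ (ε * ρ * (SixP.a0 * SixP.b0) ^ k.val) = T.φ ε * T.φ ρ * b ^ k.val by
              rw [hb, ← map_pow, ← map_mul, ← map_mul], pow_add]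
            calc T.v 1 ^ l * T.v 1 ^ (2 * k.val) * T.φ ρ
                = T.v 1 ^ l * (T.φ ρ * T.v 1 ^ (2 * k.val)) := by rw [(hc ρ (2 * k.val)).eq]; group
              _ = (T.φ ε)⁻¹ * (T.φ ε * T.v 1 ^ l) * (T.φ ρ *
                    (b ^ k.val * T.v 1 ^ (2 * k.val) * (b ^ k.val)⁻¹)) := by
                rw [(hbv.pow_pow k.val (2 * k.val)).eq, mul_inv_cancel_right, inv_mul_cancel_left]
              _ = _ := by rw [(hc ε l).eq]; group
          rw [e]; exact h0
        refine (T.flip_not_modC_Q hgA' (Or.inr ?_)).elim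
        have hcρ : Commute (T.φ ρ) (T.v 1) := T.φ_comm_e3 ρ
        have hcb : Commute (T.v 1 ^ (l + 2 * k.val)) (T.φ (SixP.a0 * SixP.b0)⁻¹) := (hc _ _).symm
        calc T.v 1 ^ (l + 2 * k.val) * T.φ ρ * T.v 13 * (T.v 1 ^ (l + 2 * k.val) * T.φ ρ)⁻¹
            = T.v 1 ^ (l + 2 * k.val) * (T.φ ρ * T.φ (SixP.a0 * SixP.b0) * (T.φ ρ)⁻¹ *
                (T.φ ρ * T.v 1 * (T.φ ρ)⁻¹)) * (T.v 1 ^ (l + 2 * k.val))⁻¹ := by rw [T.a_split]; group
          _ = T.v 1 ^ (l + 2 * k.val) * (T.φ (SixP.a0 * SixP.b0)⁻¹ * T.v 1) * (T.v 1 ^ (l + 2 * k.val))⁻¹ := by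
            rw [hcρ.eq, mul_inv_cancel_right, ← map_inv T.φ ρ, ← map_mul, ← map_mul, hf]
          _ = T.φ (SixP.a0 * SixP.b0)⁻¹ * T.v 1 := by
            rw [← mul_assoc, hcb.eq]; group
          _ = (T.v 14)⁻¹ := by
            have h2 : T.v 1 = (T.v 1 * T.v 1)⁻¹ := eq_inv_of_mul_eq_one_left (by
              rw [← mul_assoc, ← pow_two, ← pow_succ]; exact T.S.F.v_cube 1)
            rw [T.v14_eq, T.a_split, map_inv, mul_assoc, mul_inv_rev, ← (hbv.mul_right hbv).inv_inv.eq, ← h2]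
      ·
        have hg0 : T.v 1 ^ l * T.φ (ε * (SixP.a0 * SixP.b0) ^ k.val) =
            T.φ ε * T.v 13 ^ k.val * T.v 1 ^ (l + 2 * k.val) := by
          rw [T.a_split, ← hb, hbv.mul_pow, mul_assoc (T.φ ε), mul_assoc (b ^ k.val), ← pow_add,
            show k.val + (l + 2 * k.val) = l + 3 * k.val by ring, pow_add _ l, pow_mul (T.v 1) 3,
            show T.v 1 ^ 3 = 1 from T.S.F.v_cube 1, one_pow, mul_one, ← mul_assoc, hb, ← map_pow, ← map_mul]
          exact (((show Commute (T.φ _) (T.v 1) from T.φ_comm_e3 _).pow_right l).symm).eq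
        have hl : T.v 1 ^ (l + 2 * k.val) = 1 := T.e3_not_modC_Q (by
          have := mul_mem (inv_mem (mul_mem hεA (pow_mem haA k.val))) hgA
          rwa [hg0, inv_mul_cancel_left] at this)
        rcases f2 ε hε k with rfl | e
        · rw [hg0, hl, Fin.val_zero, pow_zero, mul_one, mul_one]
          exact T.E_le_O (T.φ_mem_E hε)
        · refine T.Q_le_O (hO3 _ hgO ?_)
          rw [((show Commute (T.φ _) (T.v 1) from T.φ_comm_e3 _).pow_right l).symm.mul_pow, ← pow_mul,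
            mul_comm l 3, pow_mul, show T.v 1 ^ 3 = 1 from T.S.F.v_cube 1, one_pow, one_mul, ← map_pow]
          rcases e with e | e <;> rw [e]
          · rw [map_one]; exact one_mem _
          · rw [← T.i_eq]; exact T.i_mem_Q
    · exact absurd (by
        have hox : orderOf x = 3 := orderOf_eq_prime (T.P_cube hx) hx1
        exact h) hxc
    · obtain ⟨r, hr, k, l, rfl⟩ := T.cent_14 (hgen' 14 h) hgi
      have hrA : r ∈ A := ⟨T.Q'_comm_i hr, fun q hq => Or.inl (by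
        rw [← T.Q_comm_Q' hq hr, mul_inv_cancel_right, mul_inv_cancel])⟩
      have e : r * (T.v 14 ^ k * (T.v 1)⁻¹ ^ l) = r * T.v 13 ^ k * T.v 1 ^ (k + 2 * l) := by
        have h2 : (T.v 1)⁻¹ = T.v 1 ^ 2 :=
          inv_eq_of_mul_eq_one_left (by rw [← pow_succ]; exact T.S.F.v_cube 1)
        rw [T.v14_eq, (show Commute (T.v 13) (T.v 1) from T.v_comm 13 1).mul_pow, h2, ← pow_mul, pow_add,
          mul_assoc, mul_assoc]
      have hl : T.v 1 ^ (k + 2 * l) = 1 := T.e3_not_modC_Q (by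
        have := mul_mem (inv_mem (mul_mem hrA (pow_mem haA k))) hgA
        rwa [e, inv_mul_cancel_left] at this)
      rw [e, hl, mul_one] at hgO ⊢
      -- the cube lies in the centre
      by_cases hk : T.v 13 ^ k = 1
      · rw [hk, mul_one]; exact T.Q'_le_O hr
      refine T.Q_le_O (hO3 _ hgO (hiQ ?_))
      have h14 : Commute r (T.v 14) := T.Q'_comm_14 hr
      have hq : T.t * r * T.t ∈ T.Q := T.mem_Q'.1 hr
      set q := T.t * r * T.t with hqd
      have hak : T.v 13 ^ k = T.v 14 ^ k * (T.v 1 ^ k)⁻¹ := by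
        rw [T.v14_eq, (show Commute (T.v 13) (T.v 1) from T.v_comm 13 1).mul_pow, mul_inv_cancel_right]
      have hcube : (r * T.v 13 ^ k) ^ 3 = T.t * (q * T.v 1 ^ k) ^ 3 * T.t := by
        have hrt : T.t * q * T.t = r := T.t_t r
        have hvt : T.t * T.v 1 ^ k * T.t = (T.v 1 ^ k)⁻¹ := by
          have := conj_pow (i := k) (a := T.t) (b := T.v 1)
          rw [T.t_inv, T.t_e3, inv_pow] at this
          exact this.symm
        have e1 : T.t * (q * T.v 1 ^ k) * T.t = r * (T.v 1 ^ k)⁻¹ := by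
          rw [← T.t_conj_mul, hrt, hvt]
        have hc14 : Commute (T.v 14 ^ k) (r * (T.v 1 ^ k)⁻¹) :=
          (h14.symm.mul_right ((show Commute (T.v 14) (T.v 1) from T.v_comm 14 1).pow_right k).inv_right).pow_left k
        rw [hak, ← mul_assoc, ← ((h14.pow_right k).symm).eq, mul_assoc, hc14.mul_pow, ← pow_mul, mul_comm k 3,
          pow_mul, show T.v 14 ^ 3 = 1 from T.S.F.v_cube 14, one_pow, one_mul, ← e1]
        have := conj_pow (i := 3) (a := T.t) (b := q * T.v 1 ^ k)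
        rwa [T.t_inv] at this
      rw [hcube]
      by_cases hq0 : q = 1 ∨ q = T.i
      · have hc : Commute q (T.v 1 ^ k) := by
          rcases hq0 with e | e <;> rw [e]
          · exact Commute.one_left _
          · exact (show Commute (T.v 1) T.i from T.e3_comm_i).symm.pow_right k
        rw [hc.mul_pow, ← pow_mul, mul_comm k 3, pow_mul, show T.v 1 ^ 3 = 1 from T.S.F.v_cube 1, one_pow, mul_one]
        rcases hq0 with e | e <;> rw [e]
        · left; rw [one_pow, mul_one, T.t_sq]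
        · right; rw [pow_succ, pow_two, T.i_sq, one_mul, T.t_i_t]
      push Not at hq0
      obtain ⟨j, hj, hprod⟩ := T.Q_prod hq hq0.1 hq0.2
      set e1 := T.v 1 * q * (T.v 1)⁻¹ with he1
      set e2 := T.v 1 * e1 * (T.v 1)⁻¹ with he2
      have hv3 : T.v 1 * T.v 1 * T.v 1 = 1 := by rw [← pow_two, ← pow_succ]; exact T.S.F.v_cube 1
      have hjc : ∀ w ∈ T.Q, Commute j w := fun w hw => by
        rcases hj with rfl | rfl
        · exact Commute.one_left _
        · exact (T.Q_comm_i hw).symm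
      have he2Q : e2 ∈ T.Q := T.e3_Q (T.e3_Q hq)
      have he1Q : e1 ∈ T.Q := T.e3_Q hq
      have he1ne : e1 ≠ 1 ∧ e1 ≠ T.i := ⟨fun e => hq0.1 (conj_eq_one_iff.1 e), fun e => hq0.2 (by
        rw [show q = (T.v 1)⁻¹ * e1 * T.v 1 by rw [he1]; group, e, mul_assoc, ← T.e3_comm_i, inv_mul_cancel_left])⟩
      have he2sq : e2 * e2 = T.i := T.Q_sq he2Q
        (fun e => he1ne.1 (conj_eq_one_iff.1 e)) (fun e => he1ne.2 (by
        rw [show e1 = (T.v 1)⁻¹ * e2 * T.v 1 by rw [he2]; group, e, mul_assoc, ← T.e3_comm_i, inv_mul_cancel_left]))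
      have hk3 : T.v 1 ^ k = T.v 1 ∨ T.v 1 ^ k = T.v 1 * T.v 1 := by
        have h0 : k % 3 ≠ 0 := fun h0 => hk (by
          rw [← Nat.div_add_mod k 3, h0, add_zero, pow_mul, T.P_cube T.a_mem_P, one_pow])
        rcases (by omega : k % 3 = 1 ∨ k % 3 = 2) with e | e <;>
          rw [← Nat.div_add_mod k 3, e, pow_add, pow_mul, show T.v 1 ^ 3 = 1 from T.S.F.v_cube 1, one_pow, one_mul]
        · exact Or.inl (pow_one _)
        · exact Or.inr (pow_two _)
      have hij : ∀ {x : G}, x = 1 ∨ x = T.i → T.t * x * T.t = 1 ∨ T.t * x * T.t = T.i := fun {x} hx => by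
        rcases hx with rfl | rfl
        · left; rw [mul_one, T.t_sq]
        · right; exact T.t_i_t
      refine hij ?_
      rcases hk3 with e | e <;> rw [e]
      · have h5 : (q * T.v 1) ^ 3 = q * e1 * e2 * (T.v 1 * T.v 1 * T.v 1) := by
          rw [he2, he1]; simp only [pow_succ, pow_zero, one_mul]; group
        rw [h5, hv3, mul_one, hprod, mul_assoc, (hjc e2 he2Q).eq, ← mul_assoc, he2sq]
        rcases hj with rfl | rfl
        · exact Or.inr (mul_one _)
        · exact Or.inl T.i_sq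
      · have hi2 : T.v 1 * T.v 1 = (T.v 1)⁻¹ := eq_inv_of_mul_eq_one_left hv3
        have hr1 : (T.v 1)⁻¹ * q * T.v 1 = e2 := by
          rw [he2, he1, show T.v 1 * (T.v 1 * q * (T.v 1)⁻¹) * (T.v 1)⁻¹ = T.v 1 * T.v 1 * q * (T.v 1 * T.v 1)⁻¹ by group,
            hi2, inv_inv]
        have h5 : (q * (T.v 1)⁻¹) ^ 3 =
            q * ((T.v 1)⁻¹ * q * T.v 1) * ((T.v 1 * T.v 1)⁻¹ * q * (T.v 1 * T.v 1)) * (T.v 1 * T.v 1 * T.v 1)⁻¹ := by
          simp only [pow_succ, pow_zero, one_mul]; group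
        have he1' : (T.v 1 * T.v 1)⁻¹ * q * (T.v 1 * T.v 1) = e1 := by rw [hi2, inv_inv, he1]
        have hq2 : e2 = q * e1 * j := by
          rw [hprod, mul_assoc]
          rcases hj with rfl | rfl
          · rw [mul_one, mul_one]
          · rw [T.i_sq, mul_one]
        rw [hi2, h5, hr1, he1', hv3, inv_one, mul_one, hq2,
          show q * (q * e1 * j) * e1 = q * q * e1 * (j * e1) by group, (hjc e1 he1Q).eq,
          show q * q * e1 * (e1 * j) = (q * q) * (e1 * e1) * j by group, T.Q_sq hq hq0.1 hq0.2,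
          T.Q_sq he1Q he1ne.1 he1ne.2, T.i_sq, one_mul]
        exact hj
    · obtain ⟨p, hp', m, hm, rfl⟩ := T.cent_12 (hgen' 12 h) hgi
      have hpa : p * T.v 13 * p⁻¹ = T.v 13 := by rw [T.P_comm hp' T.a_mem_P, mul_inv_cancel_right]
      have hta : T.t * T.v 13 * T.t⁻¹ = T.v 14 := by rw [T.t_inv, T.t_a]
      have hpb : p * T.v 14 * p⁻¹ = T.v 14 := by
        rw [T.P_comm hp' ⟨14, plane_i_facts.2.2.1, rfl⟩, mul_inv_cancel_right]
      rcases hm with rfl | rfl | rfl | rfl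
      · rw [mul_one] at hgO ⊢
        rw [hPO hp' hgO]; exact one_mem _
      · refine (T.flip_not_modC_Q hgA (Or.inl ?_)).elim
        rw [show p * T.t * T.v 13 * (p * T.t)⁻¹ = p * (T.t * T.v 13 * T.t⁻¹) * p⁻¹ by group, hta, hpb]
      · refine (T.flip_not_modC_Q hgA (Or.inl ?_)).elim
        rw [show p * (T.t * T.i) * T.v 13 * (p * (T.t * T.i))⁻¹ =
          p * (T.t * (T.i * T.v 13 * T.i⁻¹) * T.t⁻¹) * p⁻¹ by group,
          ← T.P_comm_i T.a_mem_P, mul_inv_cancel_right, hta, hpb]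
      · rw [hPO hp' (by simpa using mul_mem hgO (inv_mem (hQO T.i_mem_Q))), one_mul]
        exact T.E_le_O T.i_mem_E
  -- the element lies in the core
  haveI : (O.subgroupOf A).Normal := ⟨fun q hq l => mem_subgroupOf.2 (hnorm l
    (fun x hx => mul_mem (mul_mem l.2 hx) (inv_mem l.2)) (hEn l l.2) q (mem_subgroupOf.1 hq))⟩
  let mk := QuotientGroup.mk' (O.subgroupOf A)
  have hmk1 : ∀ x : A, mk x = 1 ↔ (x : G) ∈ O := fun x => (QuotientGroup.eq_one_iff x).trans mem_subgroupOf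
  have hcard : Nat.card (A ⧸ O.subgroupOf A) = 3 ∨ Nat.card (A ⧸ O.subgroupOf A) = 6 := hidx
  have haO : T.v 13 ∉ O := fun h => ha1 (hPO T.a_mem_P h)
  have hy6 : y ^ 6 ∈ O := by
    have h6 : mk (⟨y, hyA⟩ ^ 6) = 1 := by
      rw [map_pow]
      refine orderOf_dvd_iff_pow_eq_one.1 ((_root_.orderOf_dvd_natCard _).trans ?_)
      rcases hcard with e | e <;> rw [e]
      norm_num
    simpa using (hmk1 _).1 h6
  have hy24 : y ^ 24 = 1 := by
    rw [show 24 = 6 * 4 by rfl, pow_mul]; exact T.O_four (hOle hy6)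
  have hy3 : y ^ 3 = 1 := by
    refine orderOf_dvd_iff_pow_eq_one.1 ?_
    have h1 : orderOf y ∣ 8 * 3 := orderOf_dvd_of_pow_eq_one hy24
    have h2 : (orderOf y).Coprime 8 := by
      have : Odd (orderOf y) := hn.of_dvd_nat (orderOf_dvd_of_pow_eq_one hyn)
      exact Nat.Coprime.pow_right 3 ((Nat.coprime_two_right).2 this)
    exact h2.dvd_of_dvd_mul_left h1
  set ā := mk ⟨T.v 13, haA⟩ with hād
  have hā1 : ā ≠ 1 := fun e => haO ((hmk1 _).1 e)
  have hā3 : ā ^ 3 = 1 := by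
    rw [hād, ← map_pow, show (⟨T.v 13, haA⟩ : A) ^ 3 = 1 from Subtype.ext (by simpa using T.P_cube T.a_mem_P), map_one]
  set u := mk ⟨y, hyA⟩ with hud
  have hu3 : u ^ 3 = 1 := by
    rw [hud, ← map_pow, show (⟨y, hyA⟩ : A) ^ 3 = 1 from Subtype.ext (by simpa using hy3), map_one]
  have hu : u ∈ zpowers ā := by
    have hord : orderOf ā = 3 := orderOf_eq_prime hā3 hā1
    have hci := card_mul_index (zpowers ā)
    rw [Nat.card_zpowers, hord] at hci
    rcases hcard with e | e <;> rw [e] at hci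
    · rw [show zpowers ā = ⊤ from index_eq_one.1 (by omega)]; exact mem_top _
    · have hi2 : (zpowers ā).index = 2 := by omega
      have h2 : u * u ∈ zpowers ā := (mul_mem_iff_of_index_two hi2).2 Iff.rfl
      have := mul_mem h2 h2
      rwa [← pow_two u, ← pow_add, show 2 + 2 = 3 + 1 by rfl, pow_add, hu3, one_mul, pow_one] at this
  obtain ⟨k, hk⟩ := (Submonoid.mem_powers_iff _ ā).1 (mem_powers_iff_mem_zpowers.2 hu)
  have hk' : T.v 13 ^ (k % 3) * (T.v 13 ^ (3 * (k / 3))) = T.v 13 ^ k := by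
    rw [← pow_add, Nat.mod_add_div]
  rw [pow_mul, T.P_cube T.a_mem_P, one_pow, mul_one] at hk'
  set o := y * (T.v 13 ^ k)⁻¹ with ho
  have hoO : o ∈ T.O := hOle (by
    have : mk (⟨y, hyA⟩ * (⟨T.v 13, haA⟩ ^ k)⁻¹) = 1 := by
      rw [map_mul, map_inv, map_pow, ← hud, ← hād, hk, mul_inv_cancel]
    simpa [ho] using (hmk1 _).1 this)
  have hcz : Commute (T.v 13 ^ (k % 3)) (T.φ (swap 0 3 * swap 1 4)) := by
    rw [hk', show T.v 13 ^ k = o⁻¹ * y by rw [ho]; group]
    exact (show Commute o _ from T.O_comm_E hoO (T.φ_mem_E f4)).inv_left.mul_left hyz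
  have hk0 : k % 3 = 0 := by
    have hsplit : T.v 13 ^ (k % 3) = T.φ ((SixP.a0 * SixP.b0) ^ (k % 3)) * T.v 1 ^ (k % 3) := by
      rw [T.a_split, (show Commute (T.φ _) (T.v 1) from T.φ_comm_e3 _).mul_pow, map_pow]
    rw [hsplit] at hcz
    have h5 := hcz.mul_left ((show Commute (T.φ (swap 0 3 * swap 1 4)) (T.v 1) from T.φ_comm_e3 _).pow_right
      (k % 3)).symm.inv_left
    rw [mul_inv_cancel_right] at h5
    have h6 := f3 ⟨k % 3, Nat.mod_lt _ (by norm_num)⟩ (T.K.inj (by rw [map_mul, map_mul T.K.φ _ (_ ^ _)]; exact h5.eq))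
    exact congrArg Fin.val h6
  have hyO : y ∈ T.O := by
    have : y = o := by rw [ho, ← hk', hk0, pow_zero, inv_one, mul_one]
    exact this ▸ hoO
  have h4 := T.O_four hyO
  rwa [pow_succ, hy3, one_mul] at h4

end SData

end Cfsg.Lib.PSpThree
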