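import Cfsg.Agent.Lib.PSpThree.SixCz

/-!
# A split axis centralizer: the centralizers of involutions

Each class is treated by two involutions of its centralizer with different class patterns; the central involution
of the dihedral group they generate lies in the subgroup, and a finite check gives a product in the class with
known centralizer.
-/

set_option autoImplicit false
set_option maxHeartbeats 1600000
set_option maxRecDepth 100000
set_option linter.unusedSectionVars false
set_option linter.style.haveILetI false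
set_option synthInstance.maxSize 5000

namespace Cfsg.Lib.PSpThree

open Subgroup Cfsg.Lib.SymNine Equiv SpSeven

namespace SpSeven

/-- A word for a product of transvections. -/
def lW (L : List ℕ) : List (Fin 7) := (L.map tvW).flatten

/-- The images of all vectors under all transvections, six bits each. -/
def tvTab : ℕ :=
  0x3e001ec3e78187d742b230dbcfb6c4aa5159e66198db86079f75c89a9255d6a294eb450b8ec312f3248db7144e82f3d03df01e831b7235d09c8b3afb8f4ab529a159976a372181d79f89b9196255a7a93b1142dc0d3312b3d87e051390bbf81f7c03a183df6287ccdc70311b6c42a5939e66978dd86071e89f6e5658929554a12bab3cecaf2f5248d39144e02fbbf8103b1b9e03d892333b1c0bb9142b5a9a139996237a181b89d71f6a5917a955274adb0fc8d32f2b5d07e851370bdf03f7c1ba001df630dcc7c702ae515acfa6849b9647a26197e375c99a8215d6b2d4e7450a8ed352ef248cbb144f82e39f831bb039e01d8b3b3231c0952db15a8f4a772591d89769f7a399b8196215abb93a11429d0d3352afc87f0513d0b7ebe183ec1e7800dd74332287bee593ad1a6841d9647226977de9a36e165882d554b12aa73cedb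32f1248c3d144f02eb71bdf03e810373b5d0bc8922f5adb13a914277a591b89961f99d7236a1817b9552b4a9a0fd8d3332b1c07f8513b0b9e0723cefae4d3b6d41083130beeb5969b7289cf4248e285559e769aabb185df8144d24659b7e0c2ca27df86171cb3d00fbd28930be37db5081103c2f617b2baa979d40f9238a1595a2771b699bad81f5134919a538deb9f3b207185cb1d3303ef4720d3b8dc10b4cf2c4312eb5761d7a89d14a48e2853529a9c6da66bb1655f8259903f9e8c2ca27bf0616fc35d80289f3beb930b081d33cb1103699b2baa971b4919238a151379da27bad61759581f9a540f38de37fbd207185c2fdb503ef4d387238dc3134cf2c4109b72caeaa596a695558f4207de76dba7a185e39144d24618bbf0c2ca279e86175dafc0030bf3beb9289103d33cb1081bad79d617a279a559540f81fb2b71b699aa99235134918a138dfbde37207185db5c2f00d3bcefae47236d431010b0bdd7acaeaa576269535114a07edb9c6da667a165639218903fdf8c2ca277e06173d31c80fbd30b289e37db5103081c2fbad71b699a279a551349181f79db2baa96175959238a140f38df3beb9207185d33cb100ff51efa5385b663469bc5dbee02c083a459c79498e232039ec1ccb36755f75794d2f10f9f3612ca908986a04aab06df8ff115395b7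d97d197317af02d0aba83a052252a388b80dc1dc9b6b3635e15e934bb43d39f3219099871a7129b01bbe4bc415e53dd9d57cf27b072e0ac005a439c99478e23a033176f6dad98d16e94e3d47b3e135f2ca988906a84a2d06b4bd43be95e136b5633c9dc1b0ad02ba85a032a522388d80b7b172fd99d175b9537f91f0f3a131f9899071a9127b81b3e53c58fe51ddbd5dcf2630683b45aea0280a63243878497ded1cdaf6715fb57d4d2e10ea33652ca808886b04ba706953d5bbe8fe117357b3c97c19b83b050290a798b90d22129fd1dd9b6af631f15f934b74393a33258098871ab12da01a95f53efa4b84367b4719c57bc5b43aea0a80263a43098477f57736dac98c16f94f394773e53632ca888806b84b29067f95f134b9437d9dd1b6b162fb85b030a902798d90b2a121f7b5733c99c175bd53be91e0f3a53238898071ad12ba81a3ef7cedb71d78f4114b2c70bc72092aaa689e69648c31051b7e39e9a6585d65544f3d35d8e34c2ebb2db9f821882040617699eb9e3740f491cb1c2fbadb2b30b38d9a592310318579d71bf3bfbd595513d33db5a27aa928920781f8a108101969763ae78df6d74cd559350928722aa689e69648c518311e75c6fdfbbf31cafc124503ce34c2edbabb2189f802040fbdf3b79d71bdb5d33595513badb2b38d30b9a59231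85103eb9e37699617cb1c2f49140faa9a272892078a181f08101b71d7bae78df6d74ccf4114aeb6cac72092831051a28607fbf3df9a6585d65544efc31c8e34c2e7a29aa3925982040fbdf3b617699db5d3340f49130b38daa9a271031858a181f79d71be37eb9595513c2fcb1b2bbad2892079239a508103ef7ced9697615593532c70beeb6cac92872051831228607de75c6f9eb7e35db3d124503ce34c2e9aa7a259a390204079d71beb9e37595513cb1c2f38d30baa9a271851038a181ffbdf3b699617db5d3349140fbadb2b2892079a592308101ff7c8a3e789b6a29cf2b2dbeec31aead359f7964ebb860f9e0016da1055c755428b45038f34c4932485866190c271df9f8bbea39b7da7ab3cabbafc2db31d29a35e25939f2183d01d70111960521550931140d38f48b29358719768309b7be89fefa9a3de9d74a2dc70b2ecafaeadb39f9964e3d860f0175c0056581162874d238b3d134c4152485066970c279b8bdf1f9b9e23ab5d27bb1c2bcadb2fda9a33ea5937fa183b78101b68511758921348d30f39140b29550719960309d73e925efa821debd74ba7c70ab3b6cdafa68ca6f3d8e2e397de1056da0015cb55438745029334c58f24848671d0c261993df25839e21b35d2da31c29bb3dabaafca79bbfa38b7e9f11d70501960131550d21140939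358b28f48719b7830976a5f7c921e78836babcf2aa7bf5b6cd31a68c26fbb8e2eb77c575c10165801638b4d22873d534c51124840679b0c2697fa593bea1837dadb33ca9a2fbb5d2bab1c279bdf238b9e1f78511b68101758d31348920f39550b29140719d70309963ef69abae6db9f834ce3930bf7e2cafbf289e6971ca2875d8721c6cb3185d654109244518e35968a25d78f4040d3500a27f3bb2be3781fd33923c2fbadeb9aa9fbd9a5cb18a1db579d28969938d59508149118561730b71b20740f103513029abceedbb8df6d5f832c63939eacafdfa89e696fc22873d1e74721a64b3010944c51903ce35760a25b7114840d5580fbda27eb9b2bdb581fcb1923bade37aa9f3b9a5c2f8a1d3328971b38d61708151318540f69930b79d20749110359502bb3cee7a38df6d659b2c618aeb7dfaaa79eb3d248efc207cb31c6c72185d654519244108e35d78a2596935040cf400fbdbadeb9aa9db59a5cb18a1f3bb2be37a27d33923c2f81f79d38d69928959518549108171b30b61720751310340f03ef6bb3ae67a259b4ce18b0beeb7bf2aa77e35da48f1ca07de74b31a6472051944c10903ce35b70a2576155840d1480badf3baa9e379a5d338a1c2ffbdb2beb9a27db5923cb181f38d71b28961718551308140f79d30b69920759510349103ec3ccbad38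db7d79cfbc7dbdfb61ae3a659e6a24aa2b20b8f7516d36555d661469271078e00c08a1081871490cb04dc3dcbbd39db7e35eb3f31fafb9fb21aa3a259a79298ab82d78f71169361559751949b41d00d08b1091872052833013b1f6fef5e73df6eb4e32fb0f21b5fae5a639e6aa4a22ba0b1e49c41a5985195574dd45b3ce08c00a1881091470cd04bfb1f2feb5e33db9d37cbdc3bba1b1faa5a239a99278ad82b49d41b59951769561379170f08d00b189107285203381333f75eefe71df6f34fb2e30eae92c9aa8288ab96d8e78697d37556cf6515d671479261068e10c18a00808b14d0c7049fb3f35eafe31dbbd3dcb7c3992d9ab8298a7b25ba3a21a9f79371568f61159b51d49741910d18b0090873053832012bedbcd3acb8c3dd7bcf9c77bee9ac92a8a882d96b8e98677de59c51a49841d55b4d94573ce18c10a08800d14b0c9047dbdd3bcb9c37fb5f33eb1e2f9ad92b8a9827ba5b23aa1a1f59d51b49941779571369160f18d10b089007385303281237e39ebbf3dfb6d74cf2c70beeb6caeaa689df8218a392599e75c6da6585cf41149351558720928b30d3861440c2040fbdf3beb9e37db5d33cb1c2fa27aa9b2bbad81f8a19239a561769971b79d40f49151359538d30b28920718510308103ef7cefae78df1cafc35db3d2eb6caeaa689e189f8259a391969761d79b7165544d24503c928720d38b3061440c2040eb9e37fbdf3bcb1c2fdb5d33aa9a27badb2b8a181f9a592379d71b69961759551349140f38d30b28920718510308103ef7cefae78df3d35dafc31cabb2dba7a29aa69648e28607de75c6da6585d351558f41148b30d3872092861440c2040f3bfbde37eb9d33db5c2fcb1badb2baa9a279a59238a181f71b79d61769951359540f49138d30b28920718510308103dfbbf39eb7e36d74cf2c70bedbabb29aa7a269648e28607dd79b7196976165544d24503cd38b3092872061440c2040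

/-- The form, one bit for each pair. -/
def bTab : ℕ :=
  0xd32d2cd32cd2d32e5a59a5a5a5a65a5cb34cb34b4cb34cb69696969969696972cd2d32d2cd2d32da5a65a59a5a65a5b4cb34cb34cb34cb96969696969696978678798679878678f0f30f0f0f0cf0f1e619e61e19e619ec3c3c3c33c3c3c3c798786787987867b0f0cf0f30f0cf0f619e619e619e619e3c3c3c3c3c3c3c3d4ab4b54ab54b4ab5696a96969695696ad52ad52d2ad52ada5a5a5a55a5a5a5ab54b4ab4b54b4ab69695696a9695696d2ad52ad52ad52ad5a5a5a5a5a5a5a5a1fe1e01fe01e1fe3c3c03c3c3c3fc3c7807f80787f807f80f0f0f0ff0f0f0f1e01e1fe1e01e1fe03c3fc3c03c3fc3c07f807f807f807f8f0f0f0f0f0f0f0f132cccd32cd3332cd999a66666665999b34cb34cccb34cb39999999966666666cd3332cccd3332ce6665999a6665999ccb34cb34cb34cb36666666666666666679998679866679b3330cccccccf3336619e61999e619e633333333cccccccd9866679998666798cccf3330cccf33319e619e619e619e6ccccccccccccccccab5554ab54aaab56aaa955555556aaad52ad52aaad52ad555555555aaaaaaab54aaab5554aaab555556aaa95556aaaaad52ad52ad52ad5aaaaaaaaaaaaaaabfe0001fe01fffe000003fffffffc000007f807fff807f80ffffffff0000000001fffe0001fffe03fffc0003fffc0007f807f807f807f80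

/-- A transvection by table. -/
def tvT (w x : ℕ) : ℕ := Cfsg.Lib.Concrete.tget 6 tvTab (Nat.add (Nat.mul 63 w) x)

/-- The form by table. -/
def bT (x y : ℕ) : Bool := Nat.testBit bTab (Nat.add (Nat.mul 63 x) y)

theorem tvT_ok : ∀ w x : Fin 63, tvT w x = tvN w x := by decide +kernel

theorem bT_ok : ∀ x y : Fin 63, bT x y = bB x y := by decide +kernel

/-- A product of transvections on labels. -/
def pImg (L : List ℕ) (x : ℕ) : ℕ := L.foldr tvT x

theorem lW_append (L M : List ℕ) : lW (L ++ M) = lW L ++ lW M := by simp [lW]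

theorem lW_img (L : List ℕ) (hL : ∀ a ∈ L, a < 63) (x : Fin 63) : wImg (lW L) x = pImg L x := by
  induction L with
  | nil => simp [lW, pImg, wImg]
  | cons a L ih =>
    have ha := hL a List.mem_cons_self
    rw [show lW (a :: L) = tvW a ++ lW L by simp [lW],
      show wImg (tvW a ++ lW L) x = wImg (tvW a) (wImg (lW L) x) by simp [wImg, List.foldr_append],
      ← wPerm_apply (lW L), show pImg (a :: L) x = tvT a (pImg L x) from rfl,
      ← ih fun b hb => hL b (List.mem_cons_of_mem _ hb), ← wPerm_apply (lW L)]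
    exact (tvW_img ⟨a, ha⟩ _).trans (tvT_ok ⟨a, ha⟩ _).symm

/-- The number of fixed vectors of a product. -/
def fixP (L : List ℕ) : ℕ := (Finset.univ.filter fun x : Fin 63 => pImg L x = (x : ℕ)).card

/-- The invariants of a product. -/
def clP (L : List ℕ) : ℕ × Bool := (fixP L, (List.finRange 63).all fun x => !bT (x : ℕ) (pImg L x))

theorem clP_eq (L : List ℕ) (hL : ∀ a ∈ L, a < 63) : clP L = clOf (lW L) := by
  refine Prod.ext ?_ ?_
  · show fixP L = fixN (lW L)
    exact congrArg Finset.card (Finset.filter_congr fun x _ => by rw [lW_img L hL])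
  · show ((List.finRange 63).all fun x => !bT (x : ℕ) (pImg L x)) = altB (lW L)
    rw [altB]
    exact congrArg (fun f => (List.finRange 63).all f) (funext fun x => by
      rw [← lW_img L hL, ← wPerm_apply, bT_ok])

theorem clP_congr {L M : List ℕ} (h : ∀ x : Fin 63, pImg L x = pImg M x) : clP L = clP M := by
  simp only [clP, fixP, h]

/-- The invariants of the class with known centralizer. -/
def zInv : ℕ × Bool := (15, false)

/-- Two products commute. -/
def commB (L M : List ℕ) : Bool := (List.finRange 63).all fun x => pImg (L ++ M) x == pImg (M ++ L) x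

/-- The check of one product. -/
def chk (u z v L : List ℕ) : Bool :=
  !(commB L z && commB L u) || (fixP L == 63 || (clP L == zInv || (clP (u ++ L) == zInv ||
    (let p := (clP (z ++ L), clP (z ++ L ++ u))
     !(p == (clP z, clP (z ++ u)) || p == (clP v, clP (v ++ u)))))))

end SpSeven

/-- Products for the four classes. -/
def repL : Fin 4 → List ℕ := ![[7], [19, 37, 49], [3, 15], [27, 45, 57]]

theorem repL_facts :
    (∀ k : Fin 4, ∀ x : Fin 63, wImg (repW k) x = pImg (repL k) x) ∧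
    (∀ k : Fin 4, (∀ a ∈ repL k, a < 63) ∧ ((repL k).length = 1 ∨ (repL k).length = 2 ∨ (repL k).length = 3) ∧
      (repL k).Pairwise fun a b => bB a b = false) ∧
    (∀ k : Fin 4, clP (repL k) = zInv → k = 2) ∧ clP (repL 2) = zInv ∧
    (∀ i : Fin 7, ∀ a : Fin 63, ∀ b : Fin 63, bB (sImg i a) (sImg i b) = bB a b) := by
  refine ⟨?_, ?_, ?_, ?_, bB_sImg⟩ <;> decide +kernel

namespace SData

variable {G : Type*} [Group G] [Finite G] (T : SData G)

/-- The element of a product of transvections. -/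
noncomputable def pr (L : List ℕ) : G := T.wd (lW L)

theorem pr_mem (L : List ℕ) : T.pr L ∈ T.H := T.wd_mem _

theorem pr_append (L M : List ℕ) : T.pr (L ++ M) = T.pr L * T.pr M := by
  rw [pr, lW_append, T.wd_append]; rfl

theorem pr_eq {L M : List ℕ} (hL : ∀ a ∈ L, a < 63) (hM : ∀ a ∈ M, a < 63)
    (h : ∀ x : Fin 63, pImg L x = pImg M x) : T.pr L = T.pr M :=
  T.wd_eq' fun x => by rw [lW_img L hL, lW_img M hM, h]

theorem pImg_of_eq {L M : List ℕ} (hL : ∀ a ∈ L, a < 63) (hM : ∀ a ∈ M, a < 63) (h : T.pr L = T.pr M)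
    (x : Fin 63) : pImg L x = pImg M x := by
  rw [← lW_img L hL, ← lW_img M hM, ← wPerm_apply, ← wPerm_apply, T.wPerm_of_wd h]

theorem pr_nil : T.pr [] = 1 := T.wd_nil

theorem pr_rep (k : Fin 4) : T.pr (repL k) = T.rep k :=
  T.wd_eq' fun x => by rw [lW_img _ (repL_facts.2.1 k).1, repL_facts.1 k]

theorem refl_pr (i : Fin 7) (L : List ℕ) (hL : ∀ a ∈ L, a < 63) :
    T.refl i * T.pr L * T.refl i = T.pr (L.map (sImg i)) := by
  induction L with
  | nil => rw [List.map_nil, T.pr_nil, mul_one, T.refl_sq]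
  | cons a L ih =>
    rw [List.map_cons, show a :: L = [a] ++ L from rfl, show sImg i a :: L.map (sImg i) = [sImg i a] ++ L.map (sImg i) from rfl,
      T.pr_append, T.pr_append, ← ih fun b hb => hL b (List.mem_cons_of_mem _ hb),
      show T.pr [sImg i a] = T.wd (tvW (sImg i a)) by simp [pr, lW],
      show T.pr [a] = T.wd (tvW a) by simp [pr, lW]]
    have h := T.refl_tv i ⟨a, hL a List.mem_cons_self⟩
    rw [show T.wd (tvW (sImg i a)) = _ from h.symm]
    show _ = T.refl i * T.wd (tvW a) * T.refl i * _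
    simp only [mul_assoc]
    rw [← mul_assoc (T.refl i) (T.refl i), T.refl_sq, one_mul]

/-- Involutions are products of at most three commuting transvections. -/
theorem exists_pr {w : G} (hw : w ∈ T.H) (h1 : w ≠ 1) (h2 : w * w = 1) :
    ∃ L : List ℕ, (L.length = 1 ∨ L.length = 2 ∨ L.length = 3) ∧ (∀ a ∈ L, a < 63) ∧
      L.Pairwise (fun a b => bB a b = false) ∧ T.pr L = w := by
  obtain ⟨k, x, hx, rfl⟩ := T.exists_rep hw h1 h2
  obtain ⟨W, rfl⟩ := T.exists_wd hx
  clear hw h1 h2 hx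
  induction W with
  | nil =>
    obtain ⟨hlt, hlen, ho⟩ := repL_facts.2.1 k
    exact ⟨_, hlen, hlt, ho, by rw [T.wd_nil, inv_one, one_mul, mul_one, T.pr_rep]⟩
  | cons i W ih =>
    obtain ⟨L, hlen, hlt, ho, e⟩ := ih
    refine ⟨L.map (sImg i), by rwa [List.length_map], fun a ha => ?_, ?_, ?_⟩
    · obtain ⟨b, hb, rfl⟩ := List.mem_map.1 ha
      exact tvW_facts.1 i ⟨b, hlt b hb⟩
    · rw [List.pairwise_map]
      refine ho.imp_of_mem fun {a b} ha hb h => ?_
      exact (repL_facts.2.2.2.2 i ⟨a, hlt a ha⟩ ⟨b, hlt b hb⟩).trans h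
    · rw [← T.refl_pr i L hlt, e, T.wd_cons, mul_inv_rev, inv_eq_of_mul_eq_one_right (T.refl_sq i)]
      group

/-- The invariants of a product from its class. -/
theorem clP_of_conj {L : List ℕ} (hL : ∀ a ∈ L, a < 63) {k : Fin 4}
    (h : ∃ g : G, g * T.rep k * g⁻¹ = T.pr L) : clP L = clP (repL k) := by
  obtain ⟨g, hg⟩ := h
  have h2 : T.pr L * T.pr L = 1 := by
    rw [← hg, show g * T.rep k * g⁻¹ * (g * T.rep k * g⁻¹) = g * (T.rep k * T.rep k) * g⁻¹ by group, T.rep_sq]
    group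
  have h1 : T.pr L ≠ 1 := by rw [← hg]; exact fun e => T.rep_ne_one k (conj_eq_one_iff.1 e)
  have hsq : ∀ x : Fin 63, wImg (lW L ++ lW L) x = wImg [] x := fun x => by
    rw [← wPerm_apply, ← wPerm_apply, T.wPerm_of_wd (L := lW L ++ lW L) (M := []) (by
      rw [T.wd_append, T.wd_nil]; exact h2)]
  have hne : ∃ x : Fin 63, wImg (lW L) x ≠ wImg [] x := by
    by_contra hne
    push Not at hne
    exact h1 (by rw [← T.wd_nil]; exact T.wd_eq' hne)
  rw [clP_eq L hL, T.clOf_of_conj ⟨g, hg⟩ hsq hne, clP_eq _ (repL_facts.2.1 k).1,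
    ← T.clOf_of_conj (L := lW (repL k)) ⟨1, by rw [one_mul, inv_one, mul_one]; exact (T.pr_rep k).symm⟩
      (fun x => by
        rw [← wPerm_apply, ← wPerm_apply, T.wPerm_of_wd (L := lW (repL k) ++ lW (repL k)) (M := []) (by
          rw [T.wd_append, T.wd_nil]; show T.pr _ * T.pr _ = 1; rw [T.pr_rep, T.rep_sq])]) (by
      by_contra hne
      push Not at hne
      exact T.rep_ne_one k (by rw [← T.pr_rep, ← T.wd_nil]; exact T.wd_eq' hne))]

/-- Conjugate products have equal invariants. -/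
theorem clP_conj {L M : List ℕ} (hL : ∀ a ∈ L, a < 63) (hM : ∀ a ∈ M, a < 63) (h1 : T.pr L ≠ 1)
    (h2 : T.pr L * T.pr L = 1) {g : G} (h : g * T.pr L * g⁻¹ = T.pr M) : clP L = clP M := by
  obtain ⟨k, x, -, e⟩ := T.exists_rep (T.pr_mem L) h1 h2
  rw [T.clP_of_conj hL ⟨x, e⟩, T.clP_of_conj (k := k) hM ⟨g * x, by rw [← h, ← e]; group⟩]

/-- An involution with the invariants has a centralizer inside. -/
theorem cent_of_class {L : List ℕ} (hL : ∀ a ∈ L, a < 63) (h1 : T.pr L ≠ 1) (h2 : T.pr L * T.pr L = 1)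
    (hc : clP L = zInv) : centralizer ({T.pr L} : Set G) ≤ T.H := by
  obtain ⟨k, x, hx, e⟩ := T.exists_rep (T.pr_mem L) h1 h2
  obtain rfl : k = 2 := repL_facts.2.2.1 k ((T.clP_of_conj hL ⟨x, e⟩).symm.trans hc)
  obtain ⟨ρ, hρ⟩ := (by decide +kernel :
    ∃ ρ : Perm (Fin 6), ρ * (swap 1 2 * swap 4 5) = swap 0 3 * swap 1 4 * ρ)
  have hz : T.φ ρ * T.rep 2 * (T.φ ρ)⁻¹ = T.z0 := by
    rw [T.rep_z, ← T.K.z_eq]; exact T.φ_conj hρ
  intro y hy
  rw [mem_centralizer_singleton_iff, ← e] at hy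
  have hk : x * (T.φ ρ)⁻¹ ∈ T.H := mul_mem hx (inv_mem (T.φ_mem ρ))
  have hmem : (x * (T.φ ρ)⁻¹)⁻¹ * y * (x * (T.φ ρ)⁻¹) ∈ T.H := T.Xz_le_H (T.mem_Xz.2 (by
    rw [← hz]
    calc (x * (T.φ ρ)⁻¹)⁻¹ * y * (x * (T.φ ρ)⁻¹) * (T.φ ρ * T.rep 2 * (T.φ ρ)⁻¹)
        = T.φ ρ * x⁻¹ * (y * (x * T.rep 2 * x⁻¹)) * x * (T.φ ρ)⁻¹ := by group
      _ = _ := by rw [hy]; group))
  have := mul_mem (mul_mem hk hmem) (inv_mem hk)
  rwa [show x * (T.φ ρ)⁻¹ * ((x * (T.φ ρ)⁻¹)⁻¹ * y * (x * (T.φ ρ)⁻¹)) * (x * (T.φ ρ)⁻¹)⁻¹ = y by group] at this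

/-- The facts about a pair of involutions in a centralizer. -/
theorem pr_facts {u L : List ℕ} (hu : ∀ a ∈ u, a < 63) (hL : ∀ a ∈ L, a < 63)
    (hLu : commB L u = true) (hsq : ∀ x : Fin 63, pImg (L ++ L) x = x) (hne : fixP L ≠ 63) :
    Commute (T.pr L) (T.pr u) ∧ T.pr L * T.pr L = 1 ∧ T.pr L ≠ 1 := by
  have happ : ∀ {A B : List ℕ}, (∀ a ∈ A, a < 63) → (∀ a ∈ B, a < 63) → ∀ a ∈ A ++ B, a < 63 :=
    fun hA hB a ha => (List.mem_append.1 ha).elim (hA a) (hB a)
  refine ⟨?_, ?_, fun e => hne ?_⟩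
  · show T.pr L * T.pr u = T.pr u * T.pr L
    rw [← T.pr_append, ← T.pr_append]
    simp only [commB, List.all_eq_true, List.mem_finRange, true_implies, beq_iff_eq] at hLu
    exact T.pr_eq (happ hL hu) (happ hu hL) hLu
  · rw [← T.pr_append, ← T.pr_nil]
    exact T.pr_eq (happ hL hL) (by simp) fun x => by rw [hsq]; rfl
  · have hid := T.pImg_of_eq hL (M := []) (by simp) (e.trans T.pr_nil.symm)
    rw [fixP, Finset.filter_true_of_mem fun x _ => by rw [hid]; rfl]
    rfl

/-- The centralizer of an involution lies in the subgroup. -/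
theorem engine {u z v h : List ℕ} (hu : ∀ a ∈ u, a < 63) (hz : ∀ a ∈ z, a < 63) (hv : ∀ a ∈ v, a < 63)
    (hh : ∀ a ∈ h, a < 63) (cz : commB z u = true) (cv : commB v u = true) (ch : commB h u = true)
    (su : ∀ x : Fin 63, pImg (u ++ u) x = x) (sz : ∀ x : Fin 63, pImg (z ++ z) x = x)
    (sv : ∀ x : Fin 63, pImg (v ++ v) x = x) (sh : ∀ x : Fin 63, pImg (h ++ h) x = x)
    (nu : fixP u ≠ 63) (nz : fixP z ≠ 63) (nv : fixP v ≠ 63) (nh : fixP h ≠ 63)
    (hzc : clP z = zInv) (hdiff : clP z ≠ clP v) (hpc : clP (v ++ (h ++ v ++ h)) = zInv)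
    (hps : ∀ x : Fin 63, pImg ((v ++ (h ++ v ++ h)) ++ (v ++ (h ++ v ++ h))) x = x)
    (hnzu : fixP (z ++ u) ≠ 63) (hnvu : fixP (v ++ u) ≠ 63)
    (hcert : ∀ L : List ℕ, (L.length = 1 ∨ L.length = 2 ∨ L.length = 3) → (∀ a ∈ L, a < 63) →
      L.Pairwise (fun a b => bB a b = false) → chk u z v L = true) : centralizer ({T.pr u} : Set G) ≤ T.H := by
  classical
  have happ : ∀ {A B : List ℕ}, (∀ a ∈ A, a < 63) → (∀ a ∈ B, a < 63) → ∀ a ∈ A ++ B, a < 63 :=
    fun hA hB a ha => (List.mem_append.1 ha).elim (hA a) (hB a)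
  obtain ⟨hcz, hz2, hz1⟩ := T.pr_facts hu hz cz sz nz
  obtain ⟨hcv, hv2, hv1⟩ := T.pr_facts hu hv cv sv nv
  obtain ⟨hch, hh2, hh1⟩ := T.pr_facts hu hh ch sh nh
  obtain ⟨-, hu2, hu1⟩ := T.pr_facts hu hu (by simp [commB]) su nu
  have hprod2 : ∀ {A : List ℕ}, (∀ a ∈ A, a < 63) → Commute (T.pr A) (T.pr u) → T.pr A * T.pr A = 1 →
      T.pr (A ++ u) * T.pr (A ++ u) = 1 := fun {A} hA hc h2 => by
    rw [T.pr_append, hc.symm.mul_mul_mul_comm, h2, hu2, one_mul]
  have hne1 : ∀ {A : List ℕ}, (∀ a ∈ A, a < 63) → fixP A ≠ 63 → T.pr A ≠ 1 := fun {A} hA hn e => hn (by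
    have hid := T.pImg_of_eq hA (M := []) (by simp) (e.trans T.pr_nil.symm)
    rw [fixP, Finset.filter_true_of_mem fun x _ => by rw [hid]; rfl]
    rfl)
  -- the conjugates of the second involution lie in the subgroup
  have hconj : ∀ c : G, Commute c (T.pr u) → c * T.pr v * c⁻¹ ∈ T.H := by
    intro c hc
    set v' := c * T.pr v * c⁻¹ with hv'
    have hv'2 : v' * v' = 1 := by
      rw [hv', show c * T.pr v * c⁻¹ * (c * T.pr v * c⁻¹) = c * (T.pr v * T.pr v) * c⁻¹ by group, hv2]; group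
    have hv'u : Commute v' (T.pr u) := (hc.mul_left hcv).mul_left hc.inv_left
    set d := T.pr z * v' with hd
    have hzd : T.pr z * d = d⁻¹ * T.pr z := by
      rw [hd, mul_inv_rev, inv_eq_of_mul_eq_one_right hz2, inv_eq_of_mul_eq_one_right hv'2, ← mul_assoc, hz2,
        one_mul, mul_assoc, hz2, mul_one]
    have hzpow : ∀ m : ℕ, T.pr z * d ^ m = (d ^ m)⁻¹ * T.pr z := by
      intro m
      induction m with
      | zero => simp
      | succ m ih => rw [pow_succ, ← mul_assoc, ih, mul_assoc, hzd, ← mul_assoc, ← mul_inv_rev, ← pow_succ', pow_succ]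
    have hdu : Commute d (T.pr u) := hcz.mul_left hv'u
    have hzd1 : T.pr z * d = v' := by rw [hd, ← mul_assoc, hz2, one_mul]
    rcases Nat.even_or_odd' (orderOf d) with ⟨n, hn | hn⟩
    rotate_left
    · -- odd order: the two involutions are conjugate
      exfalso
      have e1 : v' = d ^ n * T.pr z * (d ^ n)⁻¹ := by
        have hinv : (d ^ n)⁻¹ = d ^ (n + 1) := inv_eq_of_mul_eq_one_right (by
          rw [← pow_add, show n + (n + 1) = orderOf d by omega, pow_orderOf_eq_one])
        rw [mul_assoc, hinv, hzpow (n + 1), ← hinv, inv_inv, ← mul_assoc, ← hzd1, hzd]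
        congr 1
        rw [← pow_add, eq_comm, eq_inv_iff_mul_eq_one, ← pow_succ, show n + n + 1 = orderOf d by omega,
          pow_orderOf_eq_one]
      refine hdiff (T.clP_conj hz hv hz1 hz2 (g := c⁻¹ * d ^ n) ?_)
      rw [show c⁻¹ * d ^ n * T.pr z * (c⁻¹ * d ^ n)⁻¹ = c⁻¹ * (d ^ n * T.pr z * (d ^ n)⁻¹) * c by group, ← e1, hv']
      group
    · set w := d ^ n with hw
      have hdpos : 0 < orderOf d := orderOf_pos d
      have hw1 : w ≠ 1 := fun e => by
        have := Nat.le_of_dvd (by omega) (orderOf_dvd_of_pow_eq_one e)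
        omega
      have hw2 : w * w = 1 := by rw [hw, ← pow_add, show n + n = orderOf d by omega, pow_orderOf_eq_one]
      have hwz : Commute w (T.pr z) := by
        show w * T.pr z = T.pr z * w
        rw [hw, hzpow n, ← hw, inv_eq_of_mul_eq_one_right hw2]
      have hwu : Commute w (T.pr u) := hdu.pow_left n
      have hwH : w ∈ T.H := T.cent_of_class hz hz1 hz2 hzc (mem_centralizer_singleton_iff.2 hwz.eq)
      obtain ⟨L, hlen, hlt, ho, hL⟩ := T.exists_pr hwH hw1 hw2
      have hwv : Commute v' w := by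
        have hv'd : v' = T.pr z * d := hzd1.symm
        rw [hv'd]
        exact hwz.symm.mul_left ((Commute.refl d).pow_right n)
      have hcb : ∀ {A : List ℕ}, (∀ a ∈ A, a < 63) → Commute (T.pr L) (T.pr A) → commB L A = true := by
        intro A hA h
        simp only [commB, List.all_eq_true, List.mem_finRange, true_implies, beq_iff_eq]
        exact fun x => T.pImg_of_eq (happ hlt hA) (happ hA hlt) (by rw [T.pr_append, T.pr_append]; exact h.eq) x
      have hchk := hcert L hlen hlt ho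
      simp only [chk, hcb hz (hL ▸ hwz), hcb hu (hL ▸ hwu), Bool.and_self, Bool.not_true, Bool.false_or,
        Bool.or_eq_true, beq_iff_eq, Bool.not_eq_true', Bool.or_eq_false_iff, beq_eq_false_iff_ne] at hchk
      rcases hchk with h63 | hZ | hZ | hpat
      · exact absurd h63 (fun e => hw1 (by
          rw [← hL, ← T.pr_nil]
          refine T.pr_eq hlt (by simp) fun x => ?_
          have hx : x ∈ (Finset.univ.filter fun x : Fin 63 => pImg L x = (x : ℕ)) := by
            rw [Finset.eq_univ_of_card _ ((show _ = 63 from e).trans (Fintype.card_fin 63).symm)]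
            exact Finset.mem_univ x
          exact (Finset.mem_filter.1 hx).2))
      · exact T.cent_of_class hlt (hL ▸ hw1) (hL ▸ hw2) hZ (mem_centralizer_singleton_iff.2 (hL ▸ hwv).eq)
      · refine T.cent_of_class (happ hu hlt) ?_ ?_ hZ (mem_centralizer_singleton_iff.2 ?_)
        · intro e
          rw [clP_congr (M := []) (T.pImg_of_eq (happ hu hlt) (by simp) (e.trans T.pr_nil.symm))] at hZ
          exact absurd hZ (by decide +kernel)
        · rw [T.pr_append, hL, hwu.mul_mul_mul_comm, hu2, hw2, one_mul]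
        · rw [T.pr_append, hL]; exact (hv'u.mul_right hwv).eq
      · exfalso
        obtain ⟨hpz, hpv⟩ := hpat
        have hzL : ∀ a ∈ z ++ L, a < 63 := happ hz hlt
        -- the product is conjugate to one of the two involutions
        rcases Nat.even_or_odd' n with ⟨m, hm | hm⟩
        · have e : T.pr (z ++ L) = (d ^ m)⁻¹ * T.pr z * d ^ m := by
            rw [T.pr_append, hL, hw, hm, two_mul, pow_add, ← mul_assoc, hzpow m]
          refine hpz (Prod.ext_iff.2 ⟨(T.clP_conj hz hzL hz1 hz2 (g := (d ^ m)⁻¹) (by rw [e]; group)).symm, ?_⟩)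
          refine (T.clP_conj (happ hz hu) (happ hzL hu) (hne1 (happ hz hu) hnzu) (hprod2 hz hcz hz2)
            (g := (d ^ m)⁻¹) ?_).symm
          rw [T.pr_append z u, T.pr_append (z ++ L) u, e, mul_assoc _ (d ^ m) (T.pr u), (hdu.pow_left m).eq]
          group
        · have e : T.pr (z ++ L) = ((d ^ m)⁻¹ * c) * T.pr v * ((d ^ m)⁻¹ * c)⁻¹ := by
            rw [T.pr_append, hL, hw, hm, two_mul, pow_succ, pow_add, mul_assoc, ← pow_succ, pow_succ',
              ← mul_assoc (T.pr z), hzpow m, mul_assoc _ (T.pr z), ← mul_assoc (T.pr z), hzd1, hv']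
            group
          refine hpv (Prod.ext_iff.2 ⟨(T.clP_conj hv hzL hv1 hv2 e.symm).symm, ?_⟩)
          refine (T.clP_conj (happ hv hu) (happ hzL hu) (hne1 (happ hv hu) hnvu) (hprod2 hv hcv hv2)
            (g := (d ^ m)⁻¹ * c) ?_).symm
          rw [T.pr_append v u, T.pr_append (z ++ L) u, e, mul_assoc _ _ (T.pr u),
            (((hdu.pow_left m).inv_left.mul_left hc).inv_left).eq]
          group
  -- a product in the class with known centralizer
  intro c hc
  rw [mem_centralizer_singleton_iff] at hc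
  set y := v ++ (h ++ v ++ h) with hy
  have hy' : ∀ a ∈ y, a < 63 := happ hv (happ (happ hh hv) hh)
  have hy2 : T.pr y * T.pr y = 1 := by
    rw [← T.pr_append, ← T.pr_nil]
    exact T.pr_eq (happ hy' hy') (by simp) fun x => by rw [hps]; rfl
  have hy1 : T.pr y ≠ 1 := hne1 hy' fun e => by
    have := congrArg Prod.fst hpc
    rw [show (clP y).1 = fixP y from rfl, e] at this
    exact absurd this (by decide)
  have hexp : c * T.pr y * c⁻¹ =
      c * T.pr v * c⁻¹ * (c * T.pr h * T.pr v * (c * T.pr h)⁻¹) := by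
    rw [hy, T.pr_append, T.pr_append, T.pr_append, mul_inv_rev c, inv_eq_of_mul_eq_one_right hh2]; group
  have hmem : c * T.pr y * c⁻¹ ∈ T.H := hexp ▸ mul_mem (hconj c hc)
    (hconj _ ((show Commute c (T.pr u) from hc).mul_left hch))
  obtain ⟨k, hk, e⟩ := T.fusion (T.pr_mem y) hmem hy1 hy2 ⟨c, rfl⟩
  have : k⁻¹ * c ∈ T.H := T.cent_of_class hy' hy1 hy2 hpc (mem_centralizer_singleton_iff.2 (by
    calc k⁻¹ * c * T.pr y = k⁻¹ * (c * T.pr y * c⁻¹) * c := by group
      _ = _ := by rw [← e]; group))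
  simpa using mul_mem hk this

end SData

end Cfsg.Lib.PSpThree
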