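import Cfsg.Agent.Lib.PSpThree.SixCert

/-!
# A split axis centralizer: the group is symplectic

All involution centralizers lie in the symplectic subgroup, so it contains every conjugate of the sign change and
is strongly closed; it is the whole group.
-/

set_option autoImplicit false
set_option maxHeartbeats 1600000
set_option maxRecDepth 100000
set_option linter.unusedSectionVars false
set_option linter.style.haveILetI false
set_option synthInstance.maxSize 5000

namespace Cfsg.Lib.PSpThree

open Subgroup Cfsg.Lib.SymNine Equiv SpSeven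

/-- Two involutions that are not conjugate commute with a common involution. -/
theorem common_involution {G : Type*} [Group G] [Finite G] {z v : G} (hz : z * z = 1) (hv : v * v = 1)
    (hne : ∀ g : G, g * z * g⁻¹ ≠ v) : ∃ w : G, w ≠ 1 ∧ w * w = 1 ∧ Commute w z ∧ Commute v w := by
  set d := z * v with hd
  have hzd : z * d = d⁻¹ * z := by
    rw [hd, mul_inv_rev, inv_eq_of_mul_eq_one_right hz, inv_eq_of_mul_eq_one_right hv, ← mul_assoc, hz,
      one_mul, mul_assoc, hz, mul_one]
  have hzpow : ∀ m : ℕ, z * d ^ m = (d ^ m)⁻¹ * z := by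
    intro m
    induction m with
    | zero => simp
    | succ m ih => rw [pow_succ, ← mul_assoc, ih, mul_assoc, hzd, ← mul_assoc, ← mul_inv_rev, ← pow_succ', pow_succ]
  have hzd1 : z * d = v := by rw [hd, ← mul_assoc, hz, one_mul]
  have hdpos : 0 < orderOf d := orderOf_pos d
  rcases Nat.even_or_odd' (orderOf d) with ⟨n, hn | hn⟩
  · refine ⟨d ^ n, fun e => ?_, by rw [← pow_add, show n + n = orderOf d by omega, pow_orderOf_eq_one], ?_, ?_⟩
    · have := Nat.le_of_dvd (by omega) (orderOf_dvd_of_pow_eq_one e)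
      omega
    · show d ^ n * z = z * d ^ n
      rw [hzpow n, inv_eq_of_mul_eq_one_right (show d ^ n * d ^ n = 1 by
        rw [← pow_add, show n + n = orderOf d by omega, pow_orderOf_eq_one])]
    · rw [← hzd1]
      refine Commute.mul_left ?_ ((Commute.refl d).pow_right n)
      show z * d ^ n = d ^ n * z
      rw [hzpow n, inv_eq_of_mul_eq_one_right (show d ^ n * d ^ n = 1 by
        rw [← pow_add, show n + n = orderOf d by omega, pow_orderOf_eq_one])]
  · exfalso
    refine hne (d ^ n) ?_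
    have hinv : (d ^ n)⁻¹ = d ^ (n + 1) := inv_eq_of_mul_eq_one_right (by
      rw [← pow_add, show n + (n + 1) = orderOf d by omega, pow_orderOf_eq_one])
    rw [mul_assoc, hinv, hzpow (n + 1), ← hinv, inv_inv, ← mul_assoc, ← hzd1, hzd]
    congr 1
    rw [← pow_add, eq_inv_iff_mul_eq_one, ← pow_succ, show n + n + 1 = orderOf d by omega, pow_orderOf_eq_one]

theorem class_labels :
    clP [7] = clP (repL 0) ∧ clP [0, 1, 2] = clP (repL 1) ∧ clP [0, 1, 3] = clP (repL 3) ∧
    (∀ k l : Fin 4, clP (repL k) = clP (repL l) → k = l) := by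
  refine ⟨?_, ?_, ?_, ?_⟩ <;> decide +kernel

namespace SData

variable {G : Type*} [Group G] [Finite G] (T : SData G)

theorem cent_transfer {x k : G} (hk : k ∈ T.H) (h : centralizer ({x} : Set G) ≤ T.H) :
    centralizer ({k * x * k⁻¹} : Set G) ≤ T.H := by
  intro y hy
  rw [mem_centralizer_singleton_iff] at hy
  have hm : k⁻¹ * y * k ∈ T.H := h (mem_centralizer_singleton_iff.2 (by
    calc k⁻¹ * y * k * x = k⁻¹ * (y * (k * x * k⁻¹)) * k := by group
      _ = _ := by rw [hy]; group))
  have := mul_mem (mul_mem hk hm) (inv_mem hk)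
  rwa [show k * (k⁻¹ * y * k) * k⁻¹ = y by group] at this

theorem cent_rep {L : List ℕ} {k : Fin 4} (hL : ∀ a ∈ L, a < 63) (hcl : clP L = clP (repL k)) (hne : T.pr L ≠ 1)
    (hsq : T.pr L * T.pr L = 1) (h : centralizer ({T.pr L} : Set G) ≤ T.H) :
    centralizer ({T.rep k} : Set G) ≤ T.H := by
  obtain ⟨l, x, hx, e⟩ := T.exists_rep (T.pr_mem L) hne hsq
  obtain rfl := class_labels.2.2.2 l k ((T.clP_of_conj hL ⟨x, e⟩).symm.trans hcl)
  have := T.cent_transfer (inv_mem hx) h
  rwa [← e, show x⁻¹ * (x * T.rep l * x⁻¹) * x⁻¹⁻¹ = T.rep l by group] at this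

theorem pr_sq {L : List ℕ} (hL : ∀ a ∈ L, a < 63) (h : ∀ x : Fin 63, pImg (L ++ L) x = x) :
    T.pr L * T.pr L = 1 := by
  rw [← T.pr_append, ← T.pr_nil]
  exact T.pr_eq (fun a ha => (List.mem_append.1 ha).elim (hL a) (hL a)) (by simp) fun x => by rw [h]; rfl

theorem pr_ne {L : List ℕ} (hL : ∀ a ∈ L, a < 63) (h : ∃ x : Fin 63, pImg L x ≠ x) : T.pr L ≠ 1 := fun e => by
  obtain ⟨x, hx⟩ := h
  exact hx ((T.pImg_of_eq hL (M := []) (by simp) (e.trans T.pr_nil.symm) x).trans rfl)

theorem cent_rep_all (k : Fin 4) : centralizer ({T.rep k} : Set G) ≤ T.H := by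
  obtain ⟨c0, c1, c3, -⟩ := class_labels
  fin_cases k
  · exact T.cent_rep (L := [7]) (k := 0) (by decide) c0 (T.pr_ne (by decide) (by decide +kernel))
      (T.pr_sq (by decide) (by decide +kernel))
      (T.engine (u := [7]) (z := [1, 7]) (v := [1, 3, 5]) (h := [15]) (by decide) (by decide) (by decide) (by decide)
        (by decide +kernel) (by decide +kernel) (by decide +kernel) (by decide +kernel) (by decide +kernel)
        (by decide +kernel) (by decide +kernel) (by decide +kernel) (by decide +kernel) (by decide +kernel)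
        (by decide +kernel) (by decide +kernel) (by decide +kernel) (by decide +kernel) (by decide +kernel)
        (by decide +kernel) (by decide +kernel) pair_t)
  · exact T.cent_rep (L := [0, 1, 2]) (k := 1) (by decide) c1 (T.pr_ne (by decide) (by decide +kernel))
      (T.pr_sq (by decide) (by decide +kernel))
      (T.engine (u := [0, 1, 2]) (z := [0, 1]) (v := [3]) (h := [31, 32]) (by decide) (by decide) (by decide) (by decide)
        (by decide +kernel) (by decide +kernel) (by decide +kernel) (by decide +kernel) (by decide +kernel)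
        (by decide +kernel) (by decide +kernel) (by decide +kernel) (by decide +kernel) (by decide +kernel)
        (by decide +kernel) (by decide +kernel) (by decide +kernel) (by decide +kernel) (by decide +kernel)
        (by decide +kernel) (by decide +kernel) pair_i)
  · show centralizer ({T.rep 2} : Set G) ≤ T.H
    have h := T.cent_of_class (repL_facts.2.1 2).1 (by rw [T.pr_rep]; exact T.rep_ne_one 2)
      (by rw [T.pr_rep]; exact T.rep_sq 2) repL_facts.2.2.2.1
    rwa [T.pr_rep] at h
  · exact T.cent_rep (L := [0, 1, 3]) (k := 3) (by decide) c3 (T.pr_ne (by decide) (by decide +kernel))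
      (T.pr_sq (by decide) (by decide +kernel))
      (T.engine (u := [0, 1, 3]) (z := [0, 1]) (v := [2]) (h := [39, 44]) (by decide) (by decide) (by decide) (by decide)
        (by decide +kernel) (by decide +kernel) (by decide +kernel) (by decide +kernel) (by decide +kernel)
        (by decide +kernel) (by decide +kernel) (by decide +kernel) (by decide +kernel) (by decide +kernel)
        (by decide +kernel) (by decide +kernel) (by decide +kernel) (by decide +kernel) (by decide +kernel)
        (by decide +kernel) (by decide +kernel) pair_ti)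

/-- The centralizers of the involutions of the subgroup lie inside. -/
theorem cent_invol {w : G} (hw : w ∈ T.H) (h1 : w ≠ 1) (h2 : w * w = 1) : centralizer ({w} : Set G) ≤ T.H := by
  obtain ⟨k, x, hx, rfl⟩ := T.exists_rep hw h1 h2
  exact T.cent_transfer hx (T.cent_rep_all k)

/-- The subgroup is everything. -/
theorem H_eq_top : T.H = ⊤ := by
  have hzt : ∀ g : G, g * T.rep 2 * g⁻¹ ≠ T.t := fun g e =>
    absurd (T.rep_distinct 2 0 g (e.trans T.rep_t.symm)) (by decide)
  have hclosed : ∀ g : G, g * T.t * g⁻¹ ∈ T.H := fun g => by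
    obtain ⟨w, hw1, hw2, hwz, hwt⟩ := common_involution (z := T.rep 2) (v := g * T.t * g⁻¹) (T.rep_sq 2)
      (by rw [show g * T.t * g⁻¹ * (g * T.t * g⁻¹) = g * (T.t * T.t) * g⁻¹ by group, T.t_sq]; group)
      (fun k e => hzt (g⁻¹ * k) (by
        rw [show g⁻¹ * k * T.rep 2 * (g⁻¹ * k)⁻¹ = g⁻¹ * (k * T.rep 2 * k⁻¹) * g by group, e]; group))
    exact T.cent_invol (T.cent_rep_all 2 (mem_centralizer_singleton_iff.2 hwz.eq)) hw1 hw2
      (mem_centralizer_singleton_iff.2 hwt.eq)
  obtain ⟨ρ, hρ⟩ := (by decide +kernel :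
    ∃ ρ : Perm (Fin 6), ρ * (swap 1 2 * swap 4 5) = swap 0 3 * swap 1 4 * ρ)
  obtain ⟨a, ha⟩ := T.s_conj_t (σ := swap 0 3) (Or.inl rfl)
  obtain ⟨b, hb⟩ := T.s_conj_t (σ := swap 1 4) (Or.inr (Or.inl rfl))
  have hz : T.φ ρ * T.rep 2 * (T.φ ρ)⁻¹ = T.z0 := by
    rw [T.rep_z, ← T.K.z_eq]; exact T.φ_conj hρ
  refine eq_top_iff.2 fun g _ => ?_
  have hm : g * T.φ ρ * T.rep 2 * (g * T.φ ρ)⁻¹ ∈ T.H := by
    rw [show g * T.φ ρ * T.rep 2 * (g * T.φ ρ)⁻¹ = g * (T.φ ρ * T.rep 2 * (T.φ ρ)⁻¹) * g⁻¹ by group, hz,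
      show T.z0 = T.φ (swap 0 3) * T.φ (swap 1 4) from map_mul _ _ _, ← ha, ← hb,
      show g * (a * T.t * a⁻¹ * (b * T.t * b⁻¹)) * g⁻¹ = g * a * T.t * (g * a)⁻¹ * (g * b * T.t * (g * b)⁻¹) by group]
    exact mul_mem (hclosed _) (hclosed _)
  obtain ⟨k, hk, e⟩ := T.fusion (T.rep_mem 2) hm (T.rep_ne_one 2) (T.rep_sq 2) ⟨_, rfl⟩
  have h : k⁻¹ * (g * T.φ ρ) ∈ T.H := T.cent_rep_all 2 (mem_centralizer_singleton_iff.2 (by
    calc k⁻¹ * (g * T.φ ρ) * T.rep 2 = k⁻¹ * (g * T.φ ρ * T.rep 2 * (g * T.φ ρ)⁻¹) * (g * T.φ ρ) := by group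
      _ = _ := by rw [← e]; group))
  have h' := mul_mem (mul_mem hk h) (inv_mem (T.φ_mem ρ))
  simpa [mul_assoc] using h'

include T in
/-- The group is the symplectic group. -/
theorem nonempty_equiv : Nonempty (G ≃* Cfsg.Lib.SpSix.SpGrp) :=
  ⟨(MulEquiv.ofBijective T.toH ⟨T.toH_injective, MonoidHom.range_eq_top.1 (T.toH_range.trans T.H_eq_top)⟩).symm⟩

end SData

end Cfsg.Lib.PSpThree
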