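import Cfsg.Agent.Lib.PSpThree.SixInvol

/-!
# A split axis centralizer: the core has no conjugates of the sign change outside the elementary group

An involution of the centralizer of two transpositions fusing to none is moved into the centralizer of the
elementary group, where it can only lie in the core.
-/

set_option autoImplicit false
set_option maxHeartbeats 1600000
set_option maxRecDepth 100000
set_option linter.unusedSectionVars false
set_option linter.style.haveILetI false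
set_option synthInstance.maxSize 5000

namespace Cfsg.Lib.PSpThree

open Subgroup Cfsg.Lib.SymNine Equiv

theorem witness_facts :
    (∃ ρ : Perm (Fin 6), ρ * swap 1 2 = swap 0 3 * ρ ∧ ρ * swap 4 5 = swap 1 4 * ρ) ∧
    (∃ ρ : Perm (Fin 6), ρ * (swap 0 3 * swap 1 2) = swap 1 2 * swap 4 5 * ρ) ∧
    (∃ ρ : Perm (Fin 6), ρ * (swap 0 3 * swap 1 2 * swap 4 5) = SixP.t0 * ρ) ∧
    (swap 0 3 * swap 1 2) * (swap 0 3 * swap 1 2) = (1 : Perm (Fin 6)) ∧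
    (swap 0 3 * swap 1 2) * swap 4 5 = swap 4 5 * (swap 0 3 * swap 1 2 : Perm (Fin 6)) ∧
    sComp 0 5 1 = sComp 4 0 0 ∧ kmul 5 0 = kmul 0 5 ∧ sComp 0 5 2 = sComp 2 0 0 ∧ sComp 6 0 1 = 7 ∧ kmul 0 0 = 0 := by
  refine ⟨?_, ?_, ?_, ?_, ?_, ?_, ?_, ?_, ?_, ?_⟩ <;> decide +kernel

namespace SData

variable {G : Type*} [Group G] [Finite G] (T : SData G)

/-- An involution centralising the two transpositions. -/
theorem exists_witness : ∃ y : G, y * y = 1 ∧ y * T.φ (swap 0 3) = T.φ (swap 0 3) * y ∧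
    y * T.φ (swap 1 4) = T.φ (swap 1 4) * y ∧ (∀ f ∈ T.pE, ∀ g : G, g * T.t * g⁻¹ ≠ y * f) ∧
    ∃ g : G, g * T.i * g⁻¹ = y * T.φ (swap 1 4) := by
  obtain ⟨⟨ρ, hρa, hρb⟩, ⟨ρ₁, hρ₁⟩, ⟨ρ₂, hρ₂⟩, hσ2, hσ45, w1, w2, w3, w7, k00⟩ := witness_facts
  set σ₀ : Perm (Fin 6) := swap 0 3 * swap 1 2 with hσ₀
  set w := T.φ σ₀ with hw
  set g := T.φ ρ * T.D.w 0 5 with hg
  have hgt : g * T.t * g⁻¹ = T.φ (swap 0 3) := by
    have e : T.D.w 0 5 * T.t * (T.D.w 0 5)⁻¹ = T.φ (swap 1 2) := by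
      rw [mul_inv_eq_iff_eq_mul, T.t_a_eq, t, T.D.w_mul, T.D.w_mul, w1, w2]
    calc g * T.t * g⁻¹ = T.φ ρ * (T.D.w 0 5 * T.t * (T.D.w 0 5)⁻¹) * (T.φ ρ)⁻¹ := by rw [hg]; group
      _ = _ := by rw [e]; exact T.φ_conj hρa
  have hgb : g * T.φ (swap 4 5) * g⁻¹ = T.φ (swap 1 4) := by
    have e : T.D.w 0 5 * T.φ (swap 4 5) * (T.D.w 0 5)⁻¹ = T.φ (swap 4 5) := by
      rw [mul_inv_eq_iff_eq_mul, T.t_b_eq, T.D.w_mul, T.D.w_mul, w3, w2]
    calc g * T.φ (swap 4 5) * g⁻¹ = T.φ ρ * (T.D.w 0 5 * T.φ (swap 4 5) * (T.D.w 0 5)⁻¹) * (T.φ ρ)⁻¹ := by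
          rw [hg]; group
      _ = _ := by rw [e]; exact T.φ_conj hρb
  have hmul : ∀ x y : G, g * x * g⁻¹ * (g * y * g⁻¹) = g * (x * y) * g⁻¹ := fun x y => by group
  have hwt : w * T.t = T.t * w := T.φ_comm_t σ₀
  have hwb : w * T.φ (swap 4 5) = T.φ (swap 4 5) * w := by rw [hw, ← map_mul, ← map_mul, hσ45]
  refine ⟨g * w * g⁻¹, ?_, ?_, ?_, ?_, ?_⟩
  · rw [hmul, hw, ← map_mul, hσ2, map_one, mul_one, mul_inv_cancel]
  · rw [← hgt, hmul, hmul, hwt]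
  · rw [← hgb, hmul, hmul, hwb]
  · -- the four classes
    have hz : ∃ h : G, h * w * h⁻¹ = T.D.w 6 0 := ⟨T.φ ρ₁, by rw [hw, T.φ_conj hρ₁]; exact T.K.z_eq⟩
    have hi : ∃ h : G, h * (w * T.φ (swap 4 5)) * h⁻¹ = T.i :=
      ⟨T.φ ρ₂, by rw [hw, ← map_mul, T.φ_conj hρ₂, ← T.i_eq]⟩
    have hinv : ∃ h : G, h * (w * T.t) * h⁻¹ = T.D.w 7 0 := by
      refine ⟨T.φ ρ₁, ?_⟩
      have hc : Commute (T.φ ρ₁) T.t := T.φ_comm_t ρ₁
      calc T.φ ρ₁ * (w * T.t) * (T.φ ρ₁)⁻¹ = T.φ ρ₁ * w * (T.φ ρ₁)⁻¹ * (T.φ ρ₁ * T.t * (T.φ ρ₁)⁻¹) := by group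
        _ = T.D.w 6 0 * T.t := by rw [hc.eq, mul_inv_cancel_right, hw, T.φ_conj hρ₁, T.K.z_eq]
        _ = T.D.w 7 0 := by rw [t, T.D.w_mul, w7, k00]
    have hti : ∃ h : G, h * (w * T.φ (swap 4 5) * T.t) * h⁻¹ = T.t * T.i := by
      refine ⟨T.φ ρ₂, ?_⟩
      have hc : Commute (T.φ ρ₂) T.t := T.φ_comm_t ρ₂
      calc T.φ ρ₂ * (w * T.φ (swap 4 5) * T.t) * (T.φ ρ₂)⁻¹
          = T.φ ρ₂ * (w * T.φ (swap 4 5)) * (T.φ ρ₂)⁻¹ * (T.φ ρ₂ * T.t * (T.φ ρ₂)⁻¹) := by group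
        _ = T.i * T.t := by rw [hc.eq, mul_inv_cancel_right, hw, ← map_mul, T.φ_conj hρ₂, ← T.i_eq]
        _ = T.t * T.i := T.t_comm_i.symm
    have htzp : ∀ h : G, h * T.t * h⁻¹ ≠ T.t * T.i := fun h => by
      rw [T.ti_eq]; exact T.S.t_not_zp T.D h
    rintro _ ⟨τ, hτ, rfl⟩ h e
    have key : ∀ {x : G}, g * w * g⁻¹ * T.φ τ = g * x * g⁻¹ → ∃ k : G, k * T.t * k⁻¹ = x := fun {x} hx =>
      ⟨g⁻¹ * h, by
        calc g⁻¹ * h * T.t * (g⁻¹ * h)⁻¹ = g⁻¹ * (h * T.t * h⁻¹) * g := by group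
          _ = x := by rw [e, hx]; group⟩
    rcases hτ with rfl | rfl | rfl | rfl
    · exact ne_of_conj T.t_not_z (key (x := w) (by rw [map_one, mul_one])) hz rfl
    · exact ne_of_conj T.t_not_inv (key (x := w * T.t) (by rw [← hgt, hmul])) hinv rfl
    · exact ne_of_conj T.t_not_i (key (x := w * T.φ (swap 4 5)) (by rw [← hgb, hmul])) hi rfl
    · refine ne_of_conj htzp (key (x := w * T.φ (swap 4 5) * T.t) ?_) hti rfl
      rw [map_mul, ← hgt, ← hgb, hmul, hmul]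
      congr 2
      rw [← T.φ_comm_t (swap 4 5)]
      group
  · refine ⟨g * (T.φ ρ₂)⁻¹, ?_⟩
    have e : T.φ ρ₂ * (w * T.φ (swap 4 5)) * (T.φ ρ₂)⁻¹ = T.i := by rw [hw, ← map_mul, T.φ_conj hρ₂, ← T.i_eq]
    rw [← hgb, hmul, ← e]
    group

/-- The centralizer of the two transpositions. -/
noncomputable def X₂ : Subgroup G := centralizer ({T.φ (swap 0 3)} : Set G) ⊓ centralizer {T.φ (swap 1 4)}

theorem mem_X₂ {x : G} : x ∈ T.X₂ ↔
    x * T.φ (swap 0 3) = T.φ (swap 0 3) * x ∧ x * T.φ (swap 1 4) = T.φ (swap 1 4) * x := by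
  rw [X₂, mem_inf, mem_centralizer_singleton_iff, mem_centralizer_singleton_iff]

theorem X₂_comm_pE {x f : G} (hx : x ∈ T.X₂) (hf : f ∈ T.pE) : x * f = f * x := by
  obtain ⟨h1, h2⟩ := T.mem_X₂.1 hx
  obtain ⟨σ, hσ, rfl⟩ := hf
  rcases hσ with rfl | rfl | rfl | rfl
  · rw [map_one, mul_one, one_mul]
  · exact h1
  · exact h2
  · rw [map_mul]; exact ((show Commute x _ from h1).mul_right (show Commute x _ from h2)).eq

theorem E_le_X₂ : T.E ≤ T.X₂ := fun _ he =>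
  T.mem_X₂.2 ⟨T.E_comm he (T.φ_mem_E inE_facts.2.1), T.E_comm he (T.φ_mem_E inE_facts.2.2.1)⟩

theorem O_le_X₂ : T.O ≤ T.X₂ := fun _ ho =>
  T.mem_X₂.2 ⟨T.O_comm_E ho (T.φ_mem_E inE_facts.2.1), T.O_comm_E ho (T.φ_mem_E inE_facts.2.2.1)⟩

theorem t_mem_X₂ : T.t ∈ T.X₂ :=
  T.mem_X₂.2 ⟨(T.E_comm_t (T.φ_mem_E inE_facts.2.1)).symm, (T.E_comm_t (T.φ_mem_E inE_facts.2.2.1)).symm⟩

theorem pair_normal : (T.pE.subgroupOf T.X₂).Normal := ⟨fun f hf x => mem_subgroupOf.2 (by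
  rw [Subgroup.coe_mul, Subgroup.coe_mul, InvMemClass.coe_inv, T.X₂_comm_pE x.2 (mem_subgroupOf.1 hf),
    mul_inv_cancel_right]
  exact mem_subgroupOf.1 hf)⟩

/-- Conjugates of the swap in its coset modulo the two transpositions. -/
theorem i_coset {y : G} (hy : ∃ g : G, g * T.i * g⁻¹ = y) (hc : y * T.i ∈ T.pE) : y = T.i :=
  T.E_i (by
    rw [show y = y * T.i * T.i by rw [mul_assoc, T.i_sq, mul_one]]
    exact mul_mem (T.pE_le_E hc) T.i_mem_E) hy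

theorem modC_of_comm {u : G} (hu : u ∈ T.X₂) (hui : u * T.i = T.i * u) : u ∈ T.modC T.E := by
  refine ⟨hui, ?_⟩
  rintro _ ⟨τ, hτ, rfl⟩
  obtain ⟨a, b, c, rfl⟩ := E_span τ hτ
  left
  rw [mul_inv_eq_one, mul_inv_eq_iff_eq_mul, map_mul, map_mul, map_pow, map_pow, map_pow, ← T.i_eq]
  exact ((((show Commute u _ from (T.mem_X₂.1 hu).1)).pow_right a.val).mul_right
    ((show Commute u _ from (T.mem_X₂.1 hu).2).pow_right b.val)).mul_right
    ((show Commute u T.i from hui).pow_right c.val)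

/-- The core extended by the sign change. -/
noncomputable def OT : Subgroup G where
  carrier := {g | g ∈ T.O ∨ g * T.t ∈ T.O}
  one_mem' := Or.inl (one_mem _)
  mul_mem' := by
    rintro x y (hx | hx) (hy | hy)
    · exact Or.inl (mul_mem hx hy)
    · exact Or.inr (by rw [mul_assoc]; exact mul_mem hx hy)
    · refine Or.inr ?_
      have e : x * y * T.t = x * T.t * (T.t * y * T.t) := by
        rw [show x * T.t * (T.t * y * T.t) = x * (T.t * T.t) * y * T.t by group, T.t_sq, mul_one]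
      rw [e]; exact mul_mem hx (T.t_conj_O hy)
    · refine Or.inl ?_
      have e : x * y = x * T.t * (T.t * (y * T.t) * T.t) := by
        rw [show x * T.t * (T.t * (y * T.t) * T.t) = x * (T.t * T.t) * y * (T.t * T.t) by group, T.t_sq, mul_one,
          mul_one]
      rw [e]; exact mul_mem hx (T.t_conj_O hy)
  inv_mem' := by
    rintro x (hx | hx)
    · exact Or.inl (inv_mem hx)
    · refine Or.inr ?_
      have := T.t_conj_O (inv_mem hx)
      rw [mul_inv_rev, T.t_inv, ← mul_assoc, T.t_sq, one_mul] at this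
      exact this

theorem OT_le_X₂ : T.OT ≤ T.X₂ := by
  rintro x (hx | hx)
  · exact T.O_le_X₂ hx
  · rw [show x = x * T.t * T.t by rw [mul_assoc, T.t_sq, mul_one]]
    exact mul_mem (T.O_le_X₂ hx) T.t_mem_X₂

theorem OT_eight {x : G} (hx : x ∈ T.OT) : x ^ 8 = 1 := by
  rcases hx with hx | hx
  · rw [show 8 = 4 * 2 by rfl, pow_mul, T.O_four hx, one_pow]
  · have hsq : x ^ 2 ∈ T.O := by
      have e : x ^ 2 = x * T.t * (T.t * (x * T.t) * T.t) := by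
        rw [pow_two, show x * T.t * (T.t * (x * T.t) * T.t) = x * (T.t * T.t) * x * (T.t * T.t) by group, T.t_sq,
          mul_one, mul_one]
      rw [e]; exact mul_mem hx (T.t_conj_O hx)
    rw [show 8 = 2 * 4 by rfl, pow_mul, T.O_four hsq]

/-- Elements central modulo the pair lie in the elementary group. -/
theorem OT_central {y : G} (hy : y ∈ T.OT) (hc : ∀ q ∈ T.Q, y * q * y⁻¹ * q⁻¹ ∈ T.pE)
    (hc' : ∀ r ∈ T.Q', y * r * y⁻¹ * r⁻¹ ∈ T.pE) : y ∈ T.E := by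
  obtain ⟨q₀, hq₀, hq01, hq0i⟩ := T.exists_four
  rcases hy with hy | hy
  · obtain ⟨e, he, q, hq, r, hr, rfl⟩ := hy
    have hcommQ : ∀ s ∈ T.Q, q * s = s * q := fun s hs => by
      have h := hc s hs
      have e1 : e * q * r * s * (e * q * r)⁻¹ * s⁻¹ = e * (q * (r * s * r⁻¹) * q⁻¹) * e⁻¹ * s⁻¹ := by group
      rw [e1, ← T.Q_comm_Q' hs hr, mul_inv_cancel_right,
        ← T.Q_comm_E _ (mul_mem (mul_mem hq hs) (inv_mem hq)) e he, mul_inv_cancel_right] at h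
      rcases T.E_meet_Q (T.pE_le_E h) (mul_mem (mul_mem (mul_mem hq hs) (inv_mem hq)) (inv_mem hs)) with h1 | h1
      · exact mul_inv_eq_iff_eq_mul.1 (mul_inv_eq_one.1 h1)
      · rw [h1] at h; exact absurd h T.i_not_pE
    have hcommQ' : ∀ s ∈ T.Q', r * s = s * r := fun s hs => by
      have h := hc' s hs
      have hes : Commute (e * q) (r * s * r⁻¹) := by
        have hm : r * s * r⁻¹ ∈ T.Q' := mul_mem (mul_mem hr hs) (inv_mem hr)
        exact (show Commute e (r * s * r⁻¹) from (T.Q'_comm_E hm he).symm).mul_left (T.Q_comm_Q' hq hm)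
      have e1 : e * q * r * s * (e * q * r)⁻¹ * s⁻¹ = e * q * (r * s * r⁻¹) * (e * q)⁻¹ * s⁻¹ := by group
      rw [e1, hes.eq, mul_inv_cancel_right] at h
      have hm : r * s * r⁻¹ * s⁻¹ ∈ T.Q' := mul_mem (mul_mem (mul_mem hr hs) (inv_mem hr)) (inv_mem hs)
      have h2 : T.t * (r * s * r⁻¹ * s⁻¹) * T.t = r * s * r⁻¹ * s⁻¹ := by
        rw [← T.E_comm_t (T.pE_le_E h), mul_assoc, T.t_sq, mul_one]
      rcases T.E_meet_Q (T.pE_le_E h) (h2 ▸ T.mem_Q'.1 hm) with h1 | h1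
      · exact mul_inv_eq_iff_eq_mul.1 (mul_inv_eq_one.1 h1)
      · rw [h1] at h; exact absurd h T.i_not_pE
    have hcen : ∀ {x : G}, x ∈ T.Q → (∀ s ∈ T.Q, x * s = s * x) → x ∈ T.E := fun {x} hx hxs => by
      by_contra hne
      have h1 : x ≠ 1 := fun e => hne (e ▸ one_mem _)
      have hi : x ≠ T.i := fun e => hne (e ▸ T.i_mem_E)
      have := T.Q_anti hx h1 hi
      rw [hxs _ (T.e3_Q hx), mul_inv_cancel_right] at this
      exact T.i_ne (mul_eq_left.1 this.symm)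
    have hr' : T.t * r * T.t ∈ T.E := hcen (T.mem_Q'.1 hr) fun s hs => by
      rw [← T.t_t s, T.t_conj_mul, T.t_conj_mul, hcommQ' _ (T.t_Q hs)]
    refine mul_mem (mul_mem he (hcen hq hcommQ)) ?_
    rw [← T.t_t r, ← T.E_comm_t hr', mul_assoc, T.t_sq, mul_one]
    exact hr'
  · exfalso
    obtain ⟨e, he, q, hq, r, hr, he'⟩ := hy
    have hyt : y = e * q * r * T.t := by rw [← he', mul_assoc, T.t_sq, mul_one]
    have h := hc q₀ hq₀
    have htq := T.t_Q hq₀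
    set r' := r * (T.t * q₀ * T.t) * r⁻¹ with hr'
    have hr'Q : r' ∈ T.Q' := mul_mem (mul_mem hr htq) (inv_mem hr)
    have e1 : y * q₀ * y⁻¹ = r' := by
      have hc2 : Commute (e * q) r' :=
        (show Commute e r' from (T.Q'_comm_E hr'Q he).symm).mul_left (T.Q_comm_Q' hq hr'Q)
      rw [hyt, show e * q * r * T.t * q₀ * (e * q * r * T.t)⁻¹ = e * q * (r * (T.t * q₀ * T.t⁻¹) * r⁻¹) * (e * q)⁻¹ by
        group, T.t_inv, ← hr', hc2.eq, mul_inv_cancel_right]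
    rw [e1] at h
    refine T.Q_mul_E_not_Q' hq₀ hq01 hq0i (T.pE_le_E h) ?_
    rw [inv_mul_cancel_right]
    exact hr'Q

/-- Some class of the core avoids the sign change. -/
theorem exists_TFree : ∃ q ∈ T.Q, ∃ r ∈ T.Q', q ≠ 1 ∧ q ≠ T.i ∧ r ≠ 1 ∧ r ≠ T.i ∧ T.TFree (q * r) := by
  classical
  haveI : Fact (Nat.Prime 2) := ⟨Nat.prime_two⟩
  haveI := T.pair_normal
  obtain ⟨w, hw2, hw03, hw14, hwt, hwi⟩ := T.exists_witness
  have hwX : w ∈ T.X₂ := T.mem_X₂.2 ⟨hw03, hw14⟩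
  let mk := QuotientGroup.mk' (T.pE.subgroupOf T.X₂)
  have hmk1 : ∀ x : T.X₂, mk x = 1 ↔ (x : G) ∈ T.pE := fun x => (QuotientGroup.eq_one_iff x).trans mem_subgroupOf
  have hpO : T.pE ≤ T.OT := fun f hf => Or.inl (T.E_le_O (T.pE_le_E hf))
  set T₂ := (T.OT.subgroupOf T.X₂).map mk with hT₂
  have hmemT : ∀ {x : T.X₂}, mk x ∈ T₂ → (x : G) ∈ T.OT := fun {x} hx => by
    obtain ⟨y, hy, e⟩ := hx
    have h1 := (hmk1 (y⁻¹ * x)).1 (by rw [map_mul, map_inv, e, inv_mul_cancel])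
    have : (x : G) = (y : G) * ((y : G)⁻¹ * x) := by group
    rw [this]
    exact mul_mem (mem_subgroupOf.1 hy) (hpO h1)
  have hp2 : IsPGroup 2 T₂ := by
    rintro ⟨_, y, hy, rfl⟩
    refine ⟨3, Subtype.ext ?_⟩
    show mk y ^ 8 = 1
    rw [← map_pow, show y ^ 8 = 1 from Subtype.ext (by simpa using T.OT_eight (mem_subgroupOf.1 hy)), map_one]
  obtain ⟨P, hP⟩ := hp2.exists_le_sylow
  have hPT : (P : Subgroup (T.X₂ ⧸ T.pE.subgroupOf T.X₂)) = T₂ := by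
    by_contra hne
    haveI : Group.IsNilpotent (P : Subgroup (T.X₂ ⧸ T.pE.subgroupOf T.X₂)) := P.isPGroup'.isNilpotent
    have hlt : T₂.subgroupOf (P : Subgroup _) < ⊤ := by
      rw [lt_top_iff_ne_top, Ne, subgroupOf_eq_top]
      exact fun h' => hne (le_antisymm h' hP)
    obtain ⟨ū, hu, huT⟩ := SetLike.exists_of_lt (Group.normalizerCondition_of_isNilpotent _ hlt)
    rw [mem_subgroupOf] at huT
    obtain ⟨u, hue⟩ := QuotientGroup.mk'_surjective _ (ū : T.X₂ ⧸ T.pE.subgroupOf T.X₂)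
    have hnT : ∀ {x}, x ∈ T₂ → mk u * x * (mk u)⁻¹ ∈ T₂ := fun {x} hx => by
      have := (mem_normalizer_iff.1 hu ⟨x, hP hx⟩).1 hx
      change mk u * x * (mk u)⁻¹ ∈ T₂
      rw [show mk u = (ū : T.X₂ ⧸ T.pE.subgroupOf T.X₂) from hue]
      exact this
    have hiX : T.i ∈ T.X₂ := T.E_le_X₂ T.i_mem_E
    set y : T.X₂ := u * ⟨T.i, hiX⟩ * u⁻¹ with hy
    have hiT : mk ⟨T.i, hiX⟩ ∈ T₂ :=
      ⟨⟨T.i, hiX⟩, mem_subgroupOf.2 (Or.inl (T.E_le_O T.i_mem_E)), rfl⟩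
    have hyOT : (y : G) ∈ T.OT := hmemT (by rw [hy, map_mul, map_mul, map_inv]; exact hnT hiT)
    have hcen : ∀ s ∈ T.OT, ∀ hs : s ∈ T.X₂,
        s * T.i * s⁻¹ * T.i⁻¹ ∈ T.pE → (mk ⟨s, hs⟩ * mk ⟨T.i, hiX⟩ = mk ⟨T.i, hiX⟩ * mk ⟨s, hs⟩) :=
      fun s _ hs h => by
        have := (hmk1 (⟨s, hs⟩ * ⟨T.i, hiX⟩ * ⟨s, hs⟩⁻¹ * ⟨T.i, hiX⟩⁻¹)).2 h
        rw [map_mul, map_mul, map_mul, map_inv, map_inv, mul_inv_eq_one, mul_inv_eq_iff_eq_mul] at this
        exact this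
    have hcomT : ∀ x ∈ T₂, x * mk ⟨T.i, hiX⟩ = mk ⟨T.i, hiX⟩ * x := by
      rintro _ ⟨⟨s, hs⟩, hsT, rfl⟩
      refine hcen s (mem_subgroupOf.1 hsT) hs ?_
      have hsi : Commute s T.i := by
        rcases mem_subgroupOf.1 hsT with h | h
        · exact T.O_comm_E h T.i_mem_E
        · have := (show Commute (s * T.t) T.i from T.O_comm_E h T.i_mem_E).mul_left
            (show Commute T.t T.i from T.t_comm_i)
          rwa [mul_assoc, T.t_sq, mul_one] at this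
      rw [hsi.eq, mul_inv_cancel_right, mul_inv_cancel]
      exact one_mem _
    have hcy : ∀ s ∈ T.OT, (y : G) * s * (y : G)⁻¹ * s⁻¹ ∈ T.pE := fun s hs => by
      have hsX := T.OT_le_X₂ hs
      refine (hmk1 (y * ⟨s, hsX⟩ * y⁻¹ * ⟨s, hsX⟩⁻¹)).1 ?_
      set x := mk ⟨s, hsX⟩
      have hxT : x ∈ T₂ := ⟨⟨s, hsX⟩, mem_subgroupOf.2 hs, rfl⟩
      have hf : Function.Surjective (fun z : T₂ => (⟨mk u * z * (mk u)⁻¹, hnT z.2⟩ : T₂)) :=
        Finite.surjective_of_injective fun a b e => Subtype.ext (by simpa using congrArg Subtype.val e)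
      obtain ⟨z, hz⟩ := hf ⟨x, hxT⟩
      have hz' : mk u * (z : T.X₂ ⧸ T.pE.subgroupOf T.X₂) * (mk u)⁻¹ = x := congrArg Subtype.val hz
      rw [map_mul, map_mul, map_mul, map_inv, map_inv, mul_inv_eq_one, mul_inv_eq_iff_eq_mul, hy, map_mul, map_mul,
        map_inv]
      change mk u * mk ⟨T.i, hiX⟩ * (mk u)⁻¹ * x = x * (mk u * mk ⟨T.i, hiX⟩ * (mk u)⁻¹)
      rw [← hz']
      calc mk u * mk ⟨T.i, hiX⟩ * (mk u)⁻¹ * (mk u * (z : T.X₂ ⧸ T.pE.subgroupOf T.X₂) * (mk u)⁻¹)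
          = mk u * (mk ⟨T.i, hiX⟩ * z) * (mk u)⁻¹ := by group
        _ = _ := by rw [← hcomT z z.2]; group
    have hyE : (y : G) ∈ T.E := T.OT_central hyOT (fun q hq => hcy q (Or.inl (T.Q_le_O hq)))
      fun r hr => hcy r (Or.inl (T.Q'_le_O hr))
    have hyi : (y : G) = T.i := T.E_i hyE ⟨u, by rw [hy]; rfl⟩
    have hui : (u : G) * T.i = T.i * (u : G) := mul_inv_eq_iff_eq_mul.1 hyi
    obtain ⟨l, m, o, ho, hul⟩ := T.modC_E_form (T.modC_of_comm u.2 hui)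
    have hcm : Commute (T.t ^ m.val) T.i := (show Commute T.t T.i from T.t_comm_i).pow_left _
    have htm : T.t ^ m.val ∈ T.OT := pow_mem (Or.inr (by rw [T.t_sq]; exact one_mem _)) _
    have he3X : T.v 1 ∈ T.X₂ :=
      T.mem_X₂.2 ⟨(T.E_comm_e3 (T.φ_mem_E inE_facts.2.1)).symm, (T.E_comm_e3 (T.φ_mem_E inE_facts.2.2.1)).symm⟩
    have hl : T.v 1 ^ l = 1 := by
      have hlX : T.v 1 ^ l ∈ T.X₂ := pow_mem he3X l
      have hmem : mk ⟨T.v 1 ^ l, hlX⟩ ∈ (P : Subgroup (T.X₂ ⧸ T.pE.subgroupOf T.X₂)) := by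
        have e : (⟨T.v 1 ^ l, hlX⟩ : T.X₂) =
            ⟨o, T.O_le_X₂ ho⟩⁻¹ * u * ⟨T.t ^ m.val, T.OT_le_X₂ htm⟩⁻¹ := Subtype.ext (by
          show T.v 1 ^ l = o⁻¹ * (u : G) * (T.t ^ m.val)⁻¹
          rw [hul]; group)
        rw [e, map_mul, map_mul, map_inv, map_inv]
        exact mul_mem (mul_mem (inv_mem (hP ⟨⟨o, T.O_le_X₂ ho⟩, mem_subgroupOf.2 (Or.inl ho), rfl⟩))
          (by rw [show mk u = (ū : T.X₂ ⧸ T.pE.subgroupOf T.X₂) from hue]; exact ū.2))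
          (inv_mem (hP ⟨⟨_, T.OT_le_X₂ htm⟩, mem_subgroupOf.2 htm, rfl⟩))
      obtain ⟨n, hn⟩ := P.isPGroup' ⟨_, hmem⟩
      have hn' : (T.v 1 ^ l) ^ 2 ^ n ∈ T.pE := (hmk1 (⟨T.v 1 ^ l, hlX⟩ ^ 2 ^ n)).1 (by
        rw [map_pow]; exact congrArg Subtype.val hn)
      have h2 : (T.v 1 ^ l) ^ (2 ^ n * 2) = 1 := by rw [pow_mul, pow_two, T.E_sq (T.pE_le_E hn')]
      refine orderOf_eq_one_iff.1 (Nat.eq_one_of_dvd_coprimes ?_ (orderOf_dvd_of_pow_eq_one h2)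
        (orderOf_dvd_of_pow_eq_one (T.P_cube (pow_mem T.e3_mem_P l))))
      exact Nat.Coprime.mul_left (Nat.Coprime.pow_left _ (by norm_num)) (by norm_num)
    refine huT ?_
    rw [← hue]
    refine ⟨u, mem_subgroupOf.2 ?_, rfl⟩
    rw [hul, hl, one_mul]
    exact mul_mem (Or.inl ho) htm
  -- the witness is moved into the centralizer of the elementary group
  have hwp : IsPGroup 2 (zpowers (mk ⟨w, hwX⟩)) := by
    obtain ⟨m, -, hm⟩ := (Nat.dvd_prime_pow Nat.prime_two).1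
      (orderOf_dvd_of_pow_eq_one (show mk ⟨w, hwX⟩ ^ 2 ^ 1 = 1 by
        rw [← map_pow, show (⟨w, hwX⟩ : T.X₂) ^ 2 ^ 1 = 1 from Subtype.ext (by
          show w ^ 2 ^ 1 = 1
          rw [pow_one, pow_two, hw2]), map_one]))
    exact IsPGroup.of_card (n := m) (by rw [Nat.card_zpowers, hm])
  obtain ⟨R, hR⟩ := hwp.exists_le_sylow
  obtain ⟨hb, hh⟩ := MulAction.exists_smul_eq (T.X₂ ⧸ T.pE.subgroupOf T.X₂) R P
  obtain ⟨h, rfl⟩ := QuotientGroup.mk'_surjective _ hb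
  have hin : mk (h * ⟨w, hwX⟩ * h⁻¹) ∈ T₂ := by
    rw [← hPT, ← hh, Sylow.coe_subgroup_smul, map_mul, map_mul, map_inv]
    exact ⟨_, hR (mem_zpowers _), rfl⟩
  set y := (h : G) * w * (h : G)⁻¹ with hy
  have hyOT : y ∈ T.OT := hmemT hin
  have hy2 : y * y = 1 := by
    rw [hy, show (h : G) * w * (h : G)⁻¹ * ((h : G) * w * (h : G)⁻¹) = (h : G) * (w * w) * (h : G)⁻¹ by group, hw2]
    group
  have hyt : ∀ f ∈ T.pE, ∀ g : G, g * T.t * g⁻¹ ≠ y * f := fun f hf g hg => hwt f hf ((h : G)⁻¹ * g) (by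
    calc (h : G)⁻¹ * g * T.t * ((h : G)⁻¹ * g)⁻¹ = (h : G)⁻¹ * (g * T.t * g⁻¹) * h := by group
      _ = w * ((h : G)⁻¹ * (f * h)) := by rw [hg, hy]; group
      _ = w * f := by rw [← T.X₂_comm_pE h.2 hf, inv_mul_cancel_left])
  have hf14 : T.φ (swap 1 4) ∈ T.pE := T.φ_mem_pE (Or.inr (Or.inr (Or.inl rfl)))
  have hf03 : T.φ (swap 0 3) ∈ T.pE := T.φ_mem_pE (Or.inr (Or.inl rfl))
  obtain ⟨k, hk⟩ := hwi
  have hyi : (h : G) * k * T.i * ((h : G) * k)⁻¹ = y * T.φ (swap 1 4) := by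
    calc (h : G) * k * T.i * ((h : G) * k)⁻¹ = (h : G) * (k * T.i * k⁻¹) * (h : G)⁻¹ := by group
      _ = (h : G) * w * (T.φ (swap 1 4) * (h : G)⁻¹) := by rw [hk]; group
      _ = _ := by rw [← T.X₂_comm_pE (inv_mem h.2) hf14, hy]; group
  rcases hyOT with hyO | hyO
  · by_cases hyE : y ∈ T.E
    · exfalso
      have h1 := T.E_i (mul_mem hyE (T.pE_le_E hf14)) ⟨_, hyi⟩
      obtain ⟨u, hu⟩ := T.s_conj_t (σ := swap 2 5) (Or.inr (Or.inr rfl))
      refine hyt _ hf03 u ?_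
      rw [hu, ← T.i_pair, map_mul, ← h1]
      have hff : T.φ (swap 1 4) * T.φ (swap 1 4) = 1 := T.E_sq (T.pE_le_E hf14)
      rw [T.E_comm (T.pE_le_E hf03) (T.pE_le_E hf14), ← mul_assoc, mul_assoc y, hff, mul_one]
    · obtain ⟨e, he, q, hq, r, hr, hq1, hqi, hr1, hri, hye⟩ := T.O_invol hyO hy2 hyE
      refine ⟨q, hq, r, hr, hq1, hqi, hr1, hri, ?_⟩
      have hyqr : ∀ e' ∈ T.E, q * r * e' = y * (e * e') := fun e' _ => by
        have hc : Commute (q * r) e :=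
          (show Commute q e from T.Q_comm_E q hq e he).mul_left (T.Q'_comm_E hr he)
        rw [hye, show e * q * r * (e * e') = e * (q * r * e) * e' by group, hc.eq, ← mul_assoc, T.E_sq he, one_mul]
      intro e' he' g hg
      rw [hyqr e' he'] at hg
      rcases T.E_split (mul_mem he he') with hc | hc
      · exact hyt _ hc g hg
      · -- conjugating by an element inverting `q`
        set s := T.v 1 * q * (T.v 1)⁻¹ with hs
        have hsQ : s ∈ T.Q := T.e3_Q hq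
        have hsq : s * q * s⁻¹ = q * T.i := by
          have hqa := T.Q_anti hq hq1 hqi
          rw [← hs, mul_inv_eq_iff_eq_mul] at hqa
          rw [mul_inv_eq_iff_eq_mul]
          calc s * q = s * (q * T.i) * T.i := by rw [mul_assoc s, mul_assoc q T.i, T.i_sq, mul_one]
            _ = s * T.i * q * T.i := by rw [T.Q_comm_i hq, ← mul_assoc s]
            _ = q * s * T.i := by rw [hqa]
            _ = q * T.i * s := by rw [mul_assoc q s, T.Q_comm_i hsQ, ← mul_assoc q]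
        have hys : s * y * s⁻¹ = y * T.i := by
          have hse : Commute s e := T.Q_comm_E s hsQ e he
          have hsr : Commute s r := T.Q_comm_Q' hsQ hr
          rw [hye]
          calc s * (e * q * r) * s⁻¹ = (s * e) * q * (r * s⁻¹) := by group
            _ = e * (s * q * s⁻¹) * r := by rw [hse.eq, ← hsr.inv_left.eq]; group
            _ = e * q * r * T.i := by rw [hsq, show e * (q * T.i) * r = e * q * (T.i * r) by group, ← T.Q'_comm_i hr]; group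
        refine hyt _ hc (s⁻¹ * g) ?_
        calc s⁻¹ * g * T.t * (s⁻¹ * g)⁻¹ = s⁻¹ * (g * T.t * g⁻¹) * s := by group
          _ = s⁻¹ * (y * T.i * (T.i * (e * e'))) * s := by
              rw [hg, mul_assoc y T.i, ← mul_assoc T.i T.i, T.i_sq, one_mul]
          _ = y * (s⁻¹ * (T.i * (e * e')) * s) := by rw [← hys]; group
          _ = _ := by
              rw [mul_assoc s⁻¹, ← T.Q_comm_E s hsQ _ (T.pE_le_E hc), inv_mul_cancel_left]
  · exfalso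
    have e14 : y * T.φ (swap 1 4) * T.t ∈ T.O := by
      rw [mul_assoc, T.E_comm_t (T.pE_le_E hf14), ← mul_assoc]
      exact mul_mem hyO (T.E_le_O (T.pE_le_E hf14))
    have h2 : y * T.φ (swap 1 4) * T.t * T.t * (y * T.φ (swap 1 4) * T.t * T.t) = 1 := by
      rw [mul_assoc _ T.t T.t, T.t_sq, mul_one]
      have hyX : y ∈ T.X₂ := T.OT_le_X₂ (Or.inr hyO)
      have hc : Commute y (T.φ (swap 1 4)) := T.X₂_comm_pE hyX hf14
      rw [hc.symm.mul_mul_mul_comm, hy2, T.E_sq (T.pE_le_E hf14), one_mul]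
    obtain ⟨q, hq, e, he, hqe⟩ := T.outer_invol e14 h2
    rw [mul_assoc _ T.t T.t, T.t_sq, mul_one, ← hyi] at hqe
    refine T.et_not_i he (q⁻¹ * ((h : G) * k)) ?_
    calc q⁻¹ * ((h : G) * k) * T.i * (q⁻¹ * ((h : G) * k))⁻¹
        = q⁻¹ * ((h : G) * k * T.i * ((h : G) * k)⁻¹) * q := by group
      _ = e * T.t := by rw [hqe]; group

/-- No element of the core outside the elementary group is conjugate to the sign change. -/
theorem O_not_t {o : G} (ho : o ∈ T.O) (hE : o ∉ T.E) (g : G) : g * T.t * g⁻¹ ≠ o := by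
  intro hg
  have h2 : o * o = 1 := by
    rw [← hg, show g * T.t * g⁻¹ * (g * T.t * g⁻¹) = g * (T.t * T.t) * g⁻¹ by group, T.t_sq]; group
  obtain ⟨q₀, hq₀, r₀, hr₀, h01, h0i, h02, h0j, hfree⟩ := T.exists_TFree
  obtain ⟨e, he, q, hq, r, hr, hq1, hqi, hr1, hri, rfl⟩ := T.O_invol ho h2 hE
  refine hfree.orbit T hq₀ hr₀ h01 h0i h02 h0j hq hr hq1 hqi hr1 hri e he g ?_
  rw [hg]
  exact ((show Commute e q from (T.Q_comm_E q hq e he).symm).mul_right (T.Q'_comm_E hr he).symm).eq ▸ by group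

end SData

end Cfsg.Lib.PSpThree
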