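import Cfsg.Agent.Lib.PSpThree.SixQMem
import Cfsg.Agent.S2593

/-!
# A split axis centralizer: the involution classes of the symplectic subgroup

There are four classes, pairwise not fused in the group; two numerical invariants of the permutation of the
non-zero vectors tell them apart.
-/

set_option autoImplicit false
set_option maxHeartbeats 1600000
set_option maxRecDepth 100000
set_option linter.unusedSectionVars false
set_option linter.style.haveILetI false
set_option synthInstance.maxSize 5000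

namespace Cfsg.Lib.PSpThree

open Subgroup Cfsg.Lib.SymNine Equiv SpSeven

namespace SpSeven

/-- The symplectic form on labels. -/
def bB (x y : ℕ) : Bool :=
  (Nat.testBit (x + 1) 0 && Nat.testBit (y + 1) 3) != ((Nat.testBit (x + 1) 3 && Nat.testBit (y + 1) 0) !=
    ((Nat.testBit (x + 1) 1 && Nat.testBit (y + 1) 4) != ((Nat.testBit (x + 1) 4 && Nat.testBit (y + 1) 1) !=
      ((Nat.testBit (x + 1) 2 && Nat.testBit (y + 1) 5) != (Nat.testBit (x + 1) 5 && Nat.testBit (y + 1) 2)))))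

theorem bB_sImg : ∀ i : Fin 7, ∀ x y : Fin 63, bB (sImg i x) (sImg i y) = bB x y := by decide +kernel

theorem bB_wPerm (L : List (Fin 7)) (x y : Fin 63) : bB (wPerm L x : ℕ) (wPerm L y : ℕ) = bB x y := by
  induction L with
  | nil => simp [wPerm]
  | cons i L ih =>
    rw [show wPerm (i :: L) = sRef i * wPerm L by simp [wPerm], Perm.mul_apply, Perm.mul_apply,
      show ∀ z : Fin 63, (sRef i z : ℕ) = sImg i z from fun z => (sTab_ok i z).symm,
      show ∀ z : Fin 63, (sRef i z : ℕ) = sImg i z from fun z => (sTab_ok i z).symm, bB_sImg, ih]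

/-- The number of fixed vectors. -/
def fixN (L : List (Fin 7)) : ℕ := (Finset.univ.filter fun x : Fin 63 => wImg L x = (x : ℕ)).card

/-- No vector meets its image. -/
def altB (L : List (Fin 7)) : Bool := (List.finRange 63).all fun x => !bB (x : ℕ) (wImg L x)

/-- The invariants. -/
def clOf (L : List (Fin 7)) : ℕ × Bool := (fixN L, altB L)

theorem fixN_eq (L : List (Fin 7)) : fixN L = (Finset.univ.filter fun x : Fin 63 => wPerm L x = x).card := by
  refine congrArg Finset.card (Finset.filter_congr fun x _ => ?_)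
  rw [Fin.ext_iff, wPerm_apply]

theorem altB_iff (L : List (Fin 7)) : altB L = true ↔ ∀ x : Fin 63, bB (x : ℕ) (wPerm L x : ℕ) = false := by
  simp [altB, wPerm_apply]

theorem clOf_conj {g L M : List (Fin 7)} (h : wPerm g * wPerm L * (wPerm g)⁻¹ = wPerm M) : clOf L = clOf M := by
  have hM : ∀ x, wPerm M (wPerm g x) = wPerm g (wPerm L x) := fun x => by
    rw [← h, Perm.mul_apply, Perm.mul_apply, Perm.inv_def, Equiv.symm_apply_apply]
  refine Prod.ext ?_ ?_
  · show fixN L = fixN M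
    rw [fixN_eq, fixN_eq]
    refine Finset.card_equiv (wPerm g) fun x => ?_
    simp [hM]
  · show altB L = altB M
    refine Bool.eq_iff_iff.2 ?_
    rw [altB_iff, altB_iff]
    constructor
    · intro hL y
      obtain ⟨x, rfl⟩ := (wPerm g).surjective y
      rw [hM, bB_wPerm, hL]
    · intro hL x
      rw [← bB_wPerm g, ← hM, hL]

end SpSeven

/-- Words for the four classes. -/
def repW : Fin 4 → List (Fin 7) := ![[2], iW, uW ++ [6], [2] ++ iW]

theorem repW_facts :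
    (∀ k : Fin 4, (∀ x : Fin 63, wImg (repW k ++ repW k) x = wImg [] x) ∧ ∃ x : Fin 63, wImg (repW k) x ≠ wImg [] x) ∧
    (∀ k l : Fin 4, clOf (repW k) = clOf (repW l) → k = l) := by
  refine ⟨?_, ?_⟩ <;> decide +kernel

namespace SData

variable {G : Type*} [Group G] [Finite G] (T : SData G)

theorem exists_wd {g : G} (hg : g ∈ T.H) : ∃ L, T.wd L = g := by
  obtain ⟨x, rfl⟩ := hg
  obtain ⟨L, rfl⟩ := wElt_surjective x
  exact ⟨L, rfl⟩

theorem wd_toH (L : List (Fin 7)) : T.toH (toSp (wElt L)) = T.wd L := T.toH_toSp _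

theorem wPerm_of_wd {L M : List (Fin 7)} (h : T.wd L = T.wd M) : wPerm L = wPerm M := by
  rw [← T.wd_toH, ← T.wd_toH] at h
  have e := congrArg Cfsg.Lib.SpSix.spRep (T.toH_injective h)
  rwa [spRep_toSp, spRep_toSp, rho_wElt, rho_wElt] at e

/-- The four representatives. -/
noncomputable def rep (k : Fin 4) : G := T.wd (repW k)

theorem rep_t : T.rep 0 = T.t := T.wd_single 2

theorem rep_i : T.rep 1 = T.i := T.wd_iW

theorem rep_z : T.rep 2 = T.D.w 6 0 := by
  show T.wd (uW ++ [6]) = _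
  rw [T.wd_append, T.wd_uW, T.wd_single, ← T.K.z_eq, map_mul]
  rfl

theorem rep_ti : T.rep 3 = T.t * T.i := by
  show T.wd ([2] ++ iW) = _
  rw [T.wd_append, T.wd_single, T.wd_iW]
  rfl

theorem rep_mem (k : Fin 4) : T.rep k ∈ T.H := T.wd_mem _

theorem rep_sq (k : Fin 4) : T.rep k * T.rep k = 1 := by
  rw [rep, ← T.wd_append, ← T.wd_nil]; exact T.wd_eq' (repW_facts.1 k).1

theorem rep_ne_one (k : Fin 4) : T.rep k ≠ 1 := by
  rw [rep, ← T.wd_nil]; exact T.wd_ne (repW_facts.1 k).2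

/-- The representatives are not fused in the group. -/
theorem rep_distinct (k l : Fin 4) (g : G) (hg : g * T.rep k * g⁻¹ = T.rep l) : k = l := by
  have hzp : ∀ g : G, g * T.t * g⁻¹ ≠ T.t * T.i := fun g => by
    rw [T.ti_eq]; exact T.S.t_not_zp T.D g
  have key : ∀ k l : Fin 4, k < l → ∀ g : G, g * T.rep k * g⁻¹ ≠ T.rep l := by
    intro k l hkl g
    fin_cases k <;> fin_cases l <;> first
      | exact absurd hkl (by decide)
      | skip
    · show g * T.rep 0 * g⁻¹ ≠ T.rep 1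
      rw [T.rep_t, T.rep_i]; exact T.t_not_i g
    · show g * T.rep 0 * g⁻¹ ≠ T.rep 2
      rw [T.rep_t, T.rep_z]; exact T.t_not_z g
    · show g * T.rep 0 * g⁻¹ ≠ T.rep 3
      rw [T.rep_t, T.rep_ti]; exact hzp g
    · show g * T.rep 1 * g⁻¹ ≠ T.rep 2
      rw [T.rep_i, T.rep_z]; exact T.i_not_z g
    · show g * T.rep 1 * g⁻¹ ≠ T.rep 3
      rw [T.rep_i, T.rep_ti]; exact T.i_not_ti g
    · show g * T.rep 2 * g⁻¹ ≠ T.rep 3
      rw [T.rep_z, T.rep_ti]; exact T.z_not_ti g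
  rcases lt_trichotomy k l with h | h | h
  · exact absurd hg (key k l h g)
  · exact h
  · exact absurd (show g⁻¹ * T.rep l * g⁻¹⁻¹ = T.rep k by rw [← hg]; group) (key l k h g⁻¹)

/-- Every involution of the symplectic subgroup is conjugate to a representative. -/
theorem exists_rep {h : G} (hH : h ∈ T.H) (h1 : h ≠ 1) (h2 : h * h = 1) :
    ∃ k, ∃ x ∈ T.H, x * T.rep k * x⁻¹ = h := by
  classical
  have hord : ∀ A : Cfsg.Lib.SpSix.SpGrp, T.toH A ≠ 1 → T.toH A * T.toH A = 1 → orderOf A = 2 := fun A a1 a2 =>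
    orderOf_eq_prime (T.toH_injective (by rw [map_pow, pow_two, a2, map_one])) fun e => a1 (by rw [e, map_one])
  rw [← T.toH_range] at hH
  obtain ⟨A, rfl⟩ := hH
  set S := {C : ConjClasses Cfsg.Lib.SpSix.SpGrp // ∃ g, ConjClasses.mk g = C ∧ orderOf g = 2}
  let f : Fin 4 → S := fun k => ⟨ConjClasses.mk (toSp (wElt (repW k))), _, rfl,
    hord _ (by rw [T.wd_toH]; exact T.rep_ne_one k) (by rw [T.wd_toH]; exact T.rep_sq k)⟩
  have hinj : Function.Injective f := fun k l e => by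
    obtain ⟨c, hc⟩ := isConj_iff.1 (ConjClasses.mk_eq_mk_iff_isConj.1 (congrArg Subtype.val e))
    exact T.rep_distinct k l (T.toH c) (by rw [rep, rep, ← T.wd_toH, ← T.wd_toH, ← map_inv, ← map_mul, ← map_mul, hc])
  have hcard : Nat.card S = 4 := Cfsg.Agent.S2593.result (F := ZMod 2) (m := 3) (by norm_num)
  obtain ⟨k, hk⟩ := ((Nat.bijective_iff_injective_and_card f).2 ⟨hinj, by rw [hcard, Nat.card_fin]⟩).2
    ⟨ConjClasses.mk A, A, rfl, hord A h1 h2⟩
  obtain ⟨c, hc⟩ := isConj_iff.1 (ConjClasses.mk_eq_mk_iff_isConj.1 (congrArg Subtype.val hk))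
  exact ⟨k, T.toH c, T.toH_range ▸ ⟨c, rfl⟩, by rw [rep, ← T.wd_toH, ← map_inv, ← map_mul, ← map_mul, hc]⟩

theorem exists_rep_G {h : G} (hH : h ∈ T.H) (h1 : h ≠ 1) (h2 : h * h = 1) :
    ∃ k, ∃ g : G, g * T.rep k * g⁻¹ = h := by
  obtain ⟨k, x, -, e⟩ := T.exists_rep hH h1 h2
  exact ⟨k, x, e⟩

/-- Fusion of involutions is controlled by the symplectic subgroup. -/
theorem fusion {x y : G} (hx : x ∈ T.H) (hy : y ∈ T.H) (h1 : x ≠ 1) (h2 : x * x = 1)
    (h : ∃ g : G, g * x * g⁻¹ = y) : ∃ k ∈ T.H, k * x * k⁻¹ = y := by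
  obtain ⟨g, rfl⟩ := h
  obtain ⟨k, a, ha, rfl⟩ := T.exists_rep hx h1 h2
  obtain ⟨l, b, hb, e⟩ := T.exists_rep hy (fun e => h1 (conj_eq_one_iff.1 e))
    (by rw [show g * (a * T.rep k * a⁻¹) * g⁻¹ * (g * (a * T.rep k * a⁻¹) * g⁻¹) =
      g * (a * T.rep k * a⁻¹ * (a * T.rep k * a⁻¹)) * g⁻¹ by group, h2, mul_one, mul_inv_cancel])
  obtain rfl := T.rep_distinct k l (b⁻¹ * g * a) (by
    rw [show b⁻¹ * g * a * T.rep k * (b⁻¹ * g * a)⁻¹ = b⁻¹ * (g * (a * T.rep k * a⁻¹) * g⁻¹) * b by group, ← e]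
    group)
  refine ⟨b * a⁻¹, mul_mem hb (inv_mem ha), ?_⟩
  rw [← e]; group

/-- The class of a word from its invariants. -/
theorem cls_of_word {L : List (Fin 7)} (hsq : ∀ x : Fin 63, wImg (L ++ L) x = wImg [] x)
    (hne : ∃ x : Fin 63, wImg L x ≠ wImg [] x) {k : Fin 4} (hcl : clOf L = clOf (repW k)) :
    ∃ g ∈ T.H, g * T.rep k * g⁻¹ = T.wd L := by
  obtain ⟨l, x, hx, e⟩ := T.exists_rep (T.wd_mem L) (by rw [← T.wd_nil]; exact T.wd_ne hne)
    (by rw [← T.wd_append, ← T.wd_nil]; exact T.wd_eq' hsq)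
  obtain ⟨g, rfl⟩ := T.exists_wd hx
  have hc : clOf (repW l) = clOf L := clOf_conj (g := g) (by
    rw [← rho_wElt, ← rho_wElt, ← rho_wElt, ← map_inv, ← map_mul, ← map_mul, ← spRep_toSp, ← spRep_toSp]
    refine congrArg _ (T.toH_injective ?_)
    rw [map_mul, map_mul, map_mul, map_mul, map_inv, map_inv, T.wd_toH, T.wd_toH, T.wd_toH]
    exact e)
  obtain rfl := repW_facts.2 l k (hc.trans hcl)
  exact ⟨_, T.wd_mem g, e⟩

/-- The invariants of a word from its class. -/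
theorem clOf_of_conj {L : List (Fin 7)} {k : Fin 4} (h : ∃ g : G, g * T.rep k * g⁻¹ = T.wd L)
    (hsq : ∀ x : Fin 63, wImg (L ++ L) x = wImg [] x) (hne : ∃ x : Fin 63, wImg L x ≠ wImg [] x) :
    clOf L = clOf (repW k) := by
  obtain ⟨l, x, hx, e⟩ := T.exists_rep (T.wd_mem L) (by rw [← T.wd_nil]; exact T.wd_ne hne)
    (by rw [← T.wd_append, ← T.wd_nil]; exact T.wd_eq' hsq)
  obtain ⟨g, hg⟩ := h
  obtain rfl := T.rep_distinct k l (x⁻¹ * g) (by
    rw [show x⁻¹ * g * T.rep k * (x⁻¹ * g)⁻¹ = x⁻¹ * (g * T.rep k * g⁻¹) * x by group, hg, ← e]; group)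
  obtain ⟨a, rfl⟩ := T.exists_wd hx
  refine (clOf_conj (g := a) ?_).symm
  rw [← rho_wElt, ← rho_wElt, ← rho_wElt, ← map_inv, ← map_mul, ← map_mul, ← spRep_toSp, ← spRep_toSp]
  refine congrArg _ (T.toH_injective ?_)
  rw [map_mul, map_mul, map_mul, map_mul, map_inv, map_inv, T.wd_toH, T.wd_toH, T.wd_toH]
  exact e

end SData

end Cfsg.Lib.PSpThree
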