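import Cfsg.Agent.Lib.SpSix.Symp
import Cfsg.Agent.Lib.Chev.CoxeterTypes
import Cfsg.Agent.Lib.Chev.WeylE7
import Cfsg.Agent.S2418

/-!
# The Weyl group of type E₇ on the sixty-three non-zero vectors

The seven simple reflections act as symplectic transvections; the image is the symplectic group and the kernel is
the centre.
-/

set_option autoImplicit false
set_option maxRecDepth 100000
set_option maxHeartbeats 1600000
set_option linter.unusedSimpArgs false

namespace Cfsg.Lib.PSpThree.SpSeven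

open Cfsg.Lib.SpSix Cfsg.Lib.Concrete Matrix Cfsg.Lib.Linear.Symp

/-- The vectors of the simple roots. -/
def rootVec : Fin 7 → Fin 63 := ![0, 1, 7, 16, 5, 31, 3]

/-- The tables of the simple reflections. -/
def sTab : Fin 7 → ℕ :=
  ![596257271510839992735761766051143106452544395901228794320652285559627414772566859630262742791999500158418840985664,
    586193802639802452278996455513550173648091883313380280680336269954751677088555546759643496828381974058565158838336,
    528753071334630489371732797983846809053682866767278000818576993759703781261572283810391506371726003451847542349896,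
    605688431949754358797231014184088080291813332294754035809785310306270026662706736524460767697546890080699315721344,
    605728907615742478127163846335950705191721532133099017136646039411896993610879710549311280909747739903856474857536,
    293014591362948538266180873125861807718522787925624793508779685499720840884197669790244206718053299337269659574336,
    566639620414046452697909214244443373046833474304618001921348788677900086016462699695300290576051647465770135068736]

/-- A simple reflection on labels. -/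
def sImg (i : Fin 7) (x : ℕ) : ℕ := tget 6 (sTab i) x

theorem sTab_ok : ∀ i : Fin 7, ∀ j : Fin 63, sImg i j = (tvVec (rootVec i) j : ℕ) := by decide +kernel

/-- A word of simple reflections on labels. -/
def wImg (W : List (Fin 7)) (x : ℕ) : ℕ := W.foldr sImg x

theorem sImg_invol : ∀ i : Fin 7, ∀ j : Fin 63, sImg i (sImg i j) = j := by decide +kernel

theorem tv_invol (i : Fin 7) (j : Fin 63) : tvVec (rootVec i) (tvVec (rootVec i) j) = j :=
  Fin.ext (by rw [← sTab_ok, ← sTab_ok, sImg_invol])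

/-- A simple reflection. -/
def sRef (i : Fin 7) : Equiv.Perm (Fin 63) := ⟨tvVec (rootVec i), tvVec (rootVec i), tv_invol i, tv_invol i⟩

/-- A word of simple reflections. -/
def wPerm (W : List (Fin 7)) : Equiv.Perm (Fin 63) := (W.map sRef).prod

theorem wPerm_apply (W : List (Fin 7)) (j : Fin 63) : (wPerm W j : ℕ) = wImg W j := by
  induction W with
  | nil => simp [wPerm, wImg]
  | cons i W ih =>
    rw [wPerm, List.map_cons, List.prod_cons, Equiv.Perm.mul_apply, ← wPerm, wImg, List.foldr_cons, ← wImg, ← ih,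
      sTab_ok]
    rfl

theorem wImg_relations : ∀ i j : Fin 7, ∀ x : Fin 63,
    wImg (List.replicate (CoxeterMatrix.E₇ i j) [i, j]).flatten x = x := by decide +kernel

theorem sRef_liftable : CoxeterMatrix.IsLiftable CoxeterMatrix.E₇ sRef := by
  intro i j
  refine Equiv.ext fun x => Fin.ext ?_
  have e : ∀ n : ℕ, wPerm (List.replicate n [i, j]).flatten = (sRef i * sRef j) ^ n := by
    intro n
    induction n with
    | zero => simp [wPerm]
    | succ n ih => rw [List.replicate_succ, List.flatten_cons, pow_succ', ← ih]; simp [wPerm, mul_assoc]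
  rw [← e, wPerm_apply, wImg_relations]
  rfl

/-- The action of the Weyl group. -/
noncomputable def rho : CoxeterMatrix.E₇.Group →* Equiv.Perm (Fin 63) :=
  CoxeterMatrix.E₇.toCoxeterSystem.lift ⟨sRef, sRef_liftable⟩

theorem rho_simple (i : Fin 7) : rho (CoxeterMatrix.E₇.simple i) = sRef i := by
  rw [← CoxeterMatrix.toCoxeterSystem_simple]
  exact CoxeterMatrix.E₇.toCoxeterSystem.lift_apply_simple sRef_liftable i

theorem rho_word (W : List (Fin 7)) : rho (W.map CoxeterMatrix.E₇.simple).prod = wPerm W := by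
  rw [map_list_prod, List.map_map, wPerm]
  exact congrArg List.prod (List.map_congr_left fun i _ => rho_simple i)

/-- Each vector as an image of a simple root. -/
def orbWord : List (List (Fin 7) × Fin 7) :=
  [([], 0), ([], 1), ([3, 4, 5, 6, 1, 3, 4, 5, 2, 3, 4, 1, 3, 2], 0), ([], 6), ([2, 3, 4, 1, 3, 2], 0), ([], 4), ([5, 6, 4, 5, 2, 3, 4, 1, 3, 2], 0), ([], 2), ([2], 0), ([0, 2, 3, 4, 5, 6, 1, 3, 4, 5, 2, 3, 4, 1, 3, 2], 0), ([2, 3, 4, 5, 6, 1, 3, 4, 5, 2, 3, 4, 1, 3, 2], 0), ([3, 4, 2, 3], 1), ([3, 4, 1, 3, 2], 0), ([5, 6, 4, 5, 3, 4, 2, 3], 1), ([5, 6, 4, 5, 3, 4, 1, 3, 2], 0), ([4, 5, 6, 3, 4, 5, 2, 3, 4, 1, 3, 2], 0), ([], 3), ([4, 5, 6, 1, 3, 4, 5, 2, 3, 4, 1, 3, 2], 0), ([3], 1), ([5, 6, 1, 3, 4, 5, 2, 3, 4, 1, 3, 2], 0), ([4, 3], 1), ([5, 6, 3, 4, 5, 2, 3, 4, 1, 3, 2], 0), ([4], 3), ([3, 2], 0), ([3], 2), ([1, 3, 2], 0), ([2, 3], 1), ([4, 1, 3, 2], 0), ([4, 2, 3], 1), ([4, 3, 2], 0), ([4, 3], 2), ([], 5), ([6, 5, 2, 3, 4, 1, 3, 2], 0), ([6, 5], 4),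 ([4, 5, 2, 3, 4, 1, 3, 2], 0), ([6], 5), ([5, 2, 3, 4, 1, 3, 2], 0), ([5], 4), ([6, 4, 5, 2, 3, 4, 1, 3, 2], 0), ([6, 5, 3, 4, 2, 3], 1), ([6, 5, 3, 4, 1, 3, 2], 0), ([4, 5, 3, 4, 2, 3], 1), ([4, 5, 3, 4, 1, 3, 2], 0), ([5, 3, 4, 2, 3], 1), ([5, 3, 4, 1, 3, 2], 0), ([6, 4, 5, 3, 4, 2, 3], 1), ([6, 4, 5, 3, 4, 1, 3, 2], 0), ([1, 3, 4, 5, 2, 3, 4, 1, 3, 2], 0), ([6, 5, 4, 3], 1), ([3, 4, 5, 2, 3, 4, 1, 3, 2], 0), ([6, 5, 4], 3), ([6, 1, 3, 4, 5, 2, 3, 4, 1, 3, 2], 0), ([5, 4, 3], 1), ([6, 3, 4, 5, 2, 3, 4, 1, 3, 2], 0), ([5, 4], 3), ([6, 5, 4, 1, 3, 2], 0), ([6, 5, 4, 2, 3], 1), ([6, 5, 4, 3, 2], 0), ([6, 5, 4, 3], 2), ([5, 4, 1, 3, 2], 0), ([5, 4, 2, 3], 1), ([5, 4, 3, 2], 0), ([5, 4, 3], 2)]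

theorem orb_table : ∀ w j : Fin 63,
    wImg ((orbWord.getD w ([], 0)).1 ++ (orbWord.getD w ([], 0)).2 :: (orbWord.getD w ([], 0)).1.reverse) j =
      (tvVec w j : ℕ) := by decide +kernel

/-- A transvection. -/
noncomputable def tvElt (w : Fin 63) : SpGrp := ⟨Cfsg.sympTransvection 3 (vec w) 1, sympTransvection_mem _ _⟩

theorem spRep_tvElt (w j : Fin 63) : spRep (tvElt w) j = tvVec w j := by
  rw [spRep_apply, tvElt, sympTransvection_mulVec, one_mul, spB_apply, tvVec]

theorem rho_range : rho.range = spRep.range := by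
  refine le_antisymm ?_ ?_
  · rw [MonoidHom.range_eq_map, ← CoxeterMatrix.E₇.toCoxeterSystem.subgroup_closure_range_simple,
      MonoidHom.map_closure, Subgroup.closure_le]
    rintro _ ⟨_, ⟨i, rfl⟩, rfl⟩
    exact ⟨tvElt (rootVec i), Equiv.ext fun j => by
      rw [spRep_tvElt, CoxeterMatrix.toCoxeterSystem_simple, rho_simple]; rfl⟩
  · rw [MonoidHom.range_eq_map (f := spRep), ← Cfsg.Agent.S0765.result (F := ZMod 2) 3, MonoidHom.map_closure,
      Subgroup.closure_le]
    rintro _ ⟨A, ⟨w, c, hA⟩, rfl⟩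
    by_cases h : c = 0 ∨ w = 0
    · have : A = 1 := Subtype.ext (by
        rw [hA, Submonoid.coe_one, Cfsg.sympTransvection]
        rcases h with rfl | rfl <;> simp)
      rw [this, map_one]
      exact one_mem _
    · push Not at h
      obtain rfl : c = 1 := by revert h; rcases (by decide : ∀ a : ZMod 2, a = 0 ∨ a = 1) c with rfl | rfl <;> simp
      refine ⟨((orbWord.getD (cod w : ℕ) ([], 0)).1 ++ (orbWord.getD (cod w : ℕ) ([], 0)).2 ::
        (orbWord.getD (cod w : ℕ) ([], 0)).1.reverse |>.map CoxeterMatrix.E₇.simple).prod,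
        Equiv.ext fun j => Fin.ext ?_⟩
      rw [rho_word, wPerm_apply, orb_table, spRep_apply, hA, sympTransvection_mulVec, one_mul, spB_apply, tvVec,
        vec_cod_all _ h.2]

theorem card_W : Nat.card CoxeterMatrix.E₇.Group = 2903040 :=
  (Cfsg.Lib.Chev.card_coxeter Cfsg.Lib.Chev.fullCertE7.comm.cert Cfsg.Lib.Chev.fullCertE7
    Cfsg.Lib.Chev.chkCox_E7 Cfsg.Lib.Chev.chkWeylE7).trans (by decide +kernel)

theorem rho_ker : rho.ker = Subgroup.center CoxeterMatrix.E₇.Group := by
  have : Finite CoxeterMatrix.E₇.Group := Nat.finite_of_card_ne_zero (by rw [card_W]; norm_num)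
  have hc := (Cfsg.Agent.S2418.result (⟨7, CoxeterMatrix.E₇⟩, 2) (by simp)).1
  have h := rho.ker.card_mul_index
  rw [Subgroup.index_ker, rho_range, ← Nat.card_congr (MonoidHom.ofInjective spRep_injective).toEquiv, card_Sp,
    card_W] at h
  have hk : Nat.card rho.ker = 2 :=
    Nat.eq_of_mul_eq_mul_right (show 0 < 1451520 by norm_num) (h.trans (show 2903040 = 2 * 1451520 by norm_num))
  obtain ⟨z, hz⟩ := (Nat.card_eq_two_iff' (1 : rho.ker)).1 hk
  refine Subgroup.eq_of_le_of_card_ge (fun x hx => Subgroup.mem_center_iff.2 fun g => ?_) (by rw [hc, hk])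
  by_cases h1 : x = 1
  · rw [h1, mul_one, one_mul]
  have e := hz.2 ⟨g * x * g⁻¹, rho.normal_ker.conj_mem x hx g⟩ (fun e => h1 (by
    have e' : g * x * g⁻¹ = 1 := congrArg Subtype.val e
    rwa [conj_eq_one_iff] at e'))
  have e2 := hz.2 ⟨x, hx⟩ (fun e => h1 (congrArg Subtype.val e))
  have e3 : g * x * g⁻¹ = x := congrArg Subtype.val (e.trans e2.symm)
  rwa [mul_inv_eq_iff_eq_mul] at e3

end Cfsg.Lib.PSpThree.SpSeven
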