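import Cfsg.Agent.Lib.PSpThree.SixRefl
import Cfsg.Agent.Lib.PSpThree.SpSevenPerm
import Cfsg.Agent.S0269
import Cfsg.Agent.S0270

/-!
# A split axis centralizer: the symplectic subgroup

The reflections generate a copy of `Sp6(2)` containing `J`, both symmetric groups and the quaternion groups.
-/

set_option autoImplicit false
set_option maxHeartbeats 1600000
set_option maxRecDepth 100000
set_option linter.unusedSectionVars false
set_option linter.style.haveILetI false
set_option synthInstance.maxSize 5000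

namespace Cfsg.Lib.PSpThree

open Subgroup Cfsg.Lib.SymNine Equiv

namespace SpSeven

open Cfsg.Lib.SpSix

/-- The element of a word. -/
def wElt (L : List (Fin 7)) : CoxeterMatrix.E₇.Group := (L.map CoxeterMatrix.E₇.simple).prod

theorem wElt_append (L M : List (Fin 7)) : wElt (L ++ M) = wElt L * wElt M := by
  rw [wElt, wElt, wElt, List.map_append, List.prod_append]

theorem rho_wElt (L : List (Fin 7)) : rho (wElt L) = wPerm L := rho_word L

theorem wElt_surjective (x : CoxeterMatrix.E₇.Group) : ∃ L, wElt L = x := by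
  obtain ⟨L, hL⟩ := CoxeterMatrix.E₇.toCoxeterSystem.wordProd_surjective x
  refine ⟨L, ?_⟩
  rw [← hL, CoxeterSystem.wordProd, CoxeterMatrix.toCoxeterSystem_simple, wElt]

/-- The parity of the length. -/
noncomputable def par : CoxeterMatrix.E₇.Group →* Multiplicative (ZMod 2) :=
  CoxeterMatrix.E₇.toCoxeterSystem.lengthParity

theorem par_wElt (L : List (Fin 7)) : par (wElt L) = Multiplicative.ofAdd (L.length : ZMod 2) := by
  induction L with
  | nil => simp [wElt, par]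
  | cons i L ih =>
    rw [show wElt (i :: L) = CoxeterMatrix.E₇.simple i * wElt L by simp [wElt], map_mul, ih, par,
      ← CoxeterMatrix.toCoxeterSystem_simple, CoxeterSystem.lengthParity_simple, ← ofAdd_add, List.length_cons,
      Nat.cast_add, Nat.cast_one, add_comm]

/-- A word for the central element. -/
def longWord : List (Fin 7) := (List.replicate 9 (List.finRange 7)).flatten

theorem longWord_ok : (∀ x : Fin 63, wImg longWord x = x) ∧ (longWord.length : ZMod 2) = 1 := by decide +kernel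

/-- Parity separates the kernel. -/
theorem eq_one_of {x : CoxeterMatrix.E₇.Group} (h : rho x = 1) (hp : par x = 1) : x = 1 := by
  by_contra hx
  have hk : Nat.card rho.ker = 2 := by
    rw [rho_ker]; exact (Cfsg.Agent.S2418.result (⟨7, CoxeterMatrix.E₇⟩, 2) (by simp)).1
  obtain ⟨z, -, hz⟩ := (Nat.card_eq_two_iff' (1 : rho.ker)).1 hk
  have hL : rho (wElt longWord) = 1 := Equiv.ext fun j => Fin.ext (by
    rw [rho_wElt, wPerm_apply, longWord_ok.1]; rfl)
  have hL1 : par (wElt longWord) ≠ 1 := by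
    rw [par_wElt, longWord_ok.2]; decide
  have e1 := hz ⟨x, h⟩ (fun e => hx (congrArg Subtype.val e))
  have e2 := hz ⟨wElt longWord, hL⟩ (fun e => hL1 (by
    rw [show wElt longWord = 1 from congrArg Subtype.val e, map_one]))
  have e : x = wElt longWord := congrArg Subtype.val (e1.trans e2.symm)
  exact hL1 (e ▸ hp)

/-- Two words with the same action and parity are equal. -/
theorem wElt_eq {L M : List (Fin 7)} (h : ∀ x : Fin 63, wImg L x = wImg M x) (hp : (L.length : ZMod 2) = M.length) :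
    wElt L = wElt M := by
  rw [← inv_mul_eq_one]
  refine eq_one_of ?_ ?_
  · rw [map_mul, map_inv, inv_mul_eq_one, rho_wElt, rho_wElt]
    exact Equiv.ext fun j => Fin.ext (by rw [wPerm_apply, wPerm_apply, h])
  · rw [map_mul, map_inv, inv_mul_eq_one, par_wElt, par_wElt, hp]

/-- The projection onto the symplectic group. -/
noncomputable def toSp : CoxeterMatrix.E₇.Group →* SpGrp :=
  ((MonoidHom.ofInjective spRep_injective).symm.toMonoidHom.comp
    (MulEquiv.subgroupCongr rho_range).toMonoidHom).comp rho.rangeRestrict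

theorem spRep_toSp (x : CoxeterMatrix.E₇.Group) : spRep (toSp x) = rho x := by
  show spRep ((MonoidHom.ofInjective spRep_injective).symm _) = _
  rw [MonoidHom.apply_ofInjective_symm]
  rfl

theorem toSp_ker : toSp.ker = rho.ker := by
  ext x
  rw [MonoidHom.mem_ker, MonoidHom.mem_ker, ← spRep_toSp, map_eq_one_iff spRep spRep_injective]

theorem toSp_surjective : Function.Surjective toSp := fun A => by
  obtain ⟨x, hx⟩ : spRep A ∈ rho.range := by rw [rho_range]; exact ⟨_, rfl⟩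
  exact ⟨x, spRep_injective (by rw [spRep_toSp, hx])⟩

theorem simple_Sp : IsSimpleGroup SpGrp := by
  have hs := Cfsg.Agent.S0270.result (F := ZMod 2) 3 (by norm_num) (by norm_num)
  have hz : (⊥ : Subgroup SpGrp) = Subgroup.center SpGrp := center_Sp.symm
  exact (MulEquiv.trans (QuotientGroup.quotientBot (G := SpGrp)).symm
    (QuotientGroup.quotientMulEquivOfEq hz)).isSimpleGroup

end SpSeven

open SpSeven

/-- A word for the transposition of the second and third coordinates. -/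
def uW : List (Fin 7) :=
  [4, 5, 6, 3, 4, 5, 2, 3, 4, 1, 3, 2, 0, 2, 3, 1, 4, 3, 2, 5, 4, 3, 6, 5, 4]

/-- A word for the conjugate of the first transposition. -/
def w03' : List (Fin 7) := [3, 0, 2, 0, 3]

/-- A word moving the pair. -/
def g1W : List (Fin 7) := [3, 4, 5, 6, 1, 3, 4, 5, 3, 0, 2, 1, 3, 4, 3, 0]

/-- A word moving the other pair. -/
def g2W : List (Fin 7) := [3, 4, 5, 6, 1, 3, 4, 5, 3, 0, 2, 1, 3, 4]

theorem uW_facts :
    (∀ x : Fin 63, wImg (uW ++ [5]) x = wImg ([5] ++ uW) x) ∧ (∀ x : Fin 63, wImg (uW ++ [6]) x = wImg ([6] ++ uW) x) ∧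
    (∀ x : Fin 63, wImg (uW ++ w03') x = wImg (w03' ++ uW) x) ∧ (∀ x : Fin 63, wImg (uW ++ [2]) x = wImg ([2] ++ uW) x) ∧
    (∀ x : Fin 63, wImg (g1W ++ uW) x = wImg ([2] ++ g1W) x) ∧ (∀ x : Fin 63, wImg (g1W ++ w03') x = wImg ([4] ++ g1W) x) ∧
    (∀ x : Fin 63, wImg (g2W ++ uW) x = wImg ([2] ++ g2W) x) ∧ (∀ x : Fin 63, wImg (g2W ++ [2]) x = wImg ([4] ++ g2W) x) ∧
    uW.length = 25 := by
  refine ⟨?_, ?_, ?_, ?_, ?_, ?_, ?_, ?_, ?_⟩ <;> decide +kernel

theorem gen_perm_facts :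
    swap 0 5 * swap 3 4 * swap 4 5 * swap 3 4 * swap 0 5 = (swap 0 3 : Perm (Fin 6)) ∧
    SixP.b0 = swap 3 4 * swap 4 5 ∧
    SixP.a0 = swap 0 2 * swap 1 2 * swap 0 2 * swap 1 2 ∧
    (swap 0 1 : Perm (Fin 6)) = swap 0 2 * swap 1 2 * swap 0 2 ∧
    (swap 2 3 : Perm (Fin 6)) = swap 1 2 * swap 1 3 * swap 1 2 ∧
    (swap 2 3 : Perm (Fin 6)) = swap 0 2 * swap 0 3 * swap 0 2 ∧
    (SixP.t0 : Perm (Fin 6)) = swap 1 3 * swap 0 1 * swap 1 3 * (swap 1 3 * swap 3 4 * swap 1 3) *
      (swap 1 2 * (swap 1 3 * swap 3 4 * swap 4 5 * swap 3 4 * swap 1 3) * swap 1 2) ∧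
    (∀ c : Fin 27, c ≠ 0 → ∃ d : Fin 27, d < c ∧ ∃ g : Fin 27, (g = 9 ∨ g = 3 ∨ g = 1) ∧ c = vAdd d g) := by
  refine ⟨?_, ?_, ?_, ?_, ?_, ?_, ?_, ?_⟩ <;> decide +kernel

theorem adj_mem {W : Subgroup (Perm (Fin 6))} (h : ∀ k : Fin 5, swap k.castSucc k.succ ∈ W) (σ : Perm (Fin 6)) :
    σ ∈ W := by
  have hσ : σ ∈ Submonoid.closure (Set.range fun k : Fin 5 => swap k.castSucc k.succ) := by
    rw [Equiv.Perm.mclosure_swap_castSucc_succ]; exact Submonoid.mem_top σ
  exact Submonoid.closure_le (S := W.toSubmonoid).2 (by rintro _ ⟨k, rfl⟩; exact h k) hσ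

namespace SData

variable {G : Type*} [Group G] [Finite G] (T : SData G)

/-- The symplectic subgroup. -/
noncomputable def H : Subgroup G := T.coxHom.range

/-- The element of a word. -/
noncomputable def wd (L : List (Fin 7)) : G := T.coxHom (wElt L)

theorem wd_mem (L : List (Fin 7)) : T.wd L ∈ T.H := ⟨_, rfl⟩

theorem wd_append (L M : List (Fin 7)) : T.wd (L ++ M) = T.wd L * T.wd M := by
  rw [wd, wElt_append, map_mul]; rfl

theorem wd_single (i : Fin 7) : T.wd [i] = T.refl i := by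
  rw [wd, show wElt [i] = CoxeterMatrix.E₇.simple i by simp [wElt], T.coxHom_simple]

theorem refl_mem (i : Fin 7) : T.refl i ∈ T.H := T.wd_single i ▸ T.wd_mem [i]

theorem t_mem : T.t ∈ T.H := T.refl_mem 2

theorem wd_eq {L M : List (Fin 7)} (h : ∀ x : Fin 63, wImg L x = wImg M x)
    (hp : (L.length : ZMod 2) = M.length) : T.wd L = T.wd M := by
  rw [wd, wd, wElt_eq h hp]

theorem wd_comm {L M : List (Fin 7)} (h : ∀ x : Fin 63, wImg (L ++ M) x = wImg (M ++ L) x) :
    Commute (T.wd L) (T.wd M) := by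
  show T.wd L * T.wd M = T.wd M * T.wd L
  rw [← T.wd_append, ← T.wd_append]
  exact T.wd_eq h (by rw [List.length_append, List.length_append, Nat.add_comm])

theorem wd_conj {g L M : List (Fin 7)} (h : ∀ x : Fin 63, wImg (g ++ L) x = wImg (M ++ g) x)
    (hp : (L.length : ZMod 2) = M.length) : T.wd g * T.wd L * (T.wd g)⁻¹ = T.wd M := by
  rw [mul_inv_eq_iff_eq_mul, ← T.wd_append, ← T.wd_append]
  exact T.wd_eq h (by rw [List.length_append, List.length_append, Nat.cast_add, Nat.cast_add, hp, add_comm])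

theorem t_ne_φ (σ : Perm (Fin 6)) : T.t ≠ T.φ σ := fun e => by
  have h := T.φ_comm_e3 σ
  rw [← e] at h
  have h2 : T.t * T.v 1 * T.t = T.v 1 := by rw [h, mul_assoc, T.t_sq, mul_one]
  rw [T.t_e3] at h2
  exact absurd ((T.S.F.v_inv 1).symm.trans h2 |> T.S.F.vinj) (by decide)

theorem wd_w03' : T.wd w03' = T.ψ (swap 0 3) := by
  rw [w03', show ([3, 0, 2, 0, 3] : List (Fin 7)) = [3] ++ ([0] ++ ([2] ++ ([0] ++ [3]))) from rfl]
  simp only [T.wd_append, T.wd_single]
  show T.ψ _ * (T.ψ _ * (T.t * (T.ψ _ * T.ψ _))) = _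
  rw [← T.ψ_45, ← map_mul, ← map_mul, ← map_mul, ← map_mul, ← gen_perm_facts.1]
  simp only [mul_assoc]

theorem φ_b0 : T.v 3 = T.wd [5] * T.wd [6] := by
  rw [T.wd_single, T.wd_single]
  show T.v 3 = T.φ _ * T.φ _
  rw [← map_mul, ← gen_perm_facts.2.1, T.K.map_b]

/-- The missing transposition. -/
theorem wd_uW : T.wd uW = T.φ (swap 1 2) := by
  obtain ⟨c5, c6, c3, c2, g11, g12, g21, g22, hl⟩ := uW_facts
  have hp : ∀ {M : List (Fin 7)}, (M.length : ZMod 2) = 1 → (uW.length : ZMod 2) = M.length := fun {M} h => by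
    rw [h, hl]; decide
  have h1 := T.wd_conj g11 (hp (by decide))
  have h1' := T.wd_conj g12 (show (w03'.length : ZMod 2) = ([4] : List (Fin 7)).length by decide)
  have h2 := T.wd_conj g21 (hp (by decide))
  have h2' := T.wd_conj g22 (show (([2] : List (Fin 7)).length : ZMod 2) = ([4] : List (Fin 7)).length by decide)
  have hne : T.wd [2] ≠ T.wd [4] := by
    rw [T.wd_single, T.wd_single]; exact T.t_ne_φ _
  refine T.eq_third ?_ ?_ ?_ ⟨(T.wd g1W)⁻¹, ?_⟩ (fun e => hne ?_) (fun e => hne ?_)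
  · rw [T.φ_b0]; exact (T.wd_comm c5).mul_right (T.wd_comm c6)
  · rw [← T.wd_w03']; exact T.wd_comm c3
  · have := T.wd_comm c2
    rwa [T.wd_single 2] at this
  · rw [show T.t = T.wd [2] from (T.wd_single 2).symm, ← h1]; group
  · rw [← h1, e, ← T.wd_w03', h1']
  · rw [← h2, e, show T.t = T.wd [2] from (T.wd_single 2).symm, h2']

theorem φ_mem (σ : Perm (Fin 6)) : T.φ σ ∈ T.H := by
  obtain ⟨-, -, -, q01, q23, -⟩ := gen_perm_facts
  have h02 : T.φ (swap 0 2) ∈ T.H := T.refl_mem 1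
  have h13 : T.φ (swap 1 3) ∈ T.H := T.refl_mem 4
  have h12 : T.φ (swap 1 2) ∈ T.H := T.wd_uW ▸ T.wd_mem uW
  refine adj_mem (W := T.H.comap T.φ) (fun k => ?_) σ
  fin_cases k <;> show T.φ _ ∈ T.H
  · show T.φ (swap 0 1) ∈ T.H
    rw [q01, map_mul, map_mul]; exact mul_mem (mul_mem h02 h12) h02
  · exact h12
  · show T.φ (swap 2 3) ∈ T.H
    rw [q23, map_mul, map_mul]; exact mul_mem (mul_mem h12 h13) h12
  · exact T.refl_mem 5
  · exact T.refl_mem 6

theorem ψ_mem (σ : Perm (Fin 6)) : T.ψ σ ∈ T.H := by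
  obtain ⟨q03, -, -, -, -, q23, -⟩ := gen_perm_facts
  have h03 : T.ψ (swap 0 3) ∈ T.H := T.wd_w03' ▸ T.wd_mem w03'
  have h02 : T.ψ (swap 0 2) ∈ T.H := T.ψ_02 ▸ T.φ_mem _
  refine adj_mem (W := T.H.comap T.ψ) (fun k => ?_) σ
  fin_cases k <;> show T.ψ _ ∈ T.H
  · exact T.ψ_01 ▸ T.φ_mem _
  · exact T.ψ_12 ▸ T.φ_mem _
  · show T.ψ (swap 2 3) ∈ T.H
    rw [q23, map_mul, map_mul]; exact mul_mem (mul_mem h02 h03) h02
  · exact T.refl_mem 0
  · exact T.ψ_45 ▸ T.t_mem

theorem v_mem (c : Fin 27) : T.v c ∈ T.H := by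
  induction hn : (c : ℕ) using Nat.strong_induction_on generalizing c with
  | _ n ih =>
    by_cases hc : c = 0
    · rw [hc, show T.v 0 = 1 from T.S.F.v0]; exact one_mem _
    obtain ⟨d, hd, g, hg, e⟩ := gen_perm_facts.2.2.2.2.2.2.2 c hc
    rw [e, show T.v (vAdd d g) = T.v d * T.v g from T.S.F.vmul d g]
    refine mul_mem (ih _ (hn ▸ hd) d rfl) ?_
    rcases hg with rfl | rfl | rfl
    · rw [show T.v 9 = T.φ SixP.a0 from T.K.map_a.symm]; exact T.φ_mem _
    · rw [show T.v 3 = T.φ SixP.b0 from T.K.map_b.symm]; exact T.φ_mem _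
    · rw [show T.v 1 = T.ψ SixP.b0 from T.ψ_b0.symm]; exact T.ψ_mem _

theorem i_mem : T.i ∈ T.H := T.i_eq ▸ T.φ_mem _

theorem coxHom_centre {z : CoxeterMatrix.E₇.Group} (hz : z ∈ rho.ker) : T.coxHom z = 1 := by
  have hzc : z ∈ center CoxeterMatrix.E₇.Group := rho_ker ▸ hz
  have hJ : T.coxHom z ∈ T.S.F.J := by
    rw [← Frame.cent_J]
    refine mem_centralizer_iff.2 fun y hy => ?_
    obtain ⟨c, rfl⟩ := hy
    obtain ⟨x, hx⟩ := T.v_mem c
    show T.v c * _ = _ * T.v c
    rw [← hx, ← map_mul, ← map_mul, mem_center_iff.1 hzc]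
  have h2 : z * z = 1 := eq_one_of (by rw [map_mul, hz, one_mul])
    (by rw [map_mul]; exact (by decide : ∀ a : Multiplicative (ZMod 2), a * a = 1) _)
  have h3 := T.S.F.J_cube hJ
  rwa [pow_succ, pow_two, ← map_mul, h2, map_one, one_mul] at h3

/-- The identification with the symplectic group. -/
noncomputable def toH : Cfsg.Lib.SpSix.SpGrp →* G :=
  (toSp.liftOfSurjective toSp_surjective) ⟨T.coxHom, fun _ hx => MonoidHom.mem_ker.2 (T.coxHom_centre (toSp_ker ▸ hx))⟩

theorem toH_toSp (x : CoxeterMatrix.E₇.Group) : T.toH (toSp x) = T.coxHom x :=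
  MonoidHom.liftOfRightInverse_comp_apply toSp _ _ _ x

theorem toH_range : T.toH.range = T.H := by
  ext g
  constructor
  · rintro ⟨A, rfl⟩
    obtain ⟨x, rfl⟩ := toSp_surjective A
    exact ⟨x, (T.toH_toSp x).symm⟩
  · rintro ⟨x, rfl⟩
    exact ⟨toSp x, T.toH_toSp x⟩

theorem toH_injective : Function.Injective T.toH := by
  have := simple_Sp
  rw [← MonoidHom.ker_eq_bot_iff]
  rcases IsSimpleGroup.eq_bot_or_eq_top_of_normal T.toH.ker inferInstance with h | h
  · exact h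
  · have e : T.coxHom (CoxeterMatrix.E₇.simple 2) = 1 := by
      rw [← T.toH_toSp]; exact MonoidHom.mem_ker.1 (h ▸ mem_top _)
    rw [T.coxHom_simple] at e
    exact absurd (e.trans (map_one T.φ).symm) (T.t_ne_φ 1)

theorem wd_ne {L M : List (Fin 7)} (h : ∃ x : Fin 63, wImg L x ≠ wImg M x) : T.wd L ≠ T.wd M := fun e => by
  obtain ⟨x, hx⟩ := h
  rw [wd, wd, ← T.toH_toSp, ← T.toH_toSp] at e
  have e' := congrArg Cfsg.Lib.SpSix.spRep (T.toH_injective e)
  rw [spRep_toSp, spRep_toSp, rho_wElt, rho_wElt] at e'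
  exact hx (by rw [← wPerm_apply, ← wPerm_apply, e'])

theorem wd_eq' {L M : List (Fin 7)} (h : ∀ x : Fin 63, wImg L x = wImg M x) : T.wd L = T.wd M := by
  rw [wd, wd, ← T.toH_toSp, ← T.toH_toSp]
  refine congrArg T.toH (Cfsg.Lib.SpSix.spRep_injective ?_)
  rw [spRep_toSp, spRep_toSp, rho_wElt, rho_wElt]
  exact Equiv.ext fun j => Fin.ext (by rw [wPerm_apply, wPerm_apply, h])

end SData

end Cfsg.Lib.PSpThree
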