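import Cfsg.Agent.Lib.PSpThree.SixQuat

/-!
# The action of an element of order three of SL(2,3) on the quaternion group
-/

set_option autoImplicit false
set_option maxHeartbeats 1600000
set_option maxRecDepth 100000
set_option synthInstance.maxSize 5000

namespace Cfsg.Lib.PSpThree

open Subgroup Cfsg.Lib.SymNine Equiv

theorem sl_orbit :
    (∀ x u v : SL23, x * x * x = 1 → x ≠ 1 → u ^ 4 = 1 → u * u ≠ 1 → v ^ 4 = 1 → v * v ≠ 1 →
      v = u ∨ v = -u ∨ v = x * u * x⁻¹ ∨ v = -(x * u * x⁻¹) ∨ v = x * x * u * (x * x)⁻¹ ∨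
        v = -(x * x * u * (x * x)⁻¹)) ∧
    (∀ x u : SL23, x * x * x = 1 → x ≠ 1 → u ^ 4 = 1 → u * u ≠ 1 →
      (u * (x * u * x⁻¹) = x * x * u * (x * x)⁻¹ ∨ u * (x * u * x⁻¹) = -(x * x * u * (x * x)⁻¹)) ∧
      u * (x * u * x⁻¹) * u⁻¹ = -(x * u * x⁻¹)) := by
  refine ⟨?_, ?_⟩ <;> decide +kernel

end Cfsg.Lib.PSpThree
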