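import Cfsg.Agent.Lib.PSpThree.SixCore
import Cfsg.Agent.Lib.PSpThree.SlOrbit

/-!
# A split axis centralizer: involutions in the centralizer of the elementary group
-/

set_option autoImplicit false
set_option maxHeartbeats 1600000
set_option maxRecDepth 100000
set_option linter.unusedSectionVars false
set_option linter.style.haveILetI false
set_option synthInstance.maxSize 5000

namespace Cfsg.Lib.PSpThree

open Subgroup Cfsg.Lib.SymNine Equiv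

theorem pair_facts :
    (∀ σ τ : Perm (Fin 6), (σ = 1 ∨ σ = swap 0 3 ∨ σ = swap 1 4 ∨ σ = swap 0 3 * swap 1 4) →
      (τ = 1 ∨ τ = swap 0 3 ∨ τ = swap 1 4 ∨ τ = swap 0 3 * swap 1 4) →
      (σ * τ = 1 ∨ σ * τ = swap 0 3 ∨ σ * τ = swap 1 4 ∨ σ * τ = swap 0 3 * swap 1 4) ∧ σ⁻¹ = σ ∧ InE σ) ∧
    (∀ σ : Perm (Fin 6), InE σ → (σ = 1 ∨ σ = swap 0 3 ∨ σ = swap 1 4 ∨ σ = swap 0 3 * swap 1 4) ∨
      SixP.t0 * σ = 1 ∨ SixP.t0 * σ = swap 0 3 ∨ SixP.t0 * σ = swap 1 4 ∨ SixP.t0 * σ = swap 0 3 * swap 1 4) ∧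
    ¬ (SixP.t0 = 1 ∨ SixP.t0 = swap 0 3 ∨ SixP.t0 = swap 1 4 ∨ SixP.t0 = swap 0 3 * swap 1 4) ∧
    SixP.t0 * (swap 0 3 * swap 1 4) = swap 2 5 := by
  refine ⟨?_, ?_, ?_, ?_⟩ <;> decide +kernel

namespace SData

variable {G : Type*} [Group G] [Finite G] (T : SData G)

/-! ### The quaternion groups -/

theorem π_mul_Q {q r : G} (hq : q ∈ T.Q) (hr : r ∈ T.Q) :
    T.S.D.π ⟨q * r, T.Q_C (mul_mem hq hr)⟩ = T.S.D.π ⟨q, T.Q_C hq⟩ * T.S.D.π ⟨r, T.Q_C hr⟩ :=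
  map_mul T.S.D.π ⟨q, T.Q_C hq⟩ ⟨r, T.Q_C hr⟩

theorem π_neg_Q {q : G} (hq : q ∈ T.Q) :
    T.S.D.π ⟨q * T.i, T.Q_C (mul_mem hq T.i_mem_Q)⟩ = -T.S.D.π ⟨q, T.Q_C hq⟩ := by
  rw [T.π_mul_Q hq T.i_mem_Q, T.π_i_Q, mul_neg, mul_one]

/-- The axis element has a single orbit on the classes of elements of order four modulo the centre. -/
theorem Q_orbit {q q₁ : G} (hq : q ∈ T.Q) (hq1 : q ≠ 1) (hqi : q ≠ T.i) (hr : q₁ ∈ T.Q) (hr1 : q₁ ≠ 1)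
    (hri : q₁ ≠ T.i) : ∃ l : ℕ, ∃ j, (j = 1 ∨ j = T.i) ∧ q₁ = T.v 1 ^ l * q * (T.v 1 ^ l)⁻¹ * j := by
  obtain ⟨x3, x1⟩ := T.π_e3
  have he := T.e3_Q hq
  have he2 := T.e3_Q he
  have e2 : T.v 1 ^ 2 * q * (T.v 1 ^ 2)⁻¹ = T.v 1 * (T.v 1 * q * (T.v 1)⁻¹) * (T.v 1)⁻¹ := by rw [pow_two]; group
  have hπ2 : T.S.D.π ⟨T.v 1 * (T.v 1 * q * (T.v 1)⁻¹) * (T.v 1)⁻¹, T.Q_C he2⟩ =
      T.S.D.π ⟨T.v 1, T.e3_C⟩ * T.S.D.π ⟨T.v 1, T.e3_C⟩ * T.S.D.π ⟨q, T.Q_C hq⟩ *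
        (T.S.D.π ⟨T.v 1, T.e3_C⟩ * T.S.D.π ⟨T.v 1, T.e3_C⟩)⁻¹ := by
    rw [T.π_e3_conj he, T.π_e3_conj hq]; group
  rcases sl_orbit.1 _ _ _ x3 x1 (T.π_four hq) (T.π_sq_ne hq hq1 hqi) (T.π_four hr) (T.π_sq_ne hr hr1 hri) with
    e | e | e | e | e | e
  · exact ⟨0, 1, Or.inl rfl, by rw [T.π_Q_inj hr hq e]; group⟩
  · exact ⟨0, T.i, Or.inr rfl, by rw [T.π_Q_inj hr (mul_mem hq T.i_mem_Q) (e.trans (T.π_neg_Q hq).symm)]; group⟩
  · exact ⟨1, 1, Or.inl rfl, by rw [T.π_Q_inj hr he (e.trans (T.π_e3_conj hq).symm), pow_one, mul_one]⟩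
  · exact ⟨1, T.i, Or.inr rfl, by
      rw [T.π_Q_inj hr (mul_mem he T.i_mem_Q) (e.trans (by rw [T.π_neg_Q he, T.π_e3_conj hq])), pow_one]⟩
  · exact ⟨2, 1, Or.inl rfl, by rw [T.π_Q_inj hr he2 (e.trans hπ2.symm), e2, mul_one]⟩
  · exact ⟨2, T.i, Or.inr rfl, by
      rw [T.π_Q_inj hr (mul_mem he2 T.i_mem_Q) (e.trans (by rw [T.π_neg_Q he2, hπ2])), e2]⟩

/-- The product of an element of order four and its image. -/
theorem Q_prod {q : G} (hq : q ∈ T.Q) (hq1 : q ≠ 1) (hqi : q ≠ T.i) :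
    ∃ j, (j = 1 ∨ j = T.i) ∧
      q * (T.v 1 * q * (T.v 1)⁻¹) = T.v 1 * (T.v 1 * q * (T.v 1)⁻¹) * (T.v 1)⁻¹ * j := by
  obtain ⟨x3, x1⟩ := T.π_e3
  have he := T.e3_Q hq
  have he2 := T.e3_Q he
  have hπ2 : T.S.D.π ⟨T.v 1 * (T.v 1 * q * (T.v 1)⁻¹) * (T.v 1)⁻¹, T.Q_C he2⟩ =
      T.S.D.π ⟨T.v 1, T.e3_C⟩ * T.S.D.π ⟨T.v 1, T.e3_C⟩ * T.S.D.π ⟨q, T.Q_C hq⟩ *
        (T.S.D.π ⟨T.v 1, T.e3_C⟩ * T.S.D.π ⟨T.v 1, T.e3_C⟩)⁻¹ := by
    rw [T.π_e3_conj he, T.π_e3_conj hq]; group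
  rcases (sl_orbit.2 _ _ x3 x1 (T.π_four hq) (T.π_sq_ne hq hq1 hqi)).1 with e | e
  · refine ⟨1, Or.inl rfl, ?_⟩
    rw [mul_one]
    refine T.π_Q_inj (mul_mem hq he) he2 ?_
    rw [T.π_mul_Q hq he, T.π_e3_conj hq, hπ2, e]
  · refine ⟨T.i, Or.inr rfl, T.π_Q_inj (mul_mem hq he) (mul_mem he2 T.i_mem_Q) ?_⟩
    rw [T.π_mul_Q hq he, T.π_e3_conj hq, T.π_neg_Q he2, hπ2, e]

/-- An element of order four is inverted by its image. -/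
theorem Q_anti {q : G} (hq : q ∈ T.Q) (hq1 : q ≠ 1) (hqi : q ≠ T.i) :
    q * (T.v 1 * q * (T.v 1)⁻¹) * q⁻¹ = T.v 1 * q * (T.v 1)⁻¹ * T.i := by
  obtain ⟨x3, x1⟩ := T.π_e3
  have he := T.e3_Q hq
  refine T.π_Q_inj (mul_mem (mul_mem hq he) (inv_mem hq)) (mul_mem he T.i_mem_Q) ?_
  rw [T.π_neg_Q he, T.π_e3_conj hq, ← (sl_orbit.2 _ _ x3 x1 (T.π_four hq) (T.π_sq_ne hq hq1 hqi)).2,
    ← T.π_e3_conj hq, ← map_inv, ← map_mul, ← map_mul]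
  rfl

/-- The two quaternion groups meet in the centre, also modulo the elementary group. -/
theorem Q_mul_E_not_Q' {q e : G} (hq : q ∈ T.Q) (hq1 : q ≠ 1) (hqi : q ≠ T.i) (he : e ∈ T.E) :
    e * q ∉ T.Q' := by
  intro h
  have h14 := T.Q'_comm_14 h
  have he14 : T.v 14 * e * (T.v 14)⁻¹ ∈ T.E :=
    T.P_E (T.v14_eq ▸ mul_mem T.a_mem_P T.e3_mem_P) he
  have hq14 : T.v 14 * q * (T.v 14)⁻¹ = T.v 1 * q * (T.v 1)⁻¹ := by
    rw [T.v14_eq]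
    calc T.v 13 * T.v 1 * q * (T.v 13 * T.v 1)⁻¹ = T.v 13 * (T.v 1 * q * (T.v 1)⁻¹) * (T.v 13)⁻¹ := by group
      _ = _ := by rw [← T.Q_comm_a (T.e3_Q hq), mul_inv_cancel_right]
  have h' : T.v 14 * e * (T.v 14)⁻¹ * (T.v 1 * q * (T.v 1)⁻¹) = e * q := by
    rw [← hq14, show T.v 14 * e * (T.v 14)⁻¹ * (T.v 14 * q * (T.v 14)⁻¹) = T.v 14 * (e * q) * (T.v 14)⁻¹ by group,
      ← h14, mul_inv_cancel_right]
  have h'' : (T.v 1 * q * (T.v 1)⁻¹) * q⁻¹ = (T.v 14 * e * (T.v 14)⁻¹)⁻¹ * e := by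
    rw [mul_inv_eq_iff_eq_mul, eq_comm, mul_assoc, inv_mul_eq_iff_eq_mul]
    exact h'.symm
  obtain ⟨m1, m2⟩ := T.e3_moves hq hq1 hqi
  rcases T.E_meet_Q (h'' ▸ mul_mem (inv_mem he14) he) (mul_mem (T.e3_Q hq) (inv_mem hq)) with h1 | h1
  · exact m1 (mul_inv_eq_one.1 h1)
  · exact m2 ((mul_inv_eq_iff_eq_mul.1 h1).trans (T.Q_comm_i hq).symm)

theorem Q_meet_Q' {q : G} (hq : q ∈ T.Q) (hq' : q ∈ T.Q') : q = 1 ∨ q = T.i := by
  by_contra h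
  push Not at h
  exact T.Q_mul_E_not_Q' hq h.1 h.2 (one_mem _) (by rwa [one_mul])

/-! ### The core -/

theorem t_conj_O {o : G} (ho : o ∈ T.O) : T.t * o * T.t ∈ T.O := by
  obtain ⟨e, he, q, hq, r, hr, rfl⟩ := ho
  have e' : T.t * (e * q * r) * T.t = e * (T.t * r * T.t) * (T.t * q * T.t) := by
    rw [mul_assoc e q r, T.Q_comm_Q' hq hr, ← T.t_conj_mul, ← T.t_conj_mul,
      show T.t * e * T.t = e by rw [← T.E_comm_t he, mul_assoc, T.t_sq, mul_one]]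
    group
  rw [e']
  exact ⟨e, he, _, T.mem_Q'.1 hr, _, T.t_Q hq, rfl⟩

theorem P_Q' {x r : G} (hx : x ∈ T.P) (hr : r ∈ T.Q') : x * r * x⁻¹ ∈ T.Q' := by
  obtain ⟨c, hc, rfl⟩ := hx
  have hd : T.t * T.v c * T.t = T.v (act 1 0 c) := T.t_conj c
  have hdP : T.v (act 1 0 c) ∈ T.P := by
    refine ⟨_, T.v_comm_i.1 ?_, rfl⟩
    rw [← hd]
    conv_lhs => rw [← T.t_i_t, T.t_conj_mul, T.v_comm_i.2 hc]
    conv_rhs => rw [← T.t_i_t, T.t_conj_mul]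
  refine T.mem_Q'.2 ?_
  rw [← T.t_conj_mul, ← T.t_conj_mul, show T.t * (T.v c)⁻¹ * T.t = (T.t * T.v c * T.t)⁻¹ from
    (T.t_mul_inv _).symm, hd]
  exact T.P_Q hdP (T.mem_Q'.1 hr)

theorem P_O {x o : G} (hx : x ∈ T.P) (ho : o ∈ T.O) : x * o * x⁻¹ ∈ T.O := by
  obtain ⟨e, he, q, hq, r, hr, rfl⟩ := ho
  exact ⟨_, T.P_E hx he, _, T.P_Q hx hq, _, T.P_Q' hx hr, by group⟩

theorem Q_sq_mem {q : G} (hq : q ∈ T.Q) : q * q = 1 ∨ q * q = T.i := by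
  by_cases h : q = 1 ∨ q = T.i
  · left; rcases h with rfl | rfl; exacts [one_mul 1, T.i_sq]
  · push Not at h; exact Or.inr (T.Q_sq hq h.1 h.2)

theorem Q'_sq {r : G} (hr : r ∈ T.Q') (h1 : r ≠ 1) (hi : r ≠ T.i) : r * r = T.i := by
  have h := T.Q_sq (T.mem_Q'.1 hr) (fun e => h1 (by rw [← T.t_t r, e, mul_one, T.t_sq]))
    fun e => hi (by rw [← T.t_t r, e, T.t_i_t])
  rw [T.t_conj_mul] at h
  rw [← T.t_t (r * r), h, T.t_i_t]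

theorem O_four {o : G} (ho : o ∈ T.O) : o ^ 4 = 1 := by
  obtain ⟨e, he, q, hq, r, hr, rfl⟩ := ho
  have h1 : Commute e q := (T.Q_comm_E q hq e he).symm
  have h2 : Commute (e * q) r :=
    ((show Commute r e from T.Q'_comm_E hr he).symm).mul_left (T.Q_comm_Q' hq hr)
  have hr4 : r ^ 4 = 1 := by
    by_cases h : r = 1 ∨ r = T.i
    · rcases h with rfl | rfl
      · exact one_pow 4
      · rw [show (4 : ℕ) = 2 * 2 by rfl, pow_mul, pow_two T.i, T.i_sq, one_pow]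
    · push Not at h
      rw [show (4 : ℕ) = 2 * 2 by rfl, pow_mul, pow_two r, T.Q'_sq hr h.1 h.2, pow_two, T.i_sq]
  rw [h2.mul_pow, h1.mul_pow, T.Q_four hq, hr4, mul_one, mul_one, show (4 : ℕ) = 2 * 2 by rfl, pow_mul, pow_two e,
    T.E_sq he, one_pow]

/-- Involutions of the core outside the elementary group. -/
theorem O_invol {o : G} (ho : o ∈ T.O) (h2 : o * o = 1) (hE : o ∉ T.E) :
    ∃ e ∈ T.E, ∃ q ∈ T.Q, ∃ r ∈ T.Q', q ≠ 1 ∧ q ≠ T.i ∧ r ≠ 1 ∧ r ≠ T.i ∧ o = e * q * r := by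
  obtain ⟨e, he, q, hq, r, hr, rfl⟩ := ho
  have hsq : e * q * r * (e * q * r) = (q * q) * (r * r) := by
    have h1 : Commute e q := (T.Q_comm_E q hq e he).symm
    have h2' : Commute (e * q) r :=
      ((show Commute r e from T.Q'_comm_E hr he).symm).mul_left (T.Q_comm_Q' hq hr)
    have hs := h2'.mul_pow 2
    rw [h1.mul_pow, pow_two, pow_two, pow_two, pow_two, T.E_sq he, one_mul] at hs
    exact hs
  rw [hsq] at h2
  have hiE := T.i_mem_E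
  by_cases hq' : q = 1 ∨ q = T.i
  · exfalso
    have hqE : q ∈ T.E := by rcases hq' with rfl | rfl; exacts [one_mem _, hiE]
    rw [T.E_sq hqE, one_mul] at h2
    refine hE (mul_mem (mul_mem he hqE) ?_)
    by_contra hrE
    rw [T.Q'_sq hr (fun e => hrE (e ▸ one_mem _)) fun e => hrE (e ▸ hiE)] at h2
    exact T.i_ne h2
  push Not at hq'
  refine ⟨e, he, q, hq, r, hr, hq'.1, hq'.2, ?_, ?_, rfl⟩ <;> intro e' <;> subst e'
  · rw [one_mul, mul_one, T.Q_sq hq hq'.1 hq'.2] at h2; exact T.i_ne h2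
  · rw [T.i_sq, mul_one, T.Q_sq hq hq'.1 hq'.2] at h2; exact T.i_ne h2

/-- Involutions in the outer coset of the core are conjugate into the elementary group times the sign change. -/
theorem outer_invol {o : G} (ho : o ∈ T.O) (h2 : o * T.t * (o * T.t) = 1) :
    ∃ q ∈ T.Q, ∃ e ∈ T.E, o * T.t = q * (e * T.t) * q⁻¹ := by
  obtain ⟨e, he, q, hq, r, hr, rfl⟩ := ho
  have htr := T.mem_Q'.1 hr
  have htq := T.t_Q hq
  have hsplit : q * (T.t * r * T.t) * (r * (T.t * q * T.t)) = 1 := by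
    rw [← h2]
    have hte : T.t * e * T.t = e := by rw [← T.E_comm_t he, mul_assoc, T.t_sq, mul_one]
    have e1 : e * q * r * T.t * (e * q * r * T.t) = e * q * r * (T.t * e * T.t * (T.t * q * T.t) * (T.t * r * T.t)) := by
      rw [T.t_conj_mul, T.t_conj_mul]; group
    rw [e1, hte]
    calc q * (T.t * r * T.t) * (r * (T.t * q * T.t))
        = (e * e) * q * ((T.t * r * T.t) * (r * (T.t * q * T.t))) := by rw [T.E_sq he, one_mul, mul_assoc]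
      _ = e * (e * q) * ((r * (T.t * q * T.t)) * (T.t * r * T.t)) := by
          rw [T.Q_comm_Q' htr (mul_mem hr htq)]; group
      _ = e * (q * r * e) * (T.t * q * T.t) * (T.t * r * T.t) := by
          have hc : Commute (q * r) e := (show Commute q e from T.Q_comm_E q hq e he).mul_left (T.Q'_comm_E hr he)
          rw [hc.eq]; group
      _ = _ := by group
  have hmem : q * (T.t * r * T.t) ∈ T.Q' := by
    rw [eq_inv_of_mul_eq_one_left hsplit]; exact inv_mem (mul_mem hr htq)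
  obtain ⟨j, hj, hqj⟩ : ∃ j, (j = 1 ∨ j = T.i) ∧ q * (T.t * r * T.t) = j :=
    ⟨_, T.Q_meet_Q' (mul_mem hq htr) hmem, rfl⟩
  have hjE : j ∈ T.E := by rcases hj with rfl | rfl; exacts [one_mem _, T.i_mem_E]
  refine ⟨q, hq, e * j, mul_mem he hjE, ?_⟩
  have hr' : r = T.t * (q⁻¹ * j) * T.t := by rw [← hqj, inv_mul_cancel_left, T.t_t]
  have hqe : Commute q (e * j) := T.Q_comm_E q hq _ (mul_mem he hjE)
  have hjt : Commute T.t j := (T.E_comm_t hjE).symm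
  have hqj' : Commute q j := T.Q_comm_E q hq _ hjE
  calc e * q * r * T.t = e * q * (T.t * (q⁻¹ * j)) * (T.t * T.t) := by rw [hr']; group
    _ = e * q * (T.t * (j * q⁻¹)) := by rw [T.t_sq, mul_one, hqj'.inv_left.eq]
    _ = e * (q * j) * T.t * q⁻¹ := by rw [← mul_assoc T.t, hjt.eq]; group
    _ = q * (e * j * T.t) * q⁻¹ := by
      rw [hqj'.eq, ← mul_assoc e, ← mul_assoc q (e * j), hqe.eq]

/-! ### Classes over the elementary group -/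

/-- The group of two of the transpositions. -/
def pairPerm : Subgroup (Perm (Fin 6)) where
  carrier := {σ | σ = 1 ∨ σ = swap 0 3 ∨ σ = swap 1 4 ∨ σ = swap 0 3 * swap 1 4}
  one_mem' := Or.inl rfl
  mul_mem' hσ hτ := (pair_facts.1 _ _ hσ hτ).1
  inv_mem' {σ} hσ := by
    show _ ∨ _
    rw [(pair_facts.1 σ σ hσ hσ).2.1]; exact hσ

/-- Its image. -/
noncomputable def pE : Subgroup G := SData.pairPerm.map T.φ

theorem pE_le_E : T.pE ≤ T.E := by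
  rintro _ ⟨σ, hσ, rfl⟩
  exact T.φ_mem_E (pair_facts.1 σ σ hσ hσ).2.2

theorem φ_mem_pE {σ : Perm (Fin 6)} (h : σ = 1 ∨ σ = swap 0 3 ∨ σ = swap 1 4 ∨ σ = swap 0 3 * swap 1 4) :
    T.φ σ ∈ T.pE := ⟨σ, h, rfl⟩

theorem i_not_pE : T.i ∉ T.pE := by
  rintro ⟨σ, hσ, e⟩
  rw [T.i_eq] at e
  exact pair_facts.2.2.1 (T.K.inj e ▸ hσ)

theorem E_split {e : G} (he : e ∈ T.E) : e ∈ T.pE ∨ T.i * e ∈ T.pE := by
  obtain ⟨σ, hσ, rfl⟩ := he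
  rcases pair_facts.2.1 σ hσ with h | h
  · exact Or.inl (T.φ_mem_pE h)
  · exact Or.inr (by rw [T.i_eq, ← map_mul]; exact T.φ_mem_pE h)

theorem i_pair : T.i * T.φ (swap 0 3 * swap 1 4) = T.φ (swap 2 5) := by
  rw [T.i_eq, ← map_mul, pair_facts.2.2.2]

theorem t_not_i (g : G) : g * T.t * g⁻¹ ≠ T.i := T.D.t_not_i g

theorem i_not_z (g : G) : g * T.i * g⁻¹ ≠ T.D.w 6 0 := T.S.i_not_z T.D g

theorem i_not_inv (g : G) : g * T.i * g⁻¹ ≠ T.D.w 7 0 := T.S.i_not_inv T.D g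

theorem i_not_ti (g : G) : g * T.i * g⁻¹ ≠ T.t * T.i := by
  rw [T.ti_eq]; exact T.S.i_not_zp T.D g

/-- The swap is alone in its class in the elementary group. -/
theorem E_i {e : G} (he : e ∈ T.E) (h : ∃ g : G, g * T.i * g⁻¹ = e) : e = T.i := by
  obtain ⟨g, hg⟩ := h
  obtain ⟨σ, hσ, rfl⟩ := he
  by_contra hne
  obtain ⟨s, hs, e | e⟩ := e_class_facts.2.1 σ hσ (fun e => by
    rw [e, map_one, conj_eq_one_iff] at hg; exact T.i_ne hg) (fun e => hne (by rw [e, T.i_eq]))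
  · obtain ⟨w, hw⟩ := T.s_conj_t hs
    refine T.t_not_i (g⁻¹ * w) ?_
    subst e
    rw [← hw] at hg
    calc g⁻¹ * w * T.t * (g⁻¹ * w)⁻¹ = g⁻¹ * (w * T.t * w⁻¹) * g := by group
      _ = T.i := by rw [← hg]; group
  · obtain ⟨w, hw⟩ := T.si_conj_z hs
    subst e
    rw [map_mul, ← T.i_eq] at hg
    exact ne_of_conj T.i_not_z ⟨g, hg⟩ ⟨w, hw⟩ rfl

/-- No element of the outer coset of the elementary group is conjugate to the swap. -/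
theorem et_not_i {e : G} (he : e ∈ T.E) (g : G) : g * T.i * g⁻¹ ≠ e * T.t := by
  intro hg
  obtain ⟨σ, hσ, rfl⟩ := he
  by_cases h1 : σ = 1
  · rw [h1, map_one, one_mul] at hg
    refine T.t_not_i g⁻¹ ?_
    rw [← hg]; group
  by_cases h2 : σ = SixP.t0
  · rw [h2, ← T.i_eq, ← T.t_comm_i] at hg
    exact T.i_not_ti g hg
  obtain ⟨s, hs, e | e⟩ := e_class_facts.2.1 σ hσ h1 h2 <;> subst e
  · exact ne_of_conj T.i_not_z ⟨g, hg⟩ (T.st_conj_z hs) rfl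
  · rw [map_mul, ← T.i_eq] at hg
    exact ne_of_conj T.i_not_inv ⟨g, hg⟩ (T.sit_conj_inv hs) rfl

/-- No translate by the elementary group is conjugate to the sign change. -/
def TFree (y : G) : Prop := ∀ e ∈ T.E, ∀ g : G, g * T.t * g⁻¹ ≠ y * e

theorem TFree.mul {y j : G} (h : T.TFree y) (hj : j ∈ T.E) : T.TFree (y * j) := fun e he g hg =>
  h (j * e) (mul_mem hj he) g (by rw [hg, mul_assoc])

theorem TFree.conj {y x : G} (h : T.TFree y) (hx : ∀ e ∈ T.E, x * e * x⁻¹ ∈ T.E) : T.TFree (x * y * x⁻¹) := by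
  intro e he g hg
  let f : T.E → T.E := fun b => ⟨x * b * x⁻¹, hx b b.2⟩
  obtain ⟨b, hb⟩ := Finite.surjective_of_injective (f := f)
    (fun b c e => Subtype.ext (by simpa [f] using congrArg Subtype.val e)) ⟨e, he⟩
  refine h b b.2 (x⁻¹ * g) ?_
  rw [← show x * (b : G) * x⁻¹ = e from congrArg Subtype.val hb] at hg
  calc x⁻¹ * g * T.t * (x⁻¹ * g)⁻¹ = x⁻¹ * (g * T.t * g⁻¹) * x := by group
    _ = y * b := by rw [hg]; group

/-- The nine classes are permuted transitively by the plane. -/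
theorem TFree.orbit {q r q₁ r₁ : G} (h : T.TFree (q * r)) (hq : q ∈ T.Q) (hr : r ∈ T.Q') (hq1 : q ≠ 1)
    (hqi : q ≠ T.i) (hr1 : r ≠ 1) (hri : r ≠ T.i) (hq' : q₁ ∈ T.Q) (hr' : r₁ ∈ T.Q') (hq'1 : q₁ ≠ 1)
    (hq'i : q₁ ≠ T.i) (hr'1 : r₁ ≠ 1) (hr'i : r₁ ≠ T.i) : T.TFree (q₁ * r₁) := by
  have hne : ∀ {s : G}, s ≠ 1 → s ≠ T.i → T.t * s * T.t ≠ 1 ∧ T.t * s * T.t ≠ T.i := fun {s} h1 hi =>
    ⟨fun e => h1 (by rw [← T.t_t s, e, mul_one, T.t_sq]), fun e => hi (by rw [← T.t_t s, e, T.t_i_t])⟩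
  obtain ⟨l, j, hj, hql⟩ := T.Q_orbit hq hq1 hqi hq' hq'1 hq'i
  obtain ⟨k, j', hj', hrk⟩ := T.Q_orbit (T.mem_Q'.1 hr) (hne hr1 hri).1 (hne hr1 hri).2 (T.mem_Q'.1 hr')
    (hne hr'1 hr'i).1 (hne hr'1 hr'i).2
  have hjE : j ∈ T.E := by rcases hj with rfl | rfl; exacts [one_mem _, T.i_mem_E]
  have hj'E : j' ∈ T.E := by rcases hj' with rfl | rfl; exacts [one_mem _, T.i_mem_E]
  set x := T.v 14 ^ l * T.v 13 ^ k with hx
  have hxP : x ∈ T.P :=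
    mul_mem (pow_mem (T.v14_eq ▸ mul_mem T.a_mem_P T.e3_mem_P) l) (pow_mem T.a_mem_P k)
  have hqx : x * q * x⁻¹ = T.v 1 ^ l * q * (T.v 1 ^ l)⁻¹ := by
    have hca : Commute q (T.v 13) := T.Q_comm_a hq
    rw [hx, T.v14_eq, (show Commute (T.v 13) (T.v 1) from T.v_comm 13 1).mul_pow]
    have hqa : ∀ n : ℕ, T.v 13 ^ n * q * (T.v 13 ^ n)⁻¹ = q := fun n => by
      rw [((hca.pow_right n)).symm.eq, mul_inv_cancel_right]
    calc T.v 13 ^ l * T.v 1 ^ l * T.v 13 ^ k * q * (T.v 13 ^ l * T.v 1 ^ l * T.v 13 ^ k)⁻¹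
        = T.v 13 ^ l * T.v 1 ^ l * (T.v 13 ^ k * q * (T.v 13 ^ k)⁻¹) * (T.v 13 ^ l * T.v 1 ^ l)⁻¹ := by group
      _ = T.v 1 ^ l * (T.v 13 ^ l * q * (T.v 13 ^ l)⁻¹) * (T.v 1 ^ l)⁻¹ := by
          rw [hqa, ((show Commute (T.v 13) (T.v 1) from T.v_comm 13 1).pow_pow l l).eq]; group
      _ = _ := by rw [hqa]
  have hrx : x * r * x⁻¹ = T.t * (T.v 1 ^ k * (T.t * r * T.t) * (T.v 1 ^ k)⁻¹) * T.t := by
    have hpow : ∀ n : ℕ, T.t * (T.v 1 ^ n * (T.t * r * T.t) * (T.v 1 ^ n)⁻¹) * T.t =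
        T.v 13 ^ n * r * (T.v 13 ^ n)⁻¹ := by
      intro n
      induction n with
      | zero => simp only [pow_zero, inv_one, one_mul, mul_one]; exact T.t_t r
      | succ n ih =>
        rw [show T.v 1 ^ (n + 1) * (T.t * r * T.t) * (T.v 1 ^ (n + 1))⁻¹ =
            T.v 1 * (T.v 1 ^ n * (T.t * r * T.t) * (T.v 1 ^ n)⁻¹) * (T.v 1)⁻¹ by rw [pow_succ']; group,
          T.e3_conj_t_Q (T.P_Q (pow_mem T.e3_mem_P n) (T.mem_Q'.1 hr)), ih, pow_succ']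
        group
    rw [hx, hpow]
    have hc : Commute (T.v 14 ^ l) (T.v 13 ^ k * r * (T.v 13 ^ k)⁻¹) :=
      ((show Commute (T.v 13 ^ k * r * (T.v 13 ^ k)⁻¹) (T.v 14) from
        T.Q'_comm_14 (T.P_Q' (pow_mem T.a_mem_P k) hr)).symm).pow_left l
    calc T.v 14 ^ l * T.v 13 ^ k * r * (T.v 14 ^ l * T.v 13 ^ k)⁻¹
        = T.v 14 ^ l * (T.v 13 ^ k * r * (T.v 13 ^ k)⁻¹) * (T.v 14 ^ l)⁻¹ := by group
      _ = _ := by rw [hc.eq, mul_inv_cancel_right]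
  have hr₁ : r₁ = x * r * x⁻¹ * j' := by
    rw [hrx, ← T.t_t r₁, hrk, ← T.t_conj_mul,
      show T.t * j' * T.t = j' by rw [← T.E_comm_t hj'E, mul_assoc, T.t_sq, mul_one]]
  have hjr : Commute j (x * r * x⁻¹) := (T.Q'_comm_E (T.P_Q' hxP hr) hjE).symm
  have e : q₁ * r₁ = x * (q * r) * x⁻¹ * (j * j') := by
    rw [hql, hr₁, ← hqx]
    calc x * q * x⁻¹ * j * (x * r * x⁻¹ * j') = x * q * x⁻¹ * (j * (x * r * x⁻¹)) * j' := by group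
      _ = _ := by rw [hjr.eq]; group
  rw [e]
  exact (h.conj T fun e he => T.P_E hxP he).mul T (mul_mem hjE hj'E)

end SData

end Cfsg.Lib.PSpThree
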