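import Cfsg.Agent.Lib.PSpThree.ClassesS

/-!
# A split axis centralizer: the subgroups fixed by the swap

The plane of the swap in `J`, the elementary group of three disjoint transpositions, and the quaternion group in
the centralizer of the central element and the swap.
-/

set_option autoImplicit false
set_option maxHeartbeats 1600000
set_option maxRecDepth 100000
set_option linter.unusedSectionVars false
set_option linter.style.haveILetI false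
set_option synthInstance.maxSize 5000

namespace Cfsg.Lib.PSpThree

open Subgroup Cfsg.Lib.SymNine Equiv

/-- Commuting with three disjoint transpositions. -/
abbrev InE (σ : Perm (Fin 6)) : Prop :=
  σ * swap 0 3 = swap 0 3 * σ ∧ σ * swap 1 4 = swap 1 4 * σ ∧ σ * swap 2 5 = swap 2 5 * σ

theorem inE_facts :
    InE 1 ∧ InE (swap 0 3) ∧ InE (swap 1 4) ∧ InE (swap 2 5) ∧ InE SixP.t0 ∧
    (∀ σ : Perm (Fin 6), InE σ → ∀ τ : Perm (Fin 6), InE τ → InE (σ * τ) ∧ InE σ⁻¹ ∧ σ * τ = τ * σ ∧ σ * σ = 1) ∧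
    (∀ σ : Perm (Fin 6), InE σ → InE (SixP.a0 * SixP.b0 * σ * (SixP.a0 * SixP.b0)⁻¹)) ∧
    (∀ σ : Perm (Fin 6), InE σ → σ = 1 ∨ σ = swap 0 3 ∨ σ = swap 1 4 ∨ σ = swap 2 5 ∨ σ = swap 0 3 * swap 1 4 ∨
      σ = swap 0 3 * swap 2 5 ∨ σ = swap 1 4 * swap 2 5 ∨ σ = SixP.t0) ∧
    (Finset.univ.filter fun σ : Perm (Fin 6) => InE σ).card = 8 := by
  refine ⟨?_, ?_, ?_, ?_, ?_, ?_, ?_, ?_, ?_⟩ <;> decide +kernel

theorem sl_quat :
    (∀ u v : SL23, u ^ 4 = 1 → v ^ 4 = 1 → u * v * u⁻¹ * v⁻¹ = 1 ∨ u * v * u⁻¹ * v⁻¹ = -1) ∧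
    (∀ u : SL23, u * u = 1 → u = 1 ∨ u = -1) ∧
    (∀ u : SL23, u ^ 4 = 1 → u * u ≠ 1 → u * u = -1) ∧
    (∀ x u : SL23, x * x * x = 1 → ∃ l : Fin 3, x = 1 ∨ (u * (x ^ l.val)⁻¹) ^ 4 = 1) ∧
    (∀ x u : SL23, x * x * x = 1 → x ≠ 1 → u ^ 4 = 1 → u * u ≠ 1 → x * u * x⁻¹ ≠ u ∧ x * u * x⁻¹ ≠ -u) ∧
    (Finset.univ.filter fun u : SL23 => u ^ 4 = 1).card = 8 ∧
    (∀ x u v : SL23, x * x * x = 1 → x ≠ 1 → u ^ 4 = 1 → u * u ≠ 1 → v ^ 4 = 1 →
      v = 1 ∨ v = -1 ∨ v = u ∨ v = -u ∨ v = x * u * x⁻¹ ∨ v = -(x * u * x⁻¹) ∨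
        v = u * (x * u * x⁻¹) ∨ v = -(u * (x * u * x⁻¹))) := by
  refine ⟨?_, ?_, ?_, ?_, ?_, ?_, ?_⟩ <;> decide +kernel

theorem plane_i_facts :
    act 0 2 1 = 1 ∧ act 0 2 13 = 13 ∧ act 0 2 14 = 14 ∧ act 0 2 12 = 12 ∧ act 1 0 13 = 14 ∧ act 1 0 12 = 12 ∧
    act 1 0 1 = vSmul 2 1 ∧ sumz 1 = false ∧ one1 = 13 ∧ (13 : Fin 27) = vAdd 9 (vAdd 3 1) ∧
    heavy 12 ∧ xType 3 12 = false ∧
    (Finset.univ.filter fun c : Fin 27 => act 0 2 c = c).card = 9 ∧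
    (∀ c, act 0 2 c = c → c ∈ mult 1 ∨ c ∈ mult 13 ∨ c ∈ mult 14 ∨ c ∈ mult 12) ∧
    (∀ s k, act s k 12 = 12 → sComp s k 0 = sComp 0 2 s → kmul k 2 = kmul 2 k →
      (s, k) = (0, 0) ∨ (s, k) = (1, 0) ∨ (s, k) = (1, 2) ∨ (s, k) = (0, 2)) ∧
    (∀ s k, sComp s k 0 = s) := by
  refine ⟨?_, ?_, ?_, ?_, ?_, ?_, ?_, ?_, ?_, ?_, ?_, ?_, ?_, ?_, ?_, ?_⟩ <;> decide +kernel

/-- A setting with all signs in which the centralizer of an axis splits. -/
structure SData (G : Type*) [Group G] [Finite G] where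
  /-- The setting. -/
  S : Setting G
  /-- The inversion. -/
  D : S.F.Full
  /-- The symmetric group. -/
  K : D.Six

namespace SData

variable {G : Type*} [Group G] [Finite G] (T : SData G)

/-- The elements of `J`. -/
abbrev v (c : Fin 27) : G := T.S.F.v c

/-- The sign change of the last coordinate. -/
noncomputable abbrev t : G := T.D.w 1 0

/-- The swap of the first two coordinates. -/
noncomputable abbrev i : G := T.D.w 0 2

/-- The homomorphism from the symmetric group. -/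
abbrev φ : Perm (Fin 6) →* G := T.K.φ

theorem v_comm (c d : Fin 27) : T.v c * T.v d = T.v d * T.v c := (T.S.F.v_comm c d).eq

theorem i_eq : T.i = T.φ SixP.t0 := (T.D.w_p 2).trans T.K.map_t.symm

theorem i_sq : T.i * T.i = 1 := T.D.w_sq (by decide +kernel) (by decide +kernel)

theorem t_sq : T.t * T.t = 1 := T.D.w_sq (by decide +kernel) (by decide +kernel)

theorem i_inv : T.i⁻¹ = T.i := inv_eq_of_mul_eq_one_right T.i_sq

theorem t_inv : T.t⁻¹ = T.t := inv_eq_of_mul_eq_one_right T.t_sq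

theorem i_ne : T.i ≠ 1 := T.D.w_ne_one (by decide)

theorem t_comm_i : T.t * T.i = T.i * T.t := by
  rw [T.i_eq]; exact (T.K.comm_t _).symm

theorem v_comm_i {c : Fin 27} : T.v c * T.i = T.i * T.v c ↔ act 0 2 c = c := T.D.comm_w

theorem w_conj {s : Fin 8} {k : Fin 6} (c : Fin 27) : T.D.w s k * T.v c * (T.D.w s k)⁻¹ = T.v (act s k c) :=
  (T.D.w_spec s k).2.1 c

theorem t_conj (c : Fin 27) : T.t * T.v c * T.t = T.v (act 1 0 c) := by
  conv_lhs => enter [2]; rw [← T.t_inv]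
  exact T.w_conj c

theorem a_eq : T.v 13 = T.S.D.a := by
  rw [← plane_i_facts.2.2.2.2.2.2.2.2.1]; exact T.S.a_eq

theorem a_split : T.v 13 = T.φ (SixP.a0 * SixP.b0) * T.v 1 := by
  rw [plane_i_facts.2.2.2.2.2.2.2.2.2.1, map_mul, T.K.map_a, T.K.map_b]
  show T.S.F.v _ = T.S.F.v 9 * T.S.F.v 3 * T.S.F.v 1
  rw [T.S.F.vmul, T.S.F.vmul, mul_assoc]

theorem t_a : T.t * T.v 13 * T.t = T.v 14 := by
  rw [T.t_conj, plane_i_facts.2.2.2.2.1]

theorem t_e3 : T.t * T.v 1 * T.t = (T.v 1)⁻¹ := by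
  rw [T.t_conj, plane_i_facts.2.2.2.2.2.2.1]; exact (T.S.F.v_inv 1).symm

theorem e3_comm_i : T.v 1 * T.i = T.i * T.v 1 := T.v_comm_i.2 plane_i_facts.1

theorem a_comm_i : T.v 13 * T.i = T.i * T.v 13 := T.v_comm_i.2 plane_i_facts.2.1

theorem φ_comm_t (σ : Perm (Fin 6)) : T.φ σ * T.t = T.t * T.φ σ := T.K.comm_t σ

theorem φ_comm_e3 (σ : Perm (Fin 6)) : T.φ σ * T.v 1 = T.v 1 * T.φ σ := T.K.comm_c σ

/-! ### The elementary group of three transpositions -/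

/-- The image of the elementary group of three transpositions. -/
def E : Subgroup G where
  carrier := {g | ∃ σ, InE σ ∧ T.φ σ = g}
  one_mem' := ⟨1, inE_facts.1, map_one _⟩
  mul_mem' := by
    rintro _ _ ⟨σ, hσ, rfl⟩ ⟨τ, hτ, rfl⟩
    exact ⟨σ * τ, (inE_facts.2.2.2.2.2.1 σ hσ τ hτ).1, map_mul _ _ _⟩
  inv_mem' := by
    rintro _ ⟨σ, hσ, rfl⟩
    exact ⟨σ⁻¹, (inE_facts.2.2.2.2.2.1 σ hσ σ hσ).2.1, map_inv _ _⟩

theorem mem_E {g : G} : g ∈ T.E ↔ ∃ σ, InE σ ∧ T.φ σ = g := Iff.rfl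

theorem φ_mem_E {σ : Perm (Fin 6)} (h : InE σ) : T.φ σ ∈ T.E := ⟨σ, h, rfl⟩

theorem i_mem_E : T.i ∈ T.E := ⟨_, inE_facts.2.2.2.2.1, T.i_eq.symm⟩

theorem E_comm {x y : G} (hx : x ∈ T.E) (hy : y ∈ T.E) : x * y = y * x := by
  obtain ⟨σ, hσ, rfl⟩ := hx
  obtain ⟨τ, hτ, rfl⟩ := hy
  rw [← map_mul, ← map_mul, (inE_facts.2.2.2.2.2.1 σ hσ τ hτ).2.2.1]

theorem E_sq {x : G} (hx : x ∈ T.E) : x * x = 1 := by
  obtain ⟨σ, hσ, rfl⟩ := hx
  rw [← map_mul, (inE_facts.2.2.2.2.2.1 σ hσ σ hσ).2.2.2, map_one]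

theorem E_card : Nat.card T.E = 8 := by
  have h : Nat.card {σ : Perm (Fin 6) // InE σ} = 8 := by
    rw [Nat.card_eq_fintype_card, Fintype.card_subtype]; exact inE_facts.2.2.2.2.2.2.2.2
  rw [← h]
  refine (Nat.card_eq_of_bijective (fun σ : {σ : Perm (Fin 6) // InE σ} => (⟨T.φ σ.1, T.φ_mem_E σ.2⟩ : T.E))
    ⟨fun σ τ e => Subtype.ext (T.K.inj (congrArg Subtype.val e)), ?_⟩).symm
  rintro ⟨_, σ, hσ, rfl⟩
  exact ⟨⟨σ, hσ⟩, rfl⟩

theorem E_comm_t {x : G} (hx : x ∈ T.E) : x * T.t = T.t * x := by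
  obtain ⟨σ, -, rfl⟩ := hx; exact T.φ_comm_t σ

theorem E_comm_e3 {x : G} (hx : x ∈ T.E) : x * T.v 1 = T.v 1 * x := by
  obtain ⟨σ, -, rfl⟩ := hx; exact T.φ_comm_e3 σ

theorem E_comm_i {x : G} (hx : x ∈ T.E) : x * T.i = T.i * x := T.E_comm hx T.i_mem_E

theorem a_E {x : G} (hx : x ∈ T.E) : T.v 13 * x * (T.v 13)⁻¹ ∈ T.E := by
  obtain ⟨σ, hσ, rfl⟩ := hx
  refine ⟨_, inE_facts.2.2.2.2.2.2.1 σ hσ, ?_⟩
  rw [T.a_split, map_mul, map_mul, map_inv,
    show ∀ p q e : G, p * e * q * (p * e)⁻¹ = p * (e * q * e⁻¹) * p⁻¹ from fun p q e => by group,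
    ← T.φ_comm_e3 σ, mul_inv_cancel_right]

/-! ### The plane of the swap -/

/-- The fixed elements of `J`. -/
def P : Subgroup G where
  carrier := {g | ∃ c, act 0 2 c = c ∧ T.v c = g}
  one_mem' := ⟨0, by decide +kernel, T.S.F.v0⟩
  mul_mem' := by
    rintro _ _ ⟨c, hc, rfl⟩ ⟨d, hd, rfl⟩
    refine ⟨vAdd c d, T.v_comm_i.1 ?_, T.S.F.vmul c d⟩
    show T.S.F.v _ * T.i = T.i * T.S.F.v _
    rw [T.S.F.vmul]
    exact ((show Commute (T.v c) T.i from T.v_comm_i.2 hc).mul_left (show Commute (T.v d) T.i from T.v_comm_i.2 hd)).eq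
  inv_mem' := by
    rintro _ ⟨c, hc, rfl⟩
    refine ⟨vSmul 2 c, T.v_comm_i.1 ?_, (T.S.F.v_inv c).symm⟩
    show T.S.F.v _ * T.i = T.i * T.S.F.v _
    rw [← T.S.F.v_inv]
    exact (show Commute (T.v c) T.i from T.v_comm_i.2 hc).inv_left.eq

theorem P_comm {x y : G} (hx : x ∈ T.P) (hy : y ∈ T.P) : x * y = y * x := by
  obtain ⟨c, -, rfl⟩ := hx
  obtain ⟨d, -, rfl⟩ := hy
  exact T.v_comm c d

theorem P_cube {x : G} (hx : x ∈ T.P) : x ^ 3 = 1 := by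
  obtain ⟨c, -, rfl⟩ := hx
  exact T.S.F.v_cube c

theorem P_comm_i {x : G} (hx : x ∈ T.P) : x * T.i = T.i * x := by
  obtain ⟨c, hc, rfl⟩ := hx
  exact T.v_comm_i.2 hc

theorem P_card : Nat.card T.P = 9 := by
  have h : Nat.card {c : Fin 27 // act 0 2 c = c} = 9 := by
    rw [Nat.card_eq_fintype_card, Fintype.card_subtype]; exact plane_i_facts.2.2.2.2.2.2.2.2.2.2.2.2.1
  rw [← h]
  refine (Nat.card_eq_of_bijective (fun c : {c : Fin 27 // act 0 2 c = c} => (⟨T.v c.1, c.1, c.2, rfl⟩ : T.P))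
    ⟨fun c d e => Subtype.ext (T.S.F.vinj (congrArg Subtype.val e)), ?_⟩).symm
  rintro ⟨_, c, hc, rfl⟩
  exact ⟨⟨c, hc⟩, rfl⟩

theorem e3_mem_P : T.v 1 ∈ T.P := ⟨1, plane_i_facts.1, rfl⟩

theorem a_mem_P : T.v 13 ∈ T.P := ⟨13, plane_i_facts.2.1, rfl⟩

/-- The four cyclic subgroups of the plane. -/
theorem P_cases {x : G} (hx : x ∈ T.P) : x ∈ zpowers (T.v 1) ∨ x ∈ zpowers (T.v 13) ∨ x ∈ zpowers (T.v 14) ∨
    x ∈ zpowers (T.v 12) := by
  obtain ⟨c, hc, rfl⟩ := hx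
  rcases plane_i_facts.2.2.2.2.2.2.2.2.2.2.2.2.2.1 c hc with h | h | h | h
  · exact Or.inl (Frame.mem_zpowers_v.2 ⟨c, h, rfl⟩)
  · exact Or.inr (Or.inl (Frame.mem_zpowers_v.2 ⟨c, h, rfl⟩))
  · exact Or.inr (Or.inr (Or.inl (Frame.mem_zpowers_v.2 ⟨c, h, rfl⟩)))
  · exact Or.inr (Or.inr (Or.inr (Frame.mem_zpowers_v.2 ⟨c, h, rfl⟩)))

theorem P_E {x e : G} (hx : x ∈ T.P) (he : e ∈ T.E) : x * e * x⁻¹ ∈ T.E := by
  have h3 : ∀ y ∈ ({T.v 1, T.v 13} : Set G), ∀ e ∈ T.E, y * e * y⁻¹ ∈ T.E := by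
    rintro y (rfl | rfl) e he
    · rw [← T.E_comm_e3 he, mul_inv_cancel_right]; exact he
    · exact T.a_E he
  have hle : T.P ≤ normalizer (T.E : Set G) := by
    have hgen : ∀ c, act 0 2 c = c → ∃ k l : Fin 3, c = vAdd (vSmul k.val 1) (vSmul l.val 13) := by decide +kernel
    rintro _ ⟨c, hc, rfl⟩
    obtain ⟨k, l, rfl⟩ := hgen c hc
    rw [v, T.S.F.vmul, T.S.F.v_smul k.2, T.S.F.v_smul l.2]
    exact mul_mem (pow_mem (Fusion.le_normalizer_of_conj_mem (h3 _ (Or.inl rfl))) _)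
      (pow_mem (Fusion.le_normalizer_of_conj_mem (h3 _ (Or.inr rfl))) _)
  exact (mem_normalizer_iff.1 (hle hx) e).1 he

/-! ### The quaternion group -/

/-- Membership in the centralizer of the central element. -/
theorem mem_C {g : G} : g ∈ T.S.D.C ↔ g * T.v 13 = T.v 13 * g := by rw [T.S.D.mem_C, T.a_eq]

theorem i_C : T.i ∈ T.S.D.C := T.mem_C.2 T.a_comm_i.symm

theorem π_i : T.S.D.π ⟨T.i, T.i_C⟩ = -1 := T.S.neg_of_sq T.i_C T.i_sq T.i_ne

/-- Elements of `R` commuting with the swap are central. -/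
theorem R_comm_i {r : G} (hr : r ∈ T.S.D.R) (h : r * T.i = T.i * r) : r ∈ zpowers T.S.D.a := by
  have h1 := T.S.D.inverts T.i_C T.i_sq T.π_i hr
  rw [← h, mul_inv_cancel_right] at h1
  rw [show r = (r * r)⁻¹ * r ^ 3 by rw [pow_succ, pow_two]; group, T.S.D.R_exp r hr, mul_one]
  exact inv_mem h1

theorem ker_i {g : G} (hg : g ∈ T.S.D.C) (h : g * T.i = T.i * g) (h1 : T.S.D.π ⟨g, hg⟩ = 1) :
    g = 1 ∨ g = T.v 13 ∨ g = T.v 13 * T.v 13 := by
  rw [T.a_eq]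
  exact T.S.D.mem_zpowers_a (T.R_comm_i ((T.S.D.ker _).1 h1) h)

/-- Lifts of the quotient commuting with the swap. -/
theorem lift_i (u : SL23) : ∃ g, ∃ hg : g ∈ T.S.D.C, g * T.i = T.i * g ∧ T.S.D.π ⟨g, hg⟩ = u := by
  obtain ⟨⟨c, hc⟩, rfl⟩ := T.S.D.surj u
  set r := c * T.i * c⁻¹ * T.i⁻¹ with hr
  have hrR : r ∈ T.S.D.R := T.S.D.conj_i_mem T.i_C T.i_sq T.π_i hc
  have hri : c * T.i * c⁻¹ = r * T.i := by rw [hr]; group
  have hrr : T.i * r * T.i = r⁻¹ := by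
    have h1 : r * T.i * (r * T.i) = 1 := by
      rw [← hri, show c * T.i * c⁻¹ * (c * T.i * c⁻¹) = c * (T.i * T.i) * c⁻¹ by group, T.i_sq]; group
    refine eq_inv_of_mul_eq_one_right ?_
    rw [← h1]; group
  have hr3 : r * (r * r) = 1 := by rw [← pow_two, ← pow_succ', T.S.D.R_exp r hrR]
  set s := r * r with hs
  have hsR : s ∈ T.S.D.R := mul_mem hrR hrR
  have hsi : s * T.i * s⁻¹ = r * T.i := by
    have e : s⁻¹ = r := inv_eq_of_mul_eq_one_left hr3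
    have e2 : T.i * r = r⁻¹ * T.i := by
      rw [← hrr, mul_assoc (T.i * r), T.i_sq, mul_one]
    rw [e, mul_assoc, e2, hs]; group
  refine ⟨s⁻¹ * c, mul_mem (inv_mem (T.S.D.R_le hsR)) hc, ?_, ?_⟩
  · calc s⁻¹ * c * T.i = s⁻¹ * (c * T.i * c⁻¹) * c := by group
      _ = s⁻¹ * (s * T.i * s⁻¹) * c := by rw [hri, hsi]
      _ = T.i * (s⁻¹ * c) := by group
  · rw [show (⟨s⁻¹ * c, _⟩ : T.S.D.C) = ⟨s, T.S.D.R_le hsR⟩⁻¹ * ⟨c, hc⟩ from rfl, map_mul, map_inv,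
      (T.S.D.ker ⟨s, T.S.D.R_le hsR⟩).2 hsR, inv_one, one_mul]

/-- The quaternion group. -/
def Q : Subgroup G where
  carrier := {g | g * T.v 13 = T.v 13 * g ∧ g * T.i = T.i * g ∧ g ^ 4 = 1}
  one_mem' := ⟨by group, by group, one_pow 4⟩
  mul_mem' := by
    rintro g h ⟨hga, hgi, hg4⟩ ⟨hha, hhi, hh4⟩
    refine ⟨((show Commute g (T.v 13) from hga).mul_left (show Commute h (T.v 13) from hha)).eq,
      ((show Commute g T.i from hgi).mul_left (show Commute h T.i from hhi)).eq, ?_⟩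
    have hgC := T.mem_C.2 hga
    have hhC := T.mem_C.2 hha
    set c := g * h * g⁻¹ * h⁻¹ with hc
    have hcC : c ∈ T.S.D.C := mul_mem (mul_mem (mul_mem hgC hhC) (inv_mem hgC)) (inv_mem hhC)
    have hci : c * T.i = T.i * c :=
      ((((show Commute g T.i from hgi).mul_left (show Commute h T.i from hhi)).mul_left
        (show Commute g T.i from hgi).inv_left).mul_left (show Commute h T.i from hhi).inv_left).eq
    have h4 : ∀ {x : G} (hx : x ∈ T.S.D.C), x ^ 4 = 1 → T.S.D.π ⟨x, hx⟩ ^ 4 = 1 := fun {x} hx e => by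
      rw [← map_pow, show (⟨x, hx⟩ : T.S.D.C) ^ 4 = 1 from Subtype.ext (by simpa using e), map_one]
    have hval : ∃ j : G, (j = 1 ∨ j = T.i) ∧ ∃ m : ℕ, c = j * T.v 13 ^ m := by
      have hπ : T.S.D.π ⟨c, hcC⟩ =
          T.S.D.π ⟨g, hgC⟩ * T.S.D.π ⟨h, hhC⟩ * (T.S.D.π ⟨g, hgC⟩)⁻¹ * (T.S.D.π ⟨h, hhC⟩)⁻¹ := by
        rw [← map_inv, ← map_inv, ← map_mul, ← map_mul, ← map_mul]; rfl
      have hker : ∀ {x : G} (hx : x ∈ T.S.D.C), x * T.i = T.i * x → T.S.D.π ⟨x, hx⟩ = 1 →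
          ∃ m : ℕ, x = T.v 13 ^ m := fun {x} hx hxi e => by
        rcases T.ker_i hx hxi e with f | f | f
        exacts [⟨0, by rw [f, pow_zero]⟩, ⟨1, by rw [f, pow_one]⟩, ⟨2, by rw [f, pow_two]⟩]
      rcases sl_quat.1 _ _ (h4 hgC hg4) (h4 hhC hh4) with e | e <;> rw [← hπ] at e
      · obtain ⟨m, hm⟩ := hker hcC hci e
        exact ⟨1, Or.inl rfl, m, by rw [one_mul, hm]⟩
      · have e' : T.S.D.π ⟨T.i * c, mul_mem T.i_C hcC⟩ = 1 := by
          rw [show (⟨T.i * c, _⟩ : T.S.D.C) = ⟨T.i, T.i_C⟩ * ⟨c, hcC⟩ from rfl, map_mul, T.π_i, e]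
          decide +kernel
        obtain ⟨m, hm⟩ := hker _ (by rw [mul_assoc, hci]) e'
        exact ⟨T.i, Or.inr rfl, m, by rw [← hm, ← mul_assoc, T.i_sq, one_mul]⟩
    obtain ⟨j, hj, m, hcj⟩ := hval
    have hjg : ∀ x, x * T.i = T.i * x → Commute x j := fun x hx => by
      rcases hj with rfl | rfl
      exacts [Commute.one_right x, hx]
    have hj2 : j * j = 1 := by
      rcases hj with rfl | rfl
      exacts [one_mul 1, T.i_sq]
    have hja : Commute j (T.v 13 ^ m) := ((hjg _ T.a_comm_i).symm).pow_right m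
    have hcg : Commute g c := hcj ▸ (hjg g hgi).mul_right ((show Commute g (T.v 13) from hga).pow_right m)
    have hch : Commute h c := hcj ▸ (hjg h hhi).mul_right ((show Commute h (T.v 13) from hha).pow_right m)
    have hc4 : c ^ 4 = 1 := by
      have e : g * h * g⁻¹ = c * h := by rw [hc]; group
      have := congrArg (fun x : G => x ^ 4) e
      rw [conj_pow, hh4, (hch.symm).mul_pow, hh4, mul_one, mul_one, mul_inv_cancel] at this
      exact this.symm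
    have hm1 : T.v 13 ^ m = 1 := by
      rw [hcj, hja.mul_pow, show j ^ 4 = 1 by rw [show (4 : ℕ) = 2 * 2 by rfl, pow_mul, pow_two j, hj2, one_pow],
        one_mul, ← pow_mul, show m * 4 = 3 * m + m by ring, pow_add, pow_mul,
        show T.v 13 ^ 3 = 1 from T.S.F.v_cube 13, one_pow, one_mul] at hc4
      exact hc4
    rw [hm1, mul_one] at hcj
    have hcc : c * c = 1 := by rw [hcj]; exact hj2
    have hgh : g * h = c * (h * g) := by rw [hc]; group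
    have hg2h : Commute (g * g) h := by
      show g * g * h = h * (g * g)
      calc g * g * h = g * c * (h * g) := by rw [mul_assoc, hgh, ← mul_assoc]
        _ = c * (g * h) * g := by rw [hcg.eq]; group
        _ = c * c * (h * g) * g := by rw [hgh]; group
        _ = h * (g * g) := by rw [hcc, one_mul, mul_assoc]
    have hsq : g * h * (g * h) = c * (g * g * (h * h)) := by
      have e : h * g = c * (g * h) := by rw [hgh, ← mul_assoc, hcc, one_mul]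
      calc g * h * (g * h) = g * (h * g) * h := by group
        _ = g * c * (g * h) * h := by rw [e]; group
        _ = _ := by rw [hcg.eq]; group
    have hgg : Commute (g * g) (h * h) := hg2h.mul_right hg2h
    have hc' : Commute c (g * g * (h * h)) :=
      ((hcg.symm.mul_right hcg.symm).mul_right (hch.symm.mul_right hch.symm))
    calc (g * h) ^ 4 = (g * h * (g * h)) ^ 2 := by rw [← pow_two, ← pow_mul]
      _ = c ^ 2 * ((g * g) ^ 2 * (h * h) ^ 2) := by rw [hsq, hc'.mul_pow, hgg.mul_pow]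
      _ = 1 := by
        rw [pow_two c, hcc, one_mul, ← pow_two g, ← pow_two h, ← pow_mul, ← pow_mul, hg4, hh4, one_mul]
  inv_mem' := by
    rintro g ⟨hga, hgi, hg4⟩
    exact ⟨(show Commute g (T.v 13) from hga).inv_left.eq, (show Commute g T.i from hgi).inv_left.eq,
      by rw [inv_pow, hg4, inv_one]⟩

end SData

end Cfsg.Lib.PSpThree
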