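import Cfsg.Agent.Lib.PSpThree.SixClasses
import Cfsg.Agent.Lib.PSpThree.PairQuot

/-!
# A split axis centralizer: centralizers modulo the swap
-/

set_option autoImplicit false
set_option maxHeartbeats 1600000
set_option maxRecDepth 100000
set_option linter.unusedSectionVars false
set_option linter.style.haveILetI false
set_option synthInstance.maxSize 5000

namespace Cfsg.Lib.PSpThree

open Subgroup Cfsg.Lib.SymNine Equiv

theorem order_facts :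
    (∀ u : SL23, u ^ 12 = 1) ∧
    (∀ σ : Perm (Fin 6), σ * SixP.t0 = SixP.t0 * σ → σ ^ 48 = 1) ∧
    (∀ σ : Perm (Fin 6), σ * SixP.t0 = SixP.t0 * σ →
      (σ * swap 0 3 * σ⁻¹ * (swap 0 3)⁻¹ = 1 ∨ σ * swap 0 3 * σ⁻¹ * (swap 0 3)⁻¹ = SixP.t0) →
      (σ * swap 1 4 * σ⁻¹ * (swap 1 4)⁻¹ = 1 ∨ σ * swap 1 4 * σ⁻¹ * (swap 1 4)⁻¹ = SixP.t0) → InE σ) ∧
    (∀ σ : Perm (Fin 6), σ * SixP.t0 = SixP.t0 * σ → ¬ InE σ →
      (σ ^ 6 = 1 ∧ σ ^ 2 ≠ 1) ∨
      ((σ * (SixP.a0 * SixP.b0 * σ⁻¹ * (SixP.a0 * SixP.b0)⁻¹)) ^ 6 = 1 ∧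
        (σ * (SixP.a0 * SixP.b0 * σ⁻¹ * (SixP.a0 * SixP.b0)⁻¹)) ^ 2 ≠ 1)) ∧
    (∀ σ : Perm (Fin 6), InE σ → σ ≠ 1 → σ ≠ SixP.t0 → ∀ τ : Perm (Fin 6), InE τ →
      let σ' := SixP.a0 * SixP.b0 * σ * (SixP.a0 * SixP.b0)⁻¹
      τ = 1 ∨ τ = SixP.t0 ∨ τ = σ ∨ τ = σ' ∨ τ = σ * σ' ∨ τ = SixP.t0 * σ ∨ τ = SixP.t0 * σ' ∨
        τ = SixP.t0 * (σ * σ')) ∧
    (∀ c, act 0 2 c = c → act 1 0 c = vSmul 2 c → c ∈ mult 1) ∧
    SixP.a0 * SixP.b0 * swap 0 3 * (SixP.a0 * SixP.b0)⁻¹ = swap 1 4 ∧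
    SixP.a0 * SixP.b0 * swap 1 4 * (SixP.a0 * SixP.b0)⁻¹ = swap 2 5 ∧
    swap 1 4 * swap 0 3 ≠ (1 : Perm (Fin 6)) ∧ swap 1 4 * swap 0 3 ≠ SixP.t0 ∧
    swap 0 3 * swap 1 4 * swap 2 5 = SixP.t0 ∧ vAdd 13 1 = 14 := by
  refine ⟨?_, ?_, ?_, ?_, ?_, ?_, ?_, ?_, ?_, ?_, ?_, ?_⟩ <;> decide +kernel

namespace SData

variable {G : Type*} [Group G] [Finite G] (T : SData G)

/-- The elements commuting with the swap that centralise a subgroup modulo it. -/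
noncomputable def modC (A : Subgroup G) : Subgroup G where
  carrier := {x | x * T.i = T.i * x ∧ ∀ a ∈ A, x * a * x⁻¹ * a⁻¹ = 1 ∨ x * a * x⁻¹ * a⁻¹ = T.i}
  one_mem' := ⟨by group, fun a _ => Or.inl (by group)⟩
  mul_mem' := by
    rintro x y ⟨hx, hxa⟩ ⟨hy, hya⟩
    refine ⟨((show Commute x T.i from hx).mul_left (show Commute y T.i from hy)).eq, fun a ha => ?_⟩
    have e : x * y * a * (x * y)⁻¹ * a⁻¹ = x * (y * a * y⁻¹ * a⁻¹) * x⁻¹ * (x * a * x⁻¹ * a⁻¹) := by group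
    have hxi : x * T.i * x⁻¹ = T.i := by rw [hx, mul_inv_cancel_right]
    rcases hxa a ha with h1 | h1 <;> rcases hya a ha with h2 | h2 <;> rw [e, h1, h2]
    · left; group
    · right; rw [hxi, mul_one]
    · right; group
    · left; rw [hxi, T.i_sq]
  inv_mem' := by
    rintro x ⟨hx, hxa⟩
    refine ⟨(show Commute x T.i from hx).inv_left.eq, fun a ha => ?_⟩
    have e : x⁻¹ * a * x⁻¹⁻¹ * a⁻¹ = x⁻¹ * (x * a * x⁻¹ * a⁻¹)⁻¹ * x := by group
    rcases hxa a ha with h1 | h1 <;> rw [e, h1]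
    · left; group
    · right
      rw [T.i_inv, mul_assoc, ← hx, inv_mul_cancel_left]

theorem modC_comm_i {A : Subgroup G} {x : G} (hx : x ∈ T.modC A) : x * T.i = T.i * x := hx.1

theorem modC_conj {A : Subgroup G} {y : G} (hy : y * T.i = T.i * y) (hA : ∀ a ∈ A, y * a * y⁻¹ ∈ A) :
    ∀ x ∈ T.modC A, y * x * y⁻¹ ∈ T.modC A := by
  intro x ⟨hx, hxa⟩
  have hyi : y * T.i * y⁻¹ = T.i := by rw [hy, mul_inv_cancel_right]
  refine ⟨(((show Commute y T.i from hy).mul_left (show Commute x T.i from hx)).mul_left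
    (show Commute y T.i from hy).inv_left).eq, fun a ha => ?_⟩
  let f : A → A := fun b => ⟨y * b * y⁻¹, hA b b.2⟩
  have hf : Function.Injective f := fun b c e => Subtype.ext (by simpa [f] using congrArg Subtype.val e)
  obtain ⟨b, hb⟩ := Finite.surjective_of_injective hf ⟨a, ha⟩
  have hb' : y * (b : G) * y⁻¹ = a := congrArg Subtype.val hb
  have e : y * x * y⁻¹ * a * (y * x * y⁻¹)⁻¹ * a⁻¹ = y * (x * b * x⁻¹ * (b : G)⁻¹) * y⁻¹ := by rw [← hb']; group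
  rcases hxa b b.2 with h1 | h1 <;> rw [e, h1]
  · left; group
  · exact Or.inr hyi

theorem i_mem_modC {A : Subgroup G} (hA : ∀ a ∈ A, a * T.i = T.i * a) : T.i ∈ T.modC A :=
  ⟨rfl, fun a ha => Or.inl (by rw [← hA a ha, mul_inv_cancel_right, mul_inv_cancel])⟩

theorem e3_conj_E {e : G} (he : e ∈ T.E) : T.v 1 * e * (T.v 1)⁻¹ ∈ T.E := T.P_E T.e3_mem_P he

theorem t_conj_E {e : G} (he : e ∈ T.E) : T.t * e * T.t⁻¹ ∈ T.E := by
  rw [← T.E_comm_t he, mul_inv_cancel_right]; exact he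

/-- Elements of order prime to six commute with no nontrivial element of the plane. -/
theorem pow_144 {x g : G} (hx : x ∈ T.P) (hx1 : x ≠ 1) (hgi : g * T.i = T.i * g) (hgx : g * x = x * g) :
    g ^ 144 = 1 := by
  have gen : ∀ c, x ∈ zpowers (T.v c) → g * T.v c = T.v c * g := by
    intro c hxc
    have ho : orderOf (T.v c) ∣ 3 := orderOf_dvd_of_pow_eq_one (T.S.F.v_cube c)
    have hox : orderOf x = 3 := orderOf_eq_prime (T.P_cube hx) hx1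
    have e : zpowers x = zpowers (T.v c) := eq_of_le_of_card_ge (zpowers_le.2 hxc) (by
      rw [Nat.card_zpowers, Nat.card_zpowers, hox]; exact Nat.le_of_dvd (by norm_num) ho)
    obtain ⟨k, hk⟩ : T.v c ∈ zpowers x := e ▸ mem_zpowers _
    rw [← hk]; exact ((show Commute g x from hgx).zpow_right k).eq
  have ha36 : ∀ {y : G}, y * T.v 13 = T.v 13 * y → y * T.i = T.i * y → y ^ 36 = 1 := fun {y} hya _ => by
    have hyC := T.mem_C.2 hya
    have h1 : T.S.D.π ⟨y ^ 12, pow_mem hyC 12⟩ = 1 := by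
      rw [show (⟨y ^ 12, pow_mem hyC 12⟩ : T.S.D.C) = ⟨y, hyC⟩ ^ 12 from Subtype.ext (by simp), map_pow,
        order_facts.1]
    rw [show 36 = 12 * 3 by rfl, pow_mul]
    exact T.S.D.R_exp _ ((T.S.D.ker _).1 h1)
  rcases T.P_cases hx with h | h | h | h
  · obtain ⟨l, σ, hσ, rfl⟩ := T.cent_e3 (gen 1 h) hgi
    have hc : Commute (T.v 1 ^ l) (T.φ σ) := ((show Commute (T.φ σ) (T.v 1) from T.φ_comm_e3 σ).symm).pow_left l
    rw [hc.mul_pow, ← pow_mul, show l * 144 = 3 * (48 * l) by ring, pow_mul, show T.v 1 ^ 3 = 1 from T.S.F.v_cube 1,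
      one_pow, one_mul, ← map_pow, show 144 = 48 * 3 by rfl, pow_mul, order_facts.2.1 σ hσ, one_pow, map_one]
  · rw [show 144 = 36 * 4 by rfl, pow_mul, ha36 (gen 13 h) hgi, one_pow]
  · have e14 := gen 14 h
    have h13 : T.v 13 = T.t * T.v 14 * T.t := by rw [← T.t_a, T.t_t]
    have h1 := ha36 (y := T.t * g * T.t) (by rw [h13, T.t_conj_mul, T.t_conj_mul, e14])
      (by
        conv_lhs => rw [← T.t_i_t, T.t_conj_mul, hgi]
        conv_rhs => rw [← T.t_i_t, T.t_conj_mul])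
    have h2 := conj_pow (i := 36) (a := T.t) (b := g)
    rw [T.t_inv, h1] at h2
    have : g ^ 36 = 1 := by
      rw [← T.t_t (g ^ 36), ← h2, mul_one, T.t_sq]
    rw [show 144 = 36 * 4 by rfl, pow_mul, this, one_pow]
  · obtain ⟨y, hy, m, hm, rfl⟩ := T.cent_12 (gen 12 h) hgi
    have hmP : m * y * m⁻¹ ∈ T.P ∧ m * m = 1 := by
      have hconj : ∀ {m}, (∀ c, ∃ d, m * T.v c * m⁻¹ = T.v d) → Commute m T.i → m * m = 1 →
          m * y * m⁻¹ ∈ T.P ∧ m * m = 1 := fun {m} hN hmi hmm => by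
        obtain ⟨c, hc, rfl⟩ := hy
        obtain ⟨d, hd⟩ := hN c
        refine ⟨⟨d, T.v_comm_i.1 ?_, hd.symm⟩, hmm⟩
        rw [← hd]
        exact ((hmi.mul_left (show Commute (T.v c) T.i from T.v_comm_i.2 hc)).mul_left hmi.inv_left).eq
      rcases hm with rfl | rfl | rfl | rfl
      · exact hconj (fun c => ⟨c, by group⟩) (Commute.one_left _) (one_mul 1)
      · exact hconj (fun c => ⟨_, T.w_conj c⟩) T.t_comm_i T.t_sq
      · refine hconj (fun c => ⟨act 1 0 (act 0 2 c), ?_⟩)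
          ((show Commute T.t T.i from T.t_comm_i).mul_left (Commute.refl _)) ?_
        · rw [← T.w_conj (s := 1) (k := 0), ← T.w_conj (s := 0) (k := 2)]; group
        · rw [show T.t * T.i * (T.t * T.i) = T.t * (T.i * T.t) * T.i by group, ← T.t_comm_i,
            show T.t * (T.t * T.i) * T.i = T.t * T.t * (T.i * T.i) by group, T.t_sq, T.i_sq, one_mul]
      · exact hconj (fun c => ⟨_, T.w_conj c⟩) (Commute.refl _) T.i_sq
    have e : (y * m) ^ 2 = y * (m * y * m⁻¹) * (m * m) := by rw [pow_two]; group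
    rw [show 144 = 2 * (3 * 24) by rfl, pow_mul, e, hmP.2, mul_one, pow_mul,
      (show Commute y (m * y * m⁻¹) from T.P_comm hy hmP.1).mul_pow, T.P_cube hy, T.P_cube hmP.1, one_mul, one_pow]

/-- The plane with a cyclic subgroup, acting on a section. -/
theorem pairAct {A E₀ : Subgroup G} {c : G} (hA : ∀ x ∈ T.P, ∀ a ∈ A, x * a * x⁻¹ ∈ A)
    (hE : ∀ x ∈ T.P, ∀ e ∈ E₀, x * e * x⁻¹ ∈ E₀) (hEL : E₀ ≤ T.modC A)
    (hEn : ∀ l ∈ T.modC A, ∀ e ∈ E₀, l * e * l⁻¹ ∈ E₀) (hE8 : Nat.card E₀ = 8) (hc : c ∈ T.P) (hc1 : c ≠ 1)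
    (hcL : c ∈ T.modC A)
    (cent : ∀ g ∈ T.modC A, g * c * g⁻¹ * c⁻¹ ∈ E₀ → ∃ k : ℕ, ∃ e ∈ E₀, g = c ^ k * e) :
    PairAct (T.modC A) E₀ T.P c where
  hEL := hEL
  hEn := hEn
  hE2 := ⟨3, by rw [hE8]; rfl⟩
  hPL x hx l hl := T.modC_conj (T.P_comm_i hx) (hA x hx) l hl
  hPE := hE
  hPc _ hx _ hy := T.P_comm hx hy
  hP3 _ hx := T.P_cube hx
  hP9 := T.P_card
  c_mem := hc
  c_L := hcL
  c_ne := hc1
  cent := cent
  small x hx hxc g hg hgx p hp hgp := by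
    have h144 := T.pow_144 hx (fun e => hxc (e ▸ one_mem _)) (T.modC_comm_i hg) hgx
    exact orderOf_eq_one_iff.1 (Nat.eq_one_of_dvd_coprimes (show Nat.Coprime p 144 by rcases hp with rfl | rfl <;> norm_num)
      (orderOf_dvd_of_pow_eq_one hgp) (orderOf_dvd_of_pow_eq_one h144))

end SData

/-- In a group without elements of order three modulo a subgroup with squares of exponent two, elements of order
dividing nine are trivial and those of order six are involutions. -/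
theorem three_free {G : Type*} [Group G] {O E : Subgroup G} (hE : ∀ e ∈ E, e ^ 4 = 1)
    (h3 : ∀ g ∈ O, g ^ 3 ∈ E → g ∈ E) :
    (∀ g ∈ O, g ^ 3 = 1 → g = 1) ∧ (∀ g ∈ O, g ^ 6 = 1 → g ^ 2 = 1) ∧ (∀ g ∈ O, g ^ 36 = 1 → g ^ 4 = 1) ∧
    (∀ g ∈ O, g ^ 144 = 1 → g ^ 16 = 1) := by
  have h1 : ∀ g ∈ O, g ^ 3 = 1 → g = 1 := fun g hg e => by
    have h4 := hE g (h3 g hg (e ▸ one_mem E))
    rwa [pow_succ, e, one_mul] at h4
  have h9 : ∀ g ∈ O, g ^ 9 = 1 → g = 1 := fun g hg e =>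
    h1 g hg (h1 _ (pow_mem hg 3) (by rw [← pow_mul]; exact e))
  exact ⟨h1, fun g hg e => h1 _ (pow_mem hg 2) (by rw [← pow_mul]; exact e),
    fun g hg e => h9 _ (pow_mem hg 4) (by rw [← pow_mul]; exact e),
    fun g hg e => h9 _ (pow_mem hg 16) (by rw [← pow_mul]; exact e)⟩

end Cfsg.Lib.PSpThree
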