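import Cfsg.Agent.Lib.PSpThree.SixFree
import Cfsg.Agent.Lib.ZStar.Main

/-!
# A split axis centralizer: two disjoint transpositions are centralised with the third

The swap is isolated modulo the two transpositions, and the odd core is killed by a four group of the core.
-/

set_option autoImplicit false
set_option maxHeartbeats 1600000
set_option maxRecDepth 100000
set_option linter.unusedSectionVars false
set_option linter.style.haveILetI false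
set_option synthInstance.maxSize 5000

namespace Cfsg.Lib.PSpThree

open Subgroup Cfsg Cfsg.Lib.SymNine Equiv

theorem six_pair_cent : ∀ σ : Perm (Fin 6), σ * swap 0 3 = swap 0 3 * σ → σ * swap 1 4 = swap 1 4 * σ → InE σ := by
  decide +kernel

namespace SData

variable {G : Type*} [Group G] [Finite G] (T : SData G)

/-- Only the swap has its classes over the two transpositions. -/
theorem pattern_i {y : G} (hy : y ∈ T.modC T.E) (hy2 : y * y = 1) (hi : ∃ g : G, g * T.i * g⁻¹ = y)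
    (ht : ∃ g : G, g * T.t * g⁻¹ = y * T.φ (swap 0 3 * swap 1 4)) : y = T.i := by
  have hfE : T.φ (swap 0 3 * swap 1 4) ∈ T.E := T.pE_le_E (T.φ_mem_pE (Or.inr (Or.inr (Or.inr rfl))))
  obtain ⟨l, m, o, ho, rfl⟩ := T.modC_E_form hy
  have he3P : ∀ n : ℕ, T.v 1 ^ n ∈ T.P := fun n => pow_mem T.e3_mem_P n
  fin_cases m <;> simp only [pow_zero, pow_one, mul_one] at hy2 hi ht ⊢
  · have hl : T.v 1 ^ l = 1 := by
      set x := T.v 1 ^ l with hx
      have hx2 : x * x ∈ T.O := by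
        have e : x * x = x * o⁻¹ * x⁻¹ * o⁻¹ := by
          calc x * x = x * o⁻¹ * x⁻¹ * o⁻¹ * (o * x * (o * x)) := by group
            _ = _ := by rw [hy2, mul_one]
        rw [e]
        exact mul_mem (T.P_O (he3P l) (inv_mem ho)) (inv_mem ho)
      have h3 : x ^ 3 = 1 := T.P_cube (he3P l)
      have h4 := T.O_four hx2
      have e : (x * x) ^ 4 = x ^ 2 := by
        rw [← pow_two, ← pow_mul, show 2 * 4 = 3 * 2 + 2 by rfl, pow_add, pow_mul, h3, one_pow, one_mul]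
      rw [e] at h4
      rwa [pow_succ, h4, one_mul] at h3
    rw [hl, mul_one] at hi ht hy2 ⊢
    by_cases hE : o ∈ T.E
    · exact T.E_i hE hi
    · obtain ⟨g, hg⟩ := ht
      refine absurd hg (T.O_not_t (mul_mem ho (T.E_le_O hfE)) (fun h => hE ?_) g)
      rw [show o = o * T.φ (swap 0 3 * swap 1 4) * (T.φ (swap 0 3 * swap 1 4))⁻¹ by group]
      exact mul_mem h (inv_mem hfE)
  · exfalso
    set x := T.v 1 ^ (2 * l) with hx
    have hxt : x * T.t * x⁻¹ = T.v 1 ^ l * T.t := by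
      have h : T.t * x⁻¹ * T.t = x := by
        have := conj_pow (i := 2 * l) (a := T.t) (b := T.v 1)
        rw [T.t_inv, T.t_e3, inv_pow, ← hx] at this
        rw [this, T.t_t]
      have h3 : x * x = T.v 1 ^ l := by
        rw [hx, ← pow_add, show 2 * l + 2 * l = 3 * l + l by ring, pow_add, pow_mul,
          show T.v 1 ^ 3 = 1 from T.S.F.v_cube 1, one_pow, one_mul]
      calc x * T.t * x⁻¹ = x * (T.t * x⁻¹ * T.t) * T.t := by
            rw [← mul_assoc, ← mul_assoc, mul_assoc _ T.t T.t, T.t_sq, mul_one]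
        _ = _ := by rw [h, h3]
    set o' := x⁻¹ * o * x with ho'
    have ho'O : o' ∈ T.O := by
      have := T.P_O (inv_mem (he3P (2 * l))) ho
      rwa [inv_inv] at this
    have hyx : o * (T.v 1 ^ l * T.t) = x * (o' * T.t) * x⁻¹ := by rw [ho', ← hxt]; group
    rw [hyx] at hy2 hi
    have h2 : o' * T.t * (o' * T.t) = 1 := by
      rw [← conj_eq_one_iff (a := x), ← hy2]; group
    obtain ⟨q, hq, e, he, hqe⟩ := T.outer_invol ho'O h2
    obtain ⟨g, hg⟩ := hi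
    refine T.et_not_i he (q⁻¹ * x⁻¹ * g) ?_
    calc q⁻¹ * x⁻¹ * g * T.i * (q⁻¹ * x⁻¹ * g)⁻¹ = q⁻¹ * (x⁻¹ * (g * T.i * g⁻¹) * x) * q := by group
      _ = e * T.t := by rw [hg, show x⁻¹ * (x * (o' * T.t) * x⁻¹) * x = o' * T.t by group, hqe]; group

/-- Two of the transpositions are centralised only with the third. -/
theorem X₂_comm_i {g : G} (hg : g ∈ T.X₂) : g * T.i = T.i * g := by
  classical
  haveI : Fact (Nat.Prime 2) := ⟨Nat.prime_two⟩
  haveI := T.pair_normal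
  let mk := QuotientGroup.mk' (T.pE.subgroupOf T.X₂)
  have hmk1 : ∀ x : T.X₂, mk x = 1 ↔ (x : G) ∈ T.pE := fun x => (QuotientGroup.eq_one_iff x).trans mem_subgroupOf
  have hiX : T.i ∈ T.X₂ := T.E_le_X₂ T.i_mem_E
  set τ := mk ⟨T.i, hiX⟩ with hτ
  have hf : T.φ (swap 0 3 * swap 1 4) ∈ T.pE := T.φ_mem_pE (Or.inr (Or.inr (Or.inr rfl)))
  have hτ2 : τ * τ = 1 := by
    rw [hτ, ← map_mul, show (⟨T.i, hiX⟩ : T.X₂) * ⟨T.i, hiX⟩ = 1 from Subtype.ext T.i_sq, map_one]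
  have hτ1 : τ ≠ 1 := fun e => T.i_not_pE ((hmk1 _).1 e)
  -- commuting with the swap modulo the pair
  have hcomm : ∀ x : T.X₂, mk x * τ = τ * mk x → (x : G) * T.i = T.i * x := fun x hx => by
    have h := (hmk1 (x * ⟨T.i, hiX⟩ * x⁻¹ * ⟨T.i, hiX⟩⁻¹)).1 (by
      rw [map_mul, map_mul, map_mul, map_inv, map_inv, ← hτ, hx, mul_inv_cancel_right, mul_inv_cancel])
    change (x : G) * T.i * (x : G)⁻¹ * T.i⁻¹ ∈ T.pE at h
    rw [T.i_inv] at h
    exact mul_inv_eq_iff_eq_mul.1 (T.i_coset ⟨(x : G), rfl⟩ h)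
  have hiso : IsIsolatedInvolution τ := by
    refine ⟨orderOf_eq_prime (by rw [pow_two, hτ2]) hτ1, fun u hu => ?_⟩
    obtain ⟨h, rfl⟩ := QuotientGroup.mk'_surjective _ u
    set y := (h : G) * T.i * (h : G)⁻¹ with hy
    have hyX : y ∈ T.X₂ := mul_mem (mul_mem h.2 hiX) (inv_mem h.2)
    have hmk : mk h * τ * (mk h)⁻¹ = mk ⟨y, hyX⟩ := by
      rw [hτ, ← map_inv, ← map_mul, ← map_mul]; rfl
    have hy1 := hcomm ⟨y, hyX⟩ (by rw [← hmk]; exact hu.eq.symm)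
    have hyi : y = T.i := by
      refine T.pattern_i (T.modC_of_comm hyX hy1) ?_ ⟨h, rfl⟩ ?_
      · rw [hy, show (h : G) * T.i * (h : G)⁻¹ * ((h : G) * T.i * (h : G)⁻¹) = (h : G) * (T.i * T.i) * (h : G)⁻¹ by group,
          T.i_sq]
        group
      · obtain ⟨w, hw⟩ := T.s_conj_t (σ := swap 2 5) (Or.inr (Or.inr rfl))
        refine ⟨(h : G) * w, ?_⟩
        calc (h : G) * w * T.t * ((h : G) * w)⁻¹ = (h : G) * (w * T.t * w⁻¹) * (h : G)⁻¹ := by group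
          _ = (h : G) * T.i * (T.φ (swap 0 3 * swap 1 4) * (h : G)⁻¹) := by rw [hw, ← T.i_pair]; group
          _ = _ := by rw [← T.X₂_comm_pE (inv_mem h.2) hf, hy]; group
    change mk h * τ * (mk h)⁻¹ = τ
    rw [hmk, hτ]
    exact congrArg mk (Subtype.ext hyi)
  set M : Subgroup (T.X₂ ⧸ T.pE.subgroupOf T.X₂) := oddCore (T.X₂ ⧸ T.pE.subgroupOf T.X₂) with hM
  haveI hMn : M.Normal := Cfsg.pPrimeCore_normal 2 _
  have hModd : Odd (Nat.card M) := (Nat.coprime_two_left).1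
    ((Nat.Prime.coprime_iff_not_dvd Nat.prime_two).2 (Core.pPrimeCore_not_dvd 2 (T.X₂ ⧸ T.pE.subgroupOf T.X₂)))
  have hodd : ∀ {m : (T.X₂ ⧸ T.pE.subgroupOf T.X₂)}, m ∈ M → m * m = 1 → m = 1 := fun {m} hm h => by
    obtain ⟨n, hn⟩ := hModd.of_dvd_nat (Subgroup.orderOf_dvd_natCard M hm)
    have h1 := pow_orderOf_eq_one m
    rwa [hn, pow_succ, pow_mul, pow_two, h, one_pow, one_mul] at h1
  have h2free : ∀ {m : (T.X₂ ⧸ T.pE.subgroupOf T.X₂)}, m ∈ M → ∀ n, m ^ 2 ^ n = 1 → m = 1 := fun {m} hm n h => by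
    refine orderOf_eq_one_iff.1 (Nat.eq_one_of_dvd_coprimes ?_ (orderOf_dvd_of_pow_eq_one h)
      (Subgroup.orderOf_dvd_natCard M hm))
    exact Nat.Coprime.pow_left _ ((Nat.coprime_two_left).2 hModd)
  -- the fixed points of the swap
  have hfix : ∀ m ∈ M, m * τ = τ * m → m = 1 := by
    intro m hm hmτ
    obtain ⟨x, rfl⟩ := QuotientGroup.mk'_surjective _ m
    obtain ⟨l, b, o, ho, hx⟩ := T.modC_E_form (T.modC_of_comm x.2 (hcomm x hmτ))
    have hnO : ∀ z ∈ T.O, (T.v 1 ^ l * T.t ^ b.val) * z * (T.v 1 ^ l * T.t ^ b.val)⁻¹ ∈ T.O := fun z hz => by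
      rw [show (T.v 1 ^ l * T.t ^ b.val) * z * (T.v 1 ^ l * T.t ^ b.val)⁻¹ =
        T.v 1 ^ l * (T.t ^ b.val * z * (T.t ^ b.val)⁻¹) * (T.v 1 ^ l)⁻¹ by group]
      refine T.P_O (pow_mem T.e3_mem_P l) ?_
      fin_cases b
      · simpa using hz
      · simpa [T.t_inv] using T.t_conj_O hz
    have hkey : ∀ q ∈ T.Q,
        o * ((T.v 1 ^ l * T.t ^ b.val) * q * (T.v 1 ^ l * T.t ^ b.val)⁻¹) * o⁻¹ * q⁻¹ ∈ T.pE := by
      intro q hq
      have hqX : q ∈ T.X₂ := T.O_le_X₂ (T.Q_le_O hq)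
      set r := (T.v 1 ^ l * T.t ^ b.val) * q * (T.v 1 ^ l * T.t ^ b.val)⁻¹ with hr
      have hxr : (x : G) * q * (x : G)⁻¹ * q⁻¹ = o * r * o⁻¹ * q⁻¹ := by rw [hx, hr]; group
      have h1 : mk (x * ⟨q, hqX⟩ * x⁻¹ * ⟨q, hqX⟩⁻¹) = 1 := by
        refine h2free ?_ 2 ?_
        · rw [map_mul, map_mul, map_mul, map_inv, map_inv, mul_assoc (mk x) _ (mk x)⁻¹, mul_assoc (mk x)]
          exact mul_mem hm (hMn.conj_mem _ (inv_mem hm) _)
        · rw [← map_pow]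
          refine (hmk1 _).2 ?_
          simp only [SubmonoidClass.coe_pow, Subgroup.coe_mul, InvMemClass.coe_inv]
          rw [show (2 : ℕ) ^ 2 = 4 by rfl, hxr,
            T.O_four (mul_mem (mul_mem (mul_mem ho (hnO q (T.Q_le_O hq))) (inv_mem ho)) (inv_mem (T.Q_le_O hq)))]
          exact one_mem _
      have h := (hmk1 _).1 h1
      simp only [Subgroup.coe_mul, InvMemClass.coe_inv] at h
      rwa [hxr] at h
    obtain ⟨e₀, he₀, q₀, hq₀, r₀, hr₀, hoe⟩ := ho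
    have hQconj : ∀ {w : G}, w ∈ T.Q → o * w * o⁻¹ = q₀ * w * q₀⁻¹ := fun {w} hw => by
      rw [hoe, show e₀ * q₀ * r₀ * w * (e₀ * q₀ * r₀)⁻¹ = e₀ * (q₀ * (r₀ * w * r₀⁻¹) * q₀⁻¹) * e₀⁻¹ by group,
        ← T.Q_comm_Q' hw hr₀, mul_inv_cancel_right,
        ← T.Q_comm_E _ (mul_mem (mul_mem hq₀ hw) (inv_mem hq₀)) e₀ he₀, mul_inv_cancel_right]
    fin_cases b <;> simp only [pow_zero, pow_one, mul_one] at hx hkey
    · have hxQ : T.v 1 ^ l ∈ T.modC T.Q := by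
        refine ⟨((show Commute (T.v 1) T.i from T.e3_comm_i).pow_left l).eq, fun q hq => ?_⟩
        set r := T.v 1 ^ l * q * (T.v 1 ^ l)⁻¹ with hr
        have hrQ : r ∈ T.Q := T.P_Q (pow_mem T.e3_mem_P l) hq
        have h := hkey q hq
        rw [hQconj hrQ] at h
        have hq₀r : q₀ * r * q₀⁻¹ = q := by
          rcases T.E_meet_Q (T.pE_le_E h) (mul_mem (mul_mem (mul_mem hq₀ hrQ) (inv_mem hq₀)) (inv_mem hq)) with e | e
          · exact mul_inv_eq_one.1 e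
          · rw [e] at h; exact absurd h T.i_not_pE
        rcases (T.Q_modC hq₀).2 r hrQ with e | e
        · rw [hq₀r, mul_inv_eq_one] at e
          exact Or.inl (by rw [e, mul_inv_cancel])
        · rw [hq₀r, mul_inv_eq_iff_eq_mul] at e
          refine Or.inr ?_
          have hr' : r = T.i * q := by rw [e, ← mul_assoc, T.i_sq, one_mul]
          rw [hr', mul_inv_cancel_right]
      have hl : T.v 1 ^ l = 1 := by
        by_contra hne
        have h3 : orderOf (T.v 1 ^ l) = 3 := orderOf_eq_prime (T.P_cube (pow_mem T.e3_mem_P l)) hne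
        have e : zpowers (T.v 1 ^ l) = zpowers (T.v 1) :=
          eq_of_le_of_card_ge (zpowers_le.2 ⟨l, zpow_natCast _ _⟩) (by
            rw [Nat.card_zpowers, Nat.card_zpowers, h3]
            exact Nat.le_of_dvd (by norm_num) (orderOf_dvd_of_pow_eq_one (T.S.F.v_cube 1)))
        have he3 : T.v 1 ∈ T.modC T.Q := zpowers_le.2 hxQ (e ▸ mem_zpowers (T.v 1))
        obtain ⟨q, hq, h1, hi⟩ := T.exists_four
        obtain ⟨m1, m2⟩ := T.e3_moves hq h1 hi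
        rcases he3.2 q hq with e' | e'
        · exact m1 (mul_inv_eq_one.1 e')
        · exact m2 ((mul_inv_eq_iff_eq_mul.1 e').trans (T.Q_comm_i hq).symm)
      rw [hl, mul_one] at hx
      refine h2free hm 2 ?_
      rw [← map_pow]
      refine (hmk1 _).2 ?_
      rw [SubmonoidClass.coe_pow, hx, show (2 : ℕ) ^ 2 = 4 by rfl, T.O_four (hoe ▸ ⟨e₀, he₀, q₀, hq₀, r₀, hr₀, rfl⟩)]
      exact one_mem _
    · exfalso
      obtain ⟨q, hq, hq1, hqi⟩ := T.exists_four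
      have hrQ' : T.v 1 ^ l * T.t * q * (T.v 1 ^ l * T.t)⁻¹ ∈ T.Q' := by
        rw [show T.v 1 ^ l * T.t * q * (T.v 1 ^ l * T.t)⁻¹ = T.v 1 ^ l * (T.t * q * T.t⁻¹) * (T.v 1 ^ l)⁻¹ by group,
          T.t_inv]
        exact T.P_Q' (pow_mem T.e3_mem_P l) (T.t_Q hq)
      have h := hkey q hq
      refine T.Q_mul_E_not_Q' hq hq1 hqi (T.pE_le_E h) ?_
      rw [inv_mul_cancel_right, hoe]
      have hc : Commute (e₀ * q₀) (r₀ * (T.v 1 ^ l * T.t * q * (T.v 1 ^ l * T.t)⁻¹) * r₀⁻¹) := by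
        have hm' := mul_mem (mul_mem hr₀ hrQ') (inv_mem hr₀)
        exact (show Commute e₀ _ from (T.Q'_comm_E hm' he₀).symm).mul_left (T.Q_comm_Q' hq₀ hm')
      rw [show ∀ z, e₀ * q₀ * r₀ * z * (e₀ * q₀ * r₀)⁻¹ = e₀ * q₀ * (r₀ * z * r₀⁻¹) * (e₀ * q₀)⁻¹ from
        fun z => by group, hc.eq, mul_inv_cancel_right]
      exact mul_mem (mul_mem hr₀ hrQ') (inv_mem hr₀)
  -- the swap inverts the odd core
  have hinv : ∀ m ∈ M, τ * m * τ = m⁻¹ := by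
    let f : M → M := fun x => ⟨(x : (T.X₂ ⧸ T.pE.subgroupOf T.X₂))⁻¹ * (τ * x * τ), mul_mem (inv_mem x.2) (by
      have := hMn.conj_mem _ x.2 τ
      rwa [inv_eq_of_mul_eq_one_right hτ2] at this)⟩
    have hinj : Function.Injective f := fun x y e => by
      have e' : (x : (T.X₂ ⧸ T.pE.subgroupOf T.X₂))⁻¹ * (τ * x * τ) = (y : (T.X₂ ⧸ T.pE.subgroupOf T.X₂))⁻¹ * (τ * y * τ) := congrArg Subtype.val e
      have hfx : (y : (T.X₂ ⧸ T.pE.subgroupOf T.X₂)) * (x : (T.X₂ ⧸ T.pE.subgroupOf T.X₂))⁻¹ = 1 := by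
        refine hfix _ (mul_mem y.2 (inv_mem x.2)) ?_
        have h1 : (y : (T.X₂ ⧸ T.pE.subgroupOf T.X₂)) * (x : (T.X₂ ⧸ T.pE.subgroupOf T.X₂))⁻¹ = τ * y * τ * (τ * x * τ)⁻¹ := by
          rw [eq_mul_inv_iff_mul_eq, mul_assoc, e', mul_inv_cancel_left]
        rw [mul_inv_rev, mul_inv_rev, inv_eq_of_mul_eq_one_right hτ2,
          show τ * (y : (T.X₂ ⧸ T.pE.subgroupOf T.X₂)) * τ * (τ * ((x : (T.X₂ ⧸ T.pE.subgroupOf T.X₂))⁻¹ * τ)) = τ * y * (τ * τ) * (x : (T.X₂ ⧸ T.pE.subgroupOf T.X₂))⁻¹ * τ by group, hτ2, mul_one] at h1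
        calc (y : (T.X₂ ⧸ T.pE.subgroupOf T.X₂)) * (x : (T.X₂ ⧸ T.pE.subgroupOf T.X₂))⁻¹ * τ = τ * y * (x : (T.X₂ ⧸ T.pE.subgroupOf T.X₂))⁻¹ * τ * τ := by rw [← h1]
          _ = _ := by rw [mul_assoc _ τ τ, hτ2, mul_one, mul_assoc]
      exact Subtype.ext (mul_inv_eq_one.1 hfx).symm
    intro m hm
    obtain ⟨x, hx⟩ := Finite.surjective_of_injective hinj ⟨m, hm⟩
    have hx' : (x : (T.X₂ ⧸ T.pE.subgroupOf T.X₂))⁻¹ * (τ * x * τ) = m := congrArg Subtype.val hx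
    rw [← hx', mul_inv_rev, inv_inv, mul_inv_rev, mul_inv_rev, inv_eq_of_mul_eq_one_right hτ2]
    calc τ * ((x : (T.X₂ ⧸ T.pE.subgroupOf T.X₂))⁻¹ * (τ * x * τ)) * τ = τ * ((x : (T.X₂ ⧸ T.pE.subgroupOf T.X₂))⁻¹ * τ) * x * (τ * τ) := by group
      _ = _ := by rw [hτ2, mul_one]
  have hab : ∀ a ∈ M, ∀ b ∈ M, a * b = b * a := fun a ha b hb => inv_injective (by
    rw [mul_inv_rev b a, ← hinv _ (mul_mem ha hb), ← hinv a ha, ← hinv b hb]
    calc τ * (a * b) * τ = τ * a * (τ * τ) * b * τ := by rw [hτ2]; group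
      _ = _ := by group)
  -- four groups of the core fix it
  have he3X : T.v 1 ∈ T.X₂ :=
    T.mem_X₂.2 ⟨(T.E_comm_e3 (T.φ_mem_E inE_facts.2.1)).symm, (T.E_comm_e3 (T.φ_mem_E inE_facts.2.2.1)).symm⟩
  set c := mk ⟨T.v 1, he3X⟩ with hc
  have hcfix : ∀ m ∈ M, c * m * c⁻¹ = m → m = 1 := by
    intro m hm hcm
    refine hfix m hm ?_
    obtain ⟨x, rfl⟩ := QuotientGroup.mk'_surjective _ m
    have hε := (hmk1 (⟨T.v 1, he3X⟩ * x * ⟨T.v 1, he3X⟩⁻¹ * x⁻¹)).1 (by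
      rw [map_mul, map_mul, map_mul, map_inv, map_inv, ← hc, hcm, mul_inv_cancel])
    change T.v 1 * (x : G) * (T.v 1)⁻¹ * (x : G)⁻¹ ∈ T.pE at hε
    set ε := T.v 1 * (x : G) * (T.v 1)⁻¹ * (x : G)⁻¹ with hεd
    have hεE := T.pE_le_E hε
    have h3 : (ε⁻¹ * T.v 1) ^ 3 = 1 := by
      have e : ε⁻¹ * T.v 1 = (x : G) * T.v 1 * (x : G)⁻¹ := by rw [hεd]; group
      rw [e, conj_pow, show T.v 1 ^ 3 = 1 from T.S.F.v_cube 1]
      group
    rw [(show Commute ε⁻¹ (T.v 1) from T.E_comm_e3 (inv_mem hεE)).mul_pow,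
      show T.v 1 ^ 3 = 1 from T.S.F.v_cube 1, mul_one, pow_succ, pow_two, T.E_sq (inv_mem hεE), one_mul,
      inv_eq_one] at h3
    have hxe : (x : G) * T.v 1 = T.v 1 * x := by
      have := mul_inv_eq_one.1 (hεd ▸ h3 : T.v 1 * (x : G) * (T.v 1)⁻¹ * (x : G)⁻¹ = 1)
      exact (mul_inv_eq_iff_eq_mul.1 this).symm
    obtain ⟨j, hj, σ, hxσ⟩ := T.K.exists_eq (x : G) hxe
    have hjc : ∀ π : Perm (Fin 6), Commute (T.v j) (T.φ π) := fun π => by
      obtain ⟨n, hn⟩ : T.v j ∈ zpowers (T.v 1) := Frame.mem_zpowers_v.2 ⟨j, hj, rfl⟩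
      rw [← hn]
      exact ((show Commute (T.φ π) (T.v 1) from T.φ_comm_e3 π).zpow_right n).symm
    have hσc : ∀ {π : Perm (Fin 6)}, (x : G) * T.φ π = T.φ π * x → σ * π = π * σ := fun {π} h => by
      refine T.K.inj ?_
      rw [map_mul, map_mul]
      have h' := (hjc π).inv_left.mul_left (show Commute (x : G) (T.φ π) from h)
      rw [hxσ, inv_mul_cancel_left] at h'
      exact h'.eq
    have hσ : T.φ σ ∈ T.E := T.φ_mem_E (six_pair_cent σ (hσc (T.mem_X₂.1 x.2).1) (hσc (T.mem_X₂.1 x.2).2))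
    have hxi : (x : G) * T.i = T.i * x := by
      rw [hxσ]
      exact ((T.i_eq.symm ▸ hjc SixP.t0 : Commute (T.v j) T.i).mul_left (T.E_comm_i hσ)).eq
    rw [hτ, ← map_mul, ← map_mul]
    exact congrArg mk (Subtype.ext hxi)
  letI : CommGroup M := { (inferInstance : Group M) with
    mul_comm := fun a b => Subtype.ext (hab a a.2 b b.2) }
  have hc3 : c * c * c = 1 := by
    rw [hc, ← map_mul, ← map_mul, show (⟨T.v 1, he3X⟩ : T.X₂) * ⟨T.v 1, he3X⟩ * ⟨T.v 1, he3X⟩ = 1 from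
      Subtype.ext (by
        show T.v 1 * T.v 1 * T.v 1 = 1
        rw [← pow_two, ← pow_succ]; exact T.S.F.v_cube 1), map_one]
  have hcent : ∀ q ∈ T.Q, q ≠ 1 → q ≠ T.i → ∀ hq : q * (T.t * q⁻¹ * T.t) ∈ T.X₂, ∀ m ∈ M,
      mk ⟨_, hq⟩ * m = m * mk ⟨_, hq⟩ := by
    intro q hq hq1 hqi hxX m hm
    set x := q * (T.t * q⁻¹ * T.t) with hx
    have hx2 : x * x = 1 := by
      have hc' : Commute q (T.t * q⁻¹ * T.t) := T.Q_comm_Q' hq (T.t_Q (inv_mem hq))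
      rw [hx, hc'.symm.mul_mul_mul_comm, T.Q_sq hq hq1 hqi, T.t_conj_mul, ← mul_inv_rev, T.Q_sq hq hq1 hqi,
        T.i_inv, T.t_i_t, T.i_sq]
    have hrel : x * (T.v 1 * x * (T.v 1)⁻¹) = T.v 1 * T.v 1 * x * (T.v 1 * T.v 1)⁻¹ := by
      set eq := T.v 1 * q * (T.v 1)⁻¹ with heq
      set e2 := T.v 1 * eq * (T.v 1)⁻¹ with he2
      have hcube : T.v 1 * T.v 1 * T.v 1 = 1 := by rw [← pow_two, ← pow_succ]; exact T.S.F.v_cube 1
      have hinv : T.v 1 * T.v 1 = (T.v 1)⁻¹ := eq_inv_of_mul_eq_one_left hcube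
      have hte : ∀ z, T.v 1 * (T.t * z * T.t) * (T.v 1)⁻¹ = T.t * ((T.v 1)⁻¹ * z * T.v 1) * T.t := fun z => by
        rw [← T.t_conj_mul, ← T.t_conj_mul, show T.t * (T.v 1)⁻¹ * T.t = T.v 1 by rw [← T.t_e3, T.t_t], T.t_e3]
      have he2' : e2 = (T.v 1)⁻¹ * q * T.v 1 := by
        rw [he2, heq, show T.v 1 * (T.v 1 * q * (T.v 1)⁻¹) * (T.v 1)⁻¹ = T.v 1 * T.v 1 * q * (T.v 1 * T.v 1)⁻¹ by
          group, hinv, inv_inv]
      obtain ⟨j, hj, hprod⟩ := T.Q_prod hq hq1 hqi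
      rw [← heq, ← he2] at hprod
      have hj2 : j * j = 1 ∧ T.t * j * T.t = j ∧ Commute (T.v 1) j := by
        rcases hj with rfl | rfl
        · exact ⟨one_mul 1, by rw [mul_one, T.t_sq], Commute.one_right _⟩
        · exact ⟨T.i_sq, T.t_i_t, T.e3_comm_i⟩
      have hprod2 : e2 * q = eq * j := by
        have h := congrArg (fun z => T.v 1 * T.v 1 * z * (T.v 1 * T.v 1)⁻¹) hprod
        have l1 : T.v 1 * T.v 1 * (q * eq) * (T.v 1 * T.v 1)⁻¹ = e2 * q := by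
          rw [show T.v 1 * T.v 1 * (q * eq) * (T.v 1 * T.v 1)⁻¹ = T.v 1 * (T.v 1 * q * (T.v 1)⁻¹) * (T.v 1)⁻¹ *
            (T.v 1 * (T.v 1 * eq * (T.v 1)⁻¹) * (T.v 1)⁻¹) by group, ← heq, ← he2, he2']
          congr 1
          group
        have l2 : T.v 1 * T.v 1 * (e2 * j) * (T.v 1 * T.v 1)⁻¹ = eq * j := by
          rw [show T.v 1 * T.v 1 * (e2 * j) * (T.v 1 * T.v 1)⁻¹ =
            (T.v 1 * T.v 1 * T.v 1) * eq * (T.v 1)⁻¹ * j * (T.v 1 * T.v 1)⁻¹ by rw [he2]; group, hcube, one_mul,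
            mul_assoc eq, mul_assoc eq]
          congr 1
          rw [hj2.2.2.inv_left.eq, mul_assoc, ← mul_inv_rev, hcube, inv_one, mul_one]
        rw [← l1, h, l2]
      calc x * (T.v 1 * x * (T.v 1)⁻¹)
          = q * ((T.t * q⁻¹ * T.t) * eq) * (T.t * ((T.v 1)⁻¹ * q⁻¹ * T.v 1) * T.t) := by
            rw [← hte, hx, heq]; group
        _ = q * eq * ((T.t * q⁻¹ * T.t) * (T.t * ((T.v 1)⁻¹ * q⁻¹ * T.v 1) * T.t)) := by
            rw [← T.Q_comm_Q' (show eq ∈ T.Q from T.e3_Q hq) (T.t_Q (inv_mem hq))]; group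
        _ = e2 * j * (T.t * (eq * j)⁻¹ * T.t) := by
            rw [hprod, T.t_conj_mul, ← hprod2, he2']; group
        _ = e2 * (j * j⁻¹) * (T.t * eq⁻¹ * T.t) := by
            rw [mul_inv_rev, ← T.t_conj_mul, show T.t * j⁻¹ * T.t = j⁻¹ by
              rw [← T.t_mul_inv, hj2.2.1]]
            group
        _ = _ := by
            rw [mul_inv_cancel, mul_one, hx, show T.v 1 * T.v 1 * (q * (T.t * q⁻¹ * T.t)) * (T.v 1 * T.v 1)⁻¹ =
              T.v 1 * (T.v 1 * q * (T.v 1)⁻¹) * (T.v 1)⁻¹ * (T.v 1 * (T.v 1 * (T.t * q⁻¹ * T.t) * (T.v 1)⁻¹) * (T.v 1)⁻¹) by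
              group, ← heq, ← he2, hte, hte]
            congr 3
            rw [heq, show ((T.v 1)⁻¹ * ((T.v 1)⁻¹ * q⁻¹ * T.v 1) * T.v 1) =
              (T.v 1 * T.v 1)⁻¹ * q⁻¹ * (T.v 1 * T.v 1) by group, hinv, inv_inv, conj_inv]
    set v := mk ⟨x, hxX⟩ with hv
    have hvX : (⟨x, hxX⟩ : T.X₂) * (⟨T.v 1, he3X⟩ * ⟨x, hxX⟩ * ⟨T.v 1, he3X⟩⁻¹) =
        ⟨T.v 1, he3X⟩ * ⟨T.v 1, he3X⟩ * ⟨x, hxX⟩ * (⟨T.v 1, he3X⟩ * ⟨T.v 1, he3X⟩)⁻¹ := Subtype.ext hrel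
    have hv2 : v * v = 1 := by
      rw [hv, ← map_mul, show (⟨x, hxX⟩ : T.X₂) * ⟨x, hxX⟩ = 1 from Subtype.ext hx2, map_one]
    have hrelZ : v * (c * v * c⁻¹) = c * c * v * (c * c)⁻¹ := by
      have := congrArg mk hvX
      simp only [map_mul, map_inv] at this
      exact this
    let φM : (T.X₂ ⧸ T.pE.subgroupOf T.X₂) →* MulAut M := MulAut.conjNormal
    have h := four_fixes (A := M) hModd (φM v) (φM c) (by rw [← map_mul, hv2, map_one])
      (by rw [← map_mul, ← map_mul, hc3, map_one])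
      (by
        have h' := congrArg φM hrelZ
        simp only [map_mul, map_inv] at h'
        exact h') (fun y hy => Subtype.ext (hcfix y y.2 (by
          have := congrArg Subtype.val hy
          exact this))) ⟨m, hm⟩
    have h' : v * m * v⁻¹ = m := congrArg Subtype.val h
    exact mul_inv_eq_iff_eq_mul.1 h'
  have hMbot : M = ⊥ := by
    rw [eq_bot_iff]
    intro m hm
    obtain ⟨q, hq, hq1, hqi⟩ := T.exists_four
    have hxX : q * (T.t * q⁻¹ * T.t) ∈ T.X₂ :=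
      T.O_le_X₂ (mul_mem (T.Q_le_O hq) (T.Q'_le_O (T.t_Q (inv_mem hq))))
    have hs := T.e3_Q hq
    set s := T.v 1 * q * (T.v 1)⁻¹ with hsd
    have hsX : s ∈ T.X₂ := T.O_le_X₂ (T.Q_le_O hs)
    have hcomm' : s * (q * (T.t * q⁻¹ * T.t)) * s⁻¹ = T.i * (q * (T.t * q⁻¹ * T.t)) := by
      have hqa : q * s * q⁻¹ = s * T.i := T.Q_anti hq hq1 hqi
      have hsq : s * q = T.i * (q * s) := by
        rw [mul_inv_eq_iff_eq_mul.1 hqa, ← mul_assoc, ← mul_assoc, ← T.Q_comm_i hs, mul_assoc s T.i T.i, T.i_sq,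
          mul_one]
      calc s * (q * (T.t * q⁻¹ * T.t)) * s⁻¹ = s * q * ((T.t * q⁻¹ * T.t) * s⁻¹) := by group
        _ = T.i * (q * (s * (T.t * q⁻¹ * T.t))) * s⁻¹ := by rw [hsq]; group
        _ = _ := by rw [T.Q_comm_Q' hs (T.t_Q (inv_mem hq))]; group
    set v := mk ⟨_, hxX⟩ with hv
    have hvc : ∀ m ∈ M, v * m = m * v := hcent q hq hq1 hqi hxX
    have hconj : mk ⟨s, hsX⟩ * v * (mk ⟨s, hsX⟩)⁻¹ = τ * v := by
      have := congrArg mk (show (⟨s, hsX⟩ : T.X₂) * ⟨_, hxX⟩ * ⟨s, hsX⟩⁻¹ = ⟨T.i, hiX⟩ * ⟨_, hxX⟩ from Subtype.ext hcomm')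
      simp only [map_mul, map_inv] at this
      exact this
    set u := mk ⟨s, hsX⟩
    have hτm : τ * m = m * τ := by
      have hm' : u⁻¹ * m * u ∈ M := by
        have := hMn.conj_mem m hm u⁻¹
        rwa [inv_inv] at this
      have h1 : Commute (u * v * u⁻¹) m := by
        show u * v * u⁻¹ * m = m * (u * v * u⁻¹)
        calc u * v * u⁻¹ * m = u * (v * (u⁻¹ * m * u)) * u⁻¹ := by group
          _ = _ := by rw [hvc _ hm']; group
      rw [hconj] at h1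
      have h2 := h1.mul_left (show Commute v m from hvc m hm).inv_left
      rw [mul_inv_cancel_right] at h2
      exact h2.eq
    exact hfix m hm hτm.symm
  obtain ⟨x, hx⟩ : ∃ x : T.X₂, (x : G) = g := ⟨⟨g, hg⟩, rfl⟩
  rw [← hx]
  refine hcomm x ?_
  have h := Cfsg.Lib.ZStar.zStarHolds (T.X₂ ⧸ T.pE.subgroupOf T.X₂) τ hiso (mk x)
  rw [← hM, hMbot, mem_bot, mul_inv_eq_one, mul_inv_eq_iff_eq_mul] at h
  exact h.symm

/-- The centralizer of two of the transpositions centralises the elementary group. -/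
theorem X₂_modC {g : G} (hg : g ∈ T.X₂) : g ∈ T.modC T.E := T.modC_of_comm hg (T.X₂_comm_i hg)

end SData

end Cfsg.Lib.PSpThree
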