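import Cfsg.Agent.Lib.PSpThree.SixAlpha

/-!
# A split axis centralizer: the quaternion group centralises the elementary group
-/

set_option autoImplicit false
set_option maxHeartbeats 1600000
set_option maxRecDepth 100000
set_option linter.unusedSectionVars false
set_option linter.style.haveILetI false
set_option synthInstance.maxSize 5000

namespace Cfsg.Lib.PSpThree

open Subgroup Cfsg.Lib.SymNine Equiv

theorem inv_facts :
    (∀ c, act 7 0 c = vSmul 2 c) ∧ sComp 7 0 0 = sComp 0 2 7 ∧ kmul 0 2 = kmul 2 0 ∧ sComp 7 0 7 = 0 ∧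
      kmul 0 0 = 0 := by
  refine ⟨?_, ?_, ?_, ?_, ?_⟩ <;> decide +kernel

namespace SData

variable {G : Type*} [Group G] [Finite G] (T : SData G)

/-- The inversion of `J` commutes with the swap. -/
theorem inv_comm_i : T.D.w 7 0 * T.i = T.i * T.D.w 7 0 := by
  obtain ⟨-, h1, h2, -, -⟩ := inv_facts
  rw [i, T.D.w_mul, T.D.w_mul, h1, h2]

theorem inv_sq : T.D.w 7 0 * T.D.w 7 0 = 1 :=
  T.D.w_sq inv_facts.2.2.2.1 inv_facts.2.2.2.2

theorem inv_v (c : Fin 27) : T.D.w 7 0 * T.v c * (T.D.w 7 0)⁻¹ = (T.v c)⁻¹ := by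
  rw [T.w_conj, inv_facts.1]; exact (T.S.F.v_inv c).symm

theorem inv_Q {q : G} (hq : q ∈ T.Q) : T.D.w 7 0 * q * (T.D.w 7 0)⁻¹ ∈ T.Q := by
  refine ⟨?_, (((show Commute (T.D.w 7 0) T.i from T.inv_comm_i).mul_left (show Commute q T.i from T.Q_comm_i hq)).mul_left
    (show Commute (T.D.w 7 0) T.i from T.inv_comm_i).inv_left).eq, by rw [conj_pow, T.Q_four hq]; group⟩
  have h := congrArg (fun x => T.D.w 7 0 * x * (T.D.w 7 0)⁻¹)
    (show q * (T.v 13)⁻¹ = (T.v 13)⁻¹ * q from (show Commute q (T.v 13) from T.Q_comm_a hq).inv_right.eq)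
  have h13 : T.D.w 7 0 * (T.v 13)⁻¹ * (T.D.w 7 0)⁻¹ = T.v 13 := by
    rw [← conj_inv, T.inv_v, inv_inv]
  calc T.D.w 7 0 * q * (T.D.w 7 0)⁻¹ * T.v 13
      = T.D.w 7 0 * (q * (T.v 13)⁻¹) * (T.D.w 7 0)⁻¹ := by conv_lhs => rw [← h13]
                                                           group
    _ = T.v 13 * (T.D.w 7 0 * q * (T.D.w 7 0)⁻¹) := by
      rw [show q * (T.v 13)⁻¹ = (T.v 13)⁻¹ * q from (show Commute q (T.v 13) from T.Q_comm_a hq).inv_right.eq]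
      conv_rhs => rw [← h13]
      group

/-- The quaternion group centralises the elementary group. -/
theorem Q_comm_E : ∀ q ∈ T.Q, ∀ e ∈ T.E, q * e = e * q := by
  classical
  by_contra hbad
  set A := T.modC T.Q with hA
  have hQA : T.Q ≤ A := T.Q_modC
  have hi_Q : ∀ {x : G}, x = 1 ∨ x = T.i → x ∈ T.Q := fun {x} hx =>
    hx.elim (fun e => e ▸ one_mem _) fun e => e ▸ T.i_mem_Q
  have hQn : ∀ l ∈ A, ∀ q ∈ T.Q, l * q * l⁻¹ ∈ T.Q := fun l hl q hq => by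
    rw [show l * q * l⁻¹ = l * q * l⁻¹ * q⁻¹ * q by group]
    exact mul_mem (hi_Q (hl.2 q hq)) hq
  have haA : T.v 13 ∈ A :=
    ⟨T.a_comm_i, fun q hq => Or.inl (by rw [← T.Q_comm_a hq, mul_inv_cancel_right, mul_inv_cancel])⟩
  have ha1 : T.v 13 ≠ 1 := fun e => absurd (T.S.F.v_eq_one.1 e) (by decide)
  have he3' : T.v 1 ≠ 1 := fun e => absurd (T.S.F.v_eq_one.1 e) (by decide)
  have he3A : T.v 1 ∉ A := fun h => by
    obtain ⟨q, hq, h1, hi⟩ := T.exists_four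
    obtain ⟨m1, m2⟩ := T.e3_moves hq h1 hi
    rcases h.2 q hq with e | e
    · exact m1 (mul_inv_eq_one.1 e)
    · exact m2 ((mul_inv_eq_iff_eq_mul.1 e).trans (T.Q_comm_i hq).symm)
  have hpowA : ∀ l : ℕ, T.v 1 ^ l ∈ A → T.v 1 ^ l = 1 := fun l hl => by
    by_contra hne
    have h3 : orderOf (T.v 1 ^ l) = 3 := orderOf_eq_prime (T.P_cube (pow_mem T.e3_mem_P l)) hne
    have e : zpowers (T.v 1 ^ l) = zpowers (T.v 1) := eq_of_le_of_card_ge (zpowers_le.2 ⟨l, zpow_natCast _ _⟩) (by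
      rw [Nat.card_zpowers, Nat.card_zpowers, h3]
      exact Nat.le_of_dvd (by norm_num) (orderOf_dvd_of_pow_eq_one (T.S.F.v_cube 1)))
    exact he3A (zpowers_le.2 hl (e ▸ mem_zpowers (T.v 1)))
  have hfix : ∀ {q : G}, q ∈ T.Q → ∀ {x : G}, x * q = q * x → x ^ 3 = 1 → (q * x) ^ 3 = 1 → q = 1 := by
    intro q hq x hxq hx3 h
    rw [(show Commute q x from hxq.symm).mul_pow, hx3, mul_one] at h
    have h4 := T.Q_four hq
    rwa [pow_succ, h, one_mul] at h4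
  have hcent : ∀ g ∈ A, g * T.v 13 * g⁻¹ * (T.v 13)⁻¹ ∈ T.Q → ∃ k : ℕ, ∃ q ∈ T.Q, g = T.v 13 ^ k * q := by
    intro g hg hc
    have h1 : g * T.v 13 * g⁻¹ * (T.v 13)⁻¹ = 1 := hfix hc (T.Q_comm_a hc).symm (T.S.F.v_cube 13) (by
      rw [inv_mul_cancel_right, conj_pow, show T.v 13 ^ 3 = 1 from T.S.F.v_cube 13]; group)
    obtain ⟨q, hq, k, l, rfl⟩ := T.cent_a (mul_inv_eq_iff_eq_mul.1 (mul_inv_eq_one.1 h1)) hg.1
    have hl : T.v 1 ^ l = 1 := hpowA l (by
      have := mul_mem (mul_mem (inv_mem (pow_mem haA k)) (inv_mem (hQA hq))) hg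
      rwa [mul_assoc, inv_mul_cancel_left, inv_mul_cancel_left] at this)
    refine ⟨k, q, hq, ?_⟩
    rw [hl, mul_one, ((show Commute q (T.v 13) from T.Q_comm_a hq).pow_right k).eq]
  have hp := T.pairAct (A := T.Q) (E₀ := T.Q) (c := T.v 13) (fun x hx q hq => T.P_Q hx hq)
    (fun x hx q hq => T.P_Q hx hq) hQA hQn T.Q_card T.a_mem_P ha1 haA hcent
  obtain ⟨O, hQO, hOA, hnorm, hidx, hO3, -, hgen⟩ := hp.exists_core
  obtain ⟨h1, h6, h36, -⟩ := three_free (E := T.Q) (fun q hq => T.Q_four hq) hO3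
  have hconjA : ∀ o ∈ O, T.v 13 * o * (T.v 13)⁻¹ ∈ O :=
    hnorm _ (hp.hPL _ T.a_mem_P) (hp.hPE _ T.a_mem_P)
  -- the core is the quaternion group
  have hQ'meet : ∀ g ∈ T.Q', g ∈ A → g ∈ T.Q := by
    intro g hg hgA
    by_contra hgQ
    refine T.Q'_not_le hbad ?_
    set W : Subgroup G := A.comap (MulAut.conj T.t).toMonoidHom with hW
    have hmemW : ∀ {x : G}, x ∈ W ↔ T.t * x * T.t ∈ A := fun {x} => by
      rw [hW, mem_comap, MulEquiv.coe_toMonoidHom, MulAut.conj_apply, T.t_inv]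
    have hi : T.i ∈ W := hmemW.2 (T.t_i_t.symm ▸ hQA T.i_mem_Q)
    have hWe : ∀ x ∈ W, T.v 1 * x * (T.v 1)⁻¹ ∈ W := fun x hx => by
      have hinv : T.t * (T.v 1)⁻¹ * T.t = (T.v 1)⁻¹⁻¹ := by rw [inv_inv, ← T.t_e3, T.t_t]
      refine hmemW.2 ?_
      rw [show T.t * (T.v 1 * x * (T.v 1)⁻¹) * T.t = (T.v 1)⁻¹ * (T.t * x * T.t) * (T.v 1)⁻¹⁻¹ by
        rw [← T.t_conj_mul, ← T.t_conj_mul, T.t_e3, hinv]]
      exact hp.hPL _ (inv_mem T.e3_mem_P) _ (hmemW.1 hx)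
    intro y hy
    have hg' := T.mem_Q'.1 hg
    have hne : T.t * g * T.t ≠ 1 ∧ T.t * g * T.t ≠ T.i := by
      constructor <;> intro e <;> refine hgQ ?_
      · rw [← T.t_t g, e, mul_one, T.t_sq]; exact one_mem _
      · rw [← T.t_t g, e, T.t_i_t]; exact T.i_mem_Q
    have h := hmemW.1 (T.Q_le_of_inv hi hWe hg' (hmemW.2 (by rw [T.t_t]; exact hgA)) hne.1 hne.2 (T.mem_Q'.1 hy))
    rwa [T.t_t] at h
  have ha36 : ∀ {y : G}, y * T.v 13 = T.v 13 * y → y ^ 36 = 1 := fun {y} hya => by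
    have hyC := T.mem_C.2 hya
    have h1 : T.S.D.π ⟨y ^ 12, pow_mem hyC 12⟩ = 1 := by
      rw [show (⟨y ^ 12, pow_mem hyC 12⟩ : T.S.D.C) = ⟨y, hyC⟩ ^ 12 from Subtype.ext (by simp), map_pow,
        order_facts.1]
    rw [show 36 = 12 * 3 by rfl, pow_mul]
    exact T.S.D.R_exp _ ((T.S.D.ker _).1 h1)
  have hOQ : O = T.Q := le_antisymm (hgen T.Q le_rfl fun x hx hxc g hgO hgx => by
    have hgen' : ∀ c, x ∈ zpowers (T.v c) → g * T.v c = T.v c * g := by
      intro c hxc'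
      have hox : orderOf x = 3 := orderOf_eq_prime (T.P_cube hx) fun e => hxc (e ▸ one_mem _)
      have e : zpowers x = zpowers (T.v c) := eq_of_le_of_card_ge (zpowers_le.2 hxc') (by
        rw [Nat.card_zpowers, Nat.card_zpowers, hox]
        exact Nat.le_of_dvd (by norm_num) (orderOf_dvd_of_pow_eq_one (T.S.F.v_cube c)))
      obtain ⟨k, hk⟩ : T.v c ∈ zpowers x := e ▸ mem_zpowers _
      rw [← hk]; exact ((show Commute g x from hgx).zpow_right k).eq
    have hgi := (hOA hgO).1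
    rcases T.P_cases hx with h | h | h | h
    · obtain ⟨l, σ, hσ, rfl⟩ := T.cent_e3 (hgen' 1 h) hgi
      have hc : Commute (T.v 1 ^ l) (T.φ σ) :=
        ((show Commute (T.φ σ) (T.v 1) from T.φ_comm_e3 σ).symm).pow_left l
      have hl3 : (T.v 1 ^ l) ^ 3 = 1 := T.P_cube (pow_mem T.e3_mem_P l)
      have hl6 : (T.v 1 ^ l) ^ 6 = 1 := by rw [show 6 = 3 * 2 by rfl, pow_mul, hl3, one_pow]
      by_cases hσE : InE σ
      · have h2 : (T.v 1 ^ l) ^ 2 ∈ O := by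
          have := pow_mem hgO 2
          rwa [hc.mul_pow, pow_two (T.φ σ), T.E_sq (T.φ_mem_E hσE), mul_one] at this
        have h2' := h1 _ h2 (by rw [← pow_mul, show 2 * 3 = 6 by rfl, hl6])
        have hl : T.v 1 ^ l = 1 := by rwa [pow_succ, h2', one_mul] at hl3
        rw [hl, one_mul] at hgO ⊢
        exact hi_Q (T.E_meet hbad (T.φ_mem_E hσE) (hOA hgO))
      exfalso
      rcases order_facts.2.2.2.1 σ hσ hσE with ⟨e6, e2⟩ | ⟨e6, e2⟩
      · have h2 := h6 _ hgO (by rw [hc.mul_pow, hl6, ← map_pow, e6, map_one, one_mul])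
        rw [hc.mul_pow] at h2
        have hσ2 : T.φ (σ ^ 2) = T.v 1 ^ l := by
          rw [map_pow]
          refine mul_left_cancel (a := (T.v 1 ^ l) ^ 2) (h2.trans ?_)
          rw [← pow_succ, hl3]
        have ht : T.t * T.v 1 ^ l * T.t = T.v 1 ^ l := by
          rw [← hσ2, ← T.φ_comm_t, mul_assoc, T.t_sq, mul_one]
        have h' := conj_pow (i := l) (a := T.t) (b := T.v 1)
        rw [T.t_inv, T.t_e3, ht, inv_pow] at h'
        have hl : T.v 1 ^ l = 1 := by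
          have h4 : T.v 1 ^ l * T.v 1 ^ l = 1 := by nth_rewrite 1 [← h']; rw [inv_mul_cancel]
          rwa [pow_succ, pow_two, h4, one_mul] at hl3
        exact e2 (T.K.inj (by rw [hσ2, hl, map_one]))
      · have hg' := mul_mem hgO (hconjA _ (inv_mem hgO))
        have e : T.v 1 ^ l * T.φ σ * (T.v 13 * (T.v 1 ^ l * T.φ σ)⁻¹ * (T.v 13)⁻¹) =
            T.φ (σ * (SixP.a0 * SixP.b0 * σ⁻¹ * (SixP.a0 * SixP.b0)⁻¹)) := by
          rw [map_mul, map_mul, map_mul, map_inv, map_inv, hc.eq, T.a_split, mul_inv_rev (T.φ σ)]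
          have hc1 : Commute (T.v 1) (T.φ (SixP.a0 * SixP.b0)) := (T.φ_comm_e3 _).symm
          have hc2 : Commute (T.v 1) (T.φ σ) := (T.φ_comm_e3 _).symm
          calc T.φ σ * T.v 1 ^ l * (T.φ (SixP.a0 * SixP.b0) * T.v 1 * ((T.v 1 ^ l)⁻¹ * (T.φ σ)⁻¹) *
                (T.φ (SixP.a0 * SixP.b0) * T.v 1)⁻¹)
              = T.φ σ * (T.v 1 ^ l * T.φ (SixP.a0 * SixP.b0)) * (T.v 1 ^ l)⁻¹ *
                (T.v 1 * (T.φ σ)⁻¹ * (T.v 1)⁻¹) * (T.φ (SixP.a0 * SixP.b0))⁻¹ := by group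
            _ = _ := by
              rw [(hc1.pow_left l).eq, hc2.inv_right.eq, mul_inv_cancel_right, map_mul]
              group
        rw [e] at hg'
        have h2 := h6 _ hg' (by rw [← map_pow, e6, map_one])
        rw [← map_pow] at h2
        exact e2 (T.K.inj (h2.trans (map_one T.φ).symm))
    · exact absurd h hxc
    · have e14 := hgen' 14 h
      have h13 : T.v 13 = T.t * T.v 14 * T.t := by rw [← T.t_a, T.t_t]
      have ha : T.t * g * T.t * T.v 13 = T.v 13 * (T.t * g * T.t) := by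
        rw [h13, T.t_conj_mul, T.t_conj_mul, e14]
      have hi : T.t * g * T.t * T.i = T.i * (T.t * g * T.t) := by
        conv_lhs => rw [← T.t_i_t, T.t_conj_mul, hgi]
        conv_rhs => rw [← T.t_i_t, T.t_conj_mul]
      have hpow : ∀ n, T.t * g ^ n * T.t = (T.t * g * T.t) ^ n := fun n => by
        have := conj_pow (i := n) (a := T.t) (b := g)
        rw [T.t_inv] at this
        exact this.symm
      have hg36 : g ^ 36 = 1 := by
        rw [← T.t_t (g ^ 36), hpow, ha36 ha, mul_one, T.t_sq]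
      refine hQ'meet g (T.mem_Q'.2 ⟨ha, hi, ?_⟩) (hOA hgO)
      rw [← hpow, h36 g hgO hg36, mul_one, T.t_sq]
    · obtain ⟨y, hy, m, hm, rfl⟩ := T.cent_12 (hgen' 12 h) hgi
      have hm' : m = 1 ∨ m = T.i ∨ m * (T.v 1)⁻¹ * m⁻¹ = T.v 1 := by
        rcases hm with rfl | rfl | rfl | rfl
        · exact Or.inl rfl
        · right; right
          rw [← conj_inv, T.t_inv, T.t_e3, inv_inv]
        · right; right
          rw [show T.t * T.i * (T.v 1)⁻¹ * (T.t * T.i)⁻¹ = T.t * (T.i * (T.v 1)⁻¹ * T.i⁻¹) * T.t⁻¹ by group,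
            ← (show Commute (T.v 1) T.i from T.e3_comm_i).inv_left.eq, mul_inv_cancel_right, ← conj_inv, T.t_inv,
            T.t_e3, inv_inv]
        · exact Or.inr (Or.inl rfl)
      rcases hm' with rfl | rfl | hm'
      · rw [mul_one] at hgO ⊢
        rw [h1 y hgO (T.P_cube hy)]; exact one_mem _
      · refine hO3 _ hgO ?_
        rw [(show Commute y T.i from T.P_comm_i hy).mul_pow, T.P_cube hy, one_mul]
        exact pow_mem T.i_mem_Q 3
      · exfalso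
        have h2 := mul_mem (hnorm (T.v 1) (hp.hPL _ T.e3_mem_P) (hp.hPE _ T.e3_mem_P) _ hgO) (inv_mem hgO)
        have hey : Commute (T.v 1) y := T.P_comm T.e3_mem_P hy
        have e : T.v 1 * (y * m) * (T.v 1)⁻¹ * (y * m)⁻¹ = T.v 1 * T.v 1 := by
          calc T.v 1 * (y * m) * (T.v 1)⁻¹ * (y * m)⁻¹ = T.v 1 * (y * (m * (T.v 1)⁻¹ * m⁻¹) * y⁻¹) := by group
            _ = _ := by rw [hm', ← hey.eq, mul_inv_cancel_right]
        rw [e] at h2
        have h4 := mul_mem h2 h2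
        have e4 : T.v 1 * T.v 1 * (T.v 1 * T.v 1) = T.v 1 := by
          rw [show T.v 1 * T.v 1 * (T.v 1 * T.v 1) = T.v 1 ^ 3 * T.v 1 by
            simp only [pow_succ, pow_zero, one_mul, mul_assoc], show T.v 1 ^ 3 = 1 from T.S.F.v_cube 1, one_mul]
        rw [e4] at h4
        exact he3' (h1 _ h4 (T.S.F.v_cube 1))) hQO
  subst hOQ
  -- no element inverts the central element modulo the core
  haveI : (T.Q.subgroupOf A).Normal := ⟨fun q hq l => mem_subgroupOf.2 (hQn l l.2 q (mem_subgroupOf.1 hq))⟩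
  let mk := QuotientGroup.mk' (T.Q.subgroupOf A)
  have hmk1 : ∀ x : A, mk x = 1 ↔ (x : G) ∈ T.Q := fun x => (QuotientGroup.eq_one_iff x).trans mem_subgroupOf
  have hquot : Nat.card (A ⧸ T.Q.subgroupOf A) = 3 ∨ Nat.card (A ⧸ T.Q.subgroupOf A) = 6 := hidx
  have hcube : ∀ y ∈ A, y ^ 6 ∈ T.Q := fun y hy => by
    have h := pow_card_eq_one' (x := mk ⟨y, hy⟩)
    refine (hmk1 (⟨y, hy⟩ ^ 6)).1 ?_
    rw [map_pow]
    rcases hquot with e | e <;> rw [e] at h
    · rw [show 6 = 3 * 2 by rfl, pow_mul, h, one_pow]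
    · exact h
  have hinvert : ∀ y ∈ A, y * T.v 13 * y⁻¹ ≠ (T.v 13)⁻¹ := by
    intro y hy e
    set ι := T.D.w 7 0 with hι
    have hιi : Commute ι T.i := T.inv_comm_i
    obtain ⟨q, hq, k, l, hyq⟩ := T.cent_a (g := ι * y)
      (by
        calc ι * y * T.v 13 = ι * (y * T.v 13 * y⁻¹) * ι⁻¹ * (ι * y) := by group
          _ = T.v 13 * (ι * y) := by rw [e, ← conj_inv, T.inv_v, inv_inv])
      ((hιi.mul_left (show Commute y T.i from hy.1)).eq)
    have hy' : y = ι * (q * (T.v 13 ^ k * T.v 1 ^ l)) := by rw [← hyq, ← mul_assoc, T.inv_sq, one_mul]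
    have hq1 : q * T.v 1 * q⁻¹ * (T.v 1)⁻¹ ∈ T.Q := by
      rw [show q * T.v 1 * q⁻¹ * (T.v 1)⁻¹ = q * (T.v 1 * q⁻¹ * (T.v 1)⁻¹) by group]
      exact mul_mem hq (T.e3_Q (inv_mem hq))
    have hq2 := T.inv_Q hq1
    have e1 : y * T.v 1 * y⁻¹ = ι * (q * T.v 1 * q⁻¹ * (T.v 1)⁻¹) * ι⁻¹ * (T.v 1)⁻¹ := by
      have hc : Commute (T.v 13 ^ k * T.v 1 ^ l) (T.v 1) :=
        ((show Commute (T.v 13) (T.v 1) from T.v_comm 13 1).pow_left k).mul_left ((Commute.refl _).pow_left l)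
      rw [hy']
      calc ι * (q * (T.v 13 ^ k * T.v 1 ^ l)) * T.v 1 * (ι * (q * (T.v 13 ^ k * T.v 1 ^ l)))⁻¹
          = ι * q * ((T.v 13 ^ k * T.v 1 ^ l) * T.v 1 * (T.v 13 ^ k * T.v 1 ^ l)⁻¹) * q⁻¹ * ι⁻¹ := by group
        _ = _ := by
          rw [hc.eq, mul_inv_cancel_right]
          conv_rhs => arg 2; rw [← T.inv_v, ← hι]
          group
    have h2 : (T.v 1)⁻¹ * (T.v 1)⁻¹ ∈ A := by
      have h := mul_mem hy (hp.hPL _ T.e3_mem_P _ (inv_mem hy))
      rw [show y * (T.v 1 * y⁻¹ * (T.v 1)⁻¹) = y * T.v 1 * y⁻¹ * (T.v 1)⁻¹ by group, e1, mul_assoc] at h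
      have h' := mul_mem (inv_mem (hQA hq2)) h
      rwa [inv_mul_cancel_left] at h'
    refine he3A ?_
    have h3 : T.v 1 ^ 3 = 1 := T.S.F.v_cube 1
    have e3 : (T.v 1)⁻¹ * (T.v 1)⁻¹ = T.v 1 := by
      rw [← mul_inv_rev, inv_eq_iff_eq_inv, eq_inv_iff_mul_eq_one, ← h3, pow_succ, pow_two]
    rwa [e3] at h2
  have hpow2 : ∀ y ∈ A, ∀ n : ℕ, y ^ 2 ^ n = 1 → y ∈ T.Q := by
    intro y hy n hn
    -- a square root of the quotient
    have h2 : mk ⟨y, hy⟩ ^ 2 = 1 := by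
      have hn' : mk ⟨y, hy⟩ ^ 2 ^ n = 1 := by
        rw [← map_pow, show (⟨y, hy⟩ : A) ^ 2 ^ n = 1 from Subtype.ext (by simpa using hn), map_one]
      have h6 : mk ⟨y, hy⟩ ^ 6 = 1 := by rw [← map_pow]; exact (hmk1 _).2 (hcube y hy)
      have hd : orderOf (mk ⟨y, hy⟩) ∣ Nat.gcd (2 ^ n) 6 :=
        Nat.dvd_gcd (orderOf_dvd_of_pow_eq_one hn') (orderOf_dvd_of_pow_eq_one h6)
      have hg : Nat.gcd (2 ^ n) 6 ∣ 2 := by
        have := Nat.gcd_dvd_right (2 ^ n) 6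
        have hc : Nat.Coprime (Nat.gcd (2 ^ n) 6) 3 :=
          Nat.Coprime.coprime_dvd_left (Nat.gcd_dvd_left _ _) (Nat.Coprime.pow_left n (by norm_num))
        exact hc.dvd_of_dvd_mul_right (by simpa using this)
      exact orderOf_dvd_iff_pow_eq_one.1 (hd.trans hg)
    -- the conjugate of the central element
    have haC : mk ⟨T.v 13, haA⟩ ≠ 1 := fun e => hp.c_not ((hmk1 _).1 e)
    by_contra hyQ
    have hy1 : mk ⟨y, hy⟩ ≠ 1 := fun e => hyQ ((hmk1 _).1 e)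
    rcases hquot with h | h
    · have h3 := pow_card_eq_one' (x := mk ⟨y, hy⟩)
      rw [h, pow_succ, h2, one_mul] at h3
      exact hy1 h3
    · set c := mk ⟨T.v 13, haA⟩ with hc
      set u := mk ⟨y, hy⟩ with hu
      have hc3 : c ^ 3 = 1 := by
        rw [hc, ← map_pow, show (⟨T.v 13, haA⟩ : A) ^ 3 = 1 from
          Subtype.ext (by simpa using T.S.F.v_cube 13), map_one]
      have hidx2 : (zpowers c).index = 2 := by
        have := card_mul_index (zpowers c)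
        rw [Nat.card_zpowers, orderOf_eq_prime hc3 haC, h] at this
        omega
      haveI := normal_of_index_eq_two hidx2
      obtain ⟨j, hj⟩ := (inferInstance : (zpowers c).Normal).conj_mem c (mem_zpowers c) u
      have hcases : u * c * u⁻¹ = 1 ∨ u * c * u⁻¹ = c ∨ u * c * u⁻¹ = c⁻¹ := by
        rw [← hj]
        change c ^ j = 1 ∨ c ^ j = c ∨ c ^ j = c⁻¹
        rw [← zpow_mod_orderOf, orderOf_eq_prime hc3 haC]
        rcases (by omega : j % (3 : ℕ) = 0 ∨ j % (3 : ℕ) = 1 ∨ j % (3 : ℕ) = 2) with e | e | e <;> rw [e]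
        · exact Or.inl (zpow_zero c)
        · exact Or.inr (Or.inl (zpow_one c))
        · refine Or.inr (Or.inr (eq_inv_of_mul_eq_one_left ?_))
          rw [zpow_two, ← pow_two, ← pow_succ, hc3]
      rcases hcases with e | e | e
      · exact haC (conj_eq_one_iff.1 e)
      · have h' : y * T.v 13 * y⁻¹ * (T.v 13)⁻¹ ∈ T.Q := (hmk1 (⟨y, hy⟩ * ⟨T.v 13, haA⟩ * ⟨y, hy⟩⁻¹ * ⟨T.v 13, haA⟩⁻¹)).1 (by
          rw [map_mul, map_mul, map_mul, map_inv, map_inv, ← hc, ← hu, e, mul_inv_cancel])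
        obtain ⟨k, q, hq, hyk⟩ := hcent y hy h'
        have h3 : u ^ 3 = 1 := by
          rw [hu, show (⟨y, hy⟩ : A) = ⟨T.v 13, haA⟩ ^ k * ⟨q, hQA hq⟩ from Subtype.ext (by simpa using hyk),
            map_mul, map_pow, ← hc, (hmk1 ⟨q, hQA hq⟩).2 hq, mul_one, ← pow_mul, mul_comm, pow_mul, hc3, one_pow]
        rw [pow_succ, h2, one_mul] at h3
        exact hy1 h3
      · have h' : y * T.v 13 * y⁻¹ * T.v 13 ∈ T.Q := (hmk1 (⟨y, hy⟩ * ⟨T.v 13, haA⟩ * ⟨y, hy⟩⁻¹ * ⟨T.v 13, haA⟩)).1 (by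
          rw [map_mul, map_mul, map_mul, map_inv, ← hc, ← hu, e, inv_mul_cancel])
        have h0 := hfix h' (show Commute (y * T.v 13 * y⁻¹ * T.v 13) (T.v 13) from T.Q_comm_a h').inv_right.symm.eq
          (by rw [inv_pow, show T.v 13 ^ 3 = 1 from T.S.F.v_cube 13, inv_one])
          (by rw [mul_inv_cancel_right, conj_pow, show T.v 13 ^ 3 = 1 from T.S.F.v_cube 13]; group)
        exact hinvert y hy (eq_inv_of_mul_eq_one_left h0)
  -- two four groups of the quotient by the swap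
  set X : Subgroup G := centralizer ({T.i} : Set G) with hX
  have hmemX : ∀ {x : G}, x ∈ X ↔ x * T.i = T.i * x := fun {x} => mem_centralizer_singleton_iff
  set iX : X := ⟨T.i, hmemX.2 rfl⟩ with hiX
  haveI : (zpowers iX).Normal := ⟨fun n hn x => by
    obtain ⟨j, rfl⟩ := hn
    have hc : Commute x iX := Subtype.ext (hmemX.1 x.2)
    show x * iX ^ j * x⁻¹ ∈ _
    rw [(hc.zpow_right j).eq, mul_inv_cancel_right]
    exact zpow_mem (mem_zpowers _) j⟩
  let πX := QuotientGroup.mk' (zpowers iX)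
  have hiX2 : iX ^ 2 = 1 := Subtype.ext (by show T.i ^ 2 = 1; rw [pow_two, T.i_sq])
  have hπ1 : ∀ x : X, πX x = 1 ↔ (x : G) = 1 ∨ (x : G) = T.i := fun x => by
    refine (QuotientGroup.eq_one_iff x).trans ⟨fun h => ?_, ?_⟩
    · obtain ⟨j, rfl⟩ := h
      show ((iX ^ j : X) : G) = 1 ∨ ((iX ^ j : X) : G) = T.i
      rcases Int.even_or_odd' j with ⟨d, rfl | rfl⟩
      · left; rw [zpow_mul, zpow_two, ← pow_two, hiX2, one_zpow]; rfl
      · right; rw [zpow_add, zpow_mul, zpow_two, ← pow_two, hiX2, one_zpow, one_mul, zpow_one]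
    · rintro (e | e)
      · rw [show x = 1 from Subtype.ext e]; exact one_mem _
      · rw [show x = iX from Subtype.ext e]; exact mem_zpowers _
  let fQ : T.Q →* X ⧸ zpowers iX := πX.comp (Subgroup.inclusion fun q hq => hmemX.2 (T.Q_comm_i hq))
  let fE : T.E →* X ⧸ zpowers iX := πX.comp (Subgroup.inclusion fun e he => hmemX.2 (T.E_comm_i he))
  have hcard4 : ∀ {H : Type _} [Group H] [Finite H] (f : H →* X ⧸ zpowers iX) (j : H), Nat.card H = 8 →
      (∀ y, f y = 1 ↔ y = 1 ∨ y = j) → j ≠ 1 → Nat.card f.range = 4 := by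
    intro H _ _ f j hH hf hj
    have hk : Nat.card f.ker = 2 := by
      rw [Nat.card_eq_two_iff]
      refine ⟨⟨1, one_mem _⟩, ⟨j, (hf j).2 (Or.inr rfl)⟩, fun e => hj (congrArg Subtype.val e).symm, ?_⟩
      ext ⟨y, hy⟩
      simpa [Subtype.ext_iff] using (hf y).1 hy
    have h := card_mul_index f.ker
    rw [index_ker, hk, hH] at h
    omega
  obtain ⟨g, u, hu, hu1, hgu⟩ := shared_involution (Q := fQ.range) (V := fE.range)
    (hcard4 fQ ⟨T.i, T.i_mem_Q⟩ T.Q_card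
      (fun q => (hπ1 _).trans (or_congr (by rw [Subtype.ext_iff]; rfl) (by rw [Subtype.ext_iff]; rfl)))
      (fun e => T.i_ne (congrArg Subtype.val e)))
    (by
      rintro _ ⟨q, rfl⟩
      rw [← map_mul]
      refine (hπ1 _).2 ?_
      show (q : G) * q = 1 ∨ (q : G) * q = T.i
      by_cases h1 : (q : G) = 1 ∨ (q : G) = T.i
      · left; rcases h1 with e | e <;> rw [e]; exacts [one_mul 1, T.i_sq]
      · push Not at h1
        exact Or.inr (T.Q_sq q.2 h1.1 h1.2))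
    (hcard4 fE ⟨T.i, T.i_mem_E⟩ T.E_card
      (fun e => (hπ1 _).trans (or_congr (by rw [Subtype.ext_iff]; rfl) (by rw [Subtype.ext_iff]; rfl)))
      (fun e => T.i_ne (congrArg Subtype.val e)))
    (by
      rintro _ ⟨e, rfl⟩
      rw [← map_mul, show e * e = 1 from Subtype.ext (T.E_sq e.2), map_one])
    (fun y n hyn hy => by
      obtain ⟨y, rfl⟩ := QuotientGroup.mk'_surjective _ y
      have hyA : (y : G) ∈ A := ⟨hmemX.1 y.2, fun q hq => by
        have h := hy (fQ ⟨q, hq⟩) ⟨_, rfl⟩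
        set q' : X := Subgroup.inclusion _ (⟨q, hq⟩ : T.Q) with hq'
        refine (hπ1 (y * q' * y⁻¹ * q'⁻¹)).1 ?_
        change πX y * πX q' = πX q' * πX y at h
        rw [map_mul, map_mul, map_mul, map_inv, map_inv, h]
        group⟩
      have hy2 : (y : G) ^ 2 ^ (n + 1) = 1 := by
        rw [← map_pow] at hyn
        rcases (hπ1 _).1 hyn with e | e <;> rw [SubmonoidClass.coe_pow] at e <;>
          rw [pow_succ, pow_mul, e]
        exacts [one_pow 2, by rw [pow_two, T.i_sq]]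
      exact ⟨⟨_, hpow2 _ hyA _ hy2⟩, rfl⟩)
  obtain ⟨⟨q, hq⟩, rfl⟩ := hu
  obtain ⟨⟨e, he⟩, hge⟩ := hgu
  obtain ⟨g, rfl⟩ := QuotientGroup.mk'_surjective _ g
  have hq1 : q ≠ 1 := fun h => hu1 ((hπ1 _).2 (Or.inl h))
  have hqi : q ≠ T.i := fun h => hu1 ((hπ1 _).2 (Or.inr h))
  set e' : X := Subgroup.inclusion (fun e he => hmemX.2 (T.E_comm_i he)) (⟨e, he⟩ : T.E) with he'
  set q' : X := Subgroup.inclusion (fun q hq => hmemX.2 (T.Q_comm_i hq)) (⟨q, hq⟩ : T.Q) with hq'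
  change πX e' = πX g * πX q' * (πX g)⁻¹ at hge
  have h := (hπ1 (e'⁻¹ * (g * q' * g⁻¹))).1 (by
    rw [map_mul, map_mul, map_mul, map_inv, map_inv, ← hge, inv_mul_cancel])
  change e⁻¹ * ((g : G) * q * (g : G)⁻¹) = 1 ∨ e⁻¹ * ((g : G) * q * (g : G)⁻¹) = T.i at h
  have hgq : (g : G) * q * (g : G)⁻¹ ∈ T.E := by
    rcases h with h | h
    · rw [← inv_mul_eq_one.1 h]; exact he
    · rw [inv_mul_eq_iff_eq_mul.1 h]; exact mul_mem he T.i_mem_E
  have hsq := T.E_sq hgq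
  rw [show (g : G) * q * (g : G)⁻¹ * ((g : G) * q * (g : G)⁻¹) = (g : G) * (q * q) * (g : G)⁻¹ by group,
    T.Q_sq hq hq1 hqi, conj_eq_one_iff] at hsq
  exact T.i_ne hsq

end SData

end Cfsg.Lib.PSpThree
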