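import Cfsg.Agent.Lib.PSpThree.SixModC

/-!
# A split axis centralizer: the quaternion group centralises the elementary group
-/

set_option autoImplicit false
set_option maxHeartbeats 1600000
set_option maxRecDepth 100000
set_option linter.unusedSectionVars false
set_option linter.style.haveILetI false
set_option synthInstance.maxSize 5000

namespace Cfsg.Lib.PSpThree

open Subgroup Cfsg.Lib.SymNine Equiv

theorem E_span : ∀ τ : Perm (Fin 6), InE τ → ∃ a b c : Fin 2,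
    τ = swap 0 3 ^ a.val * swap 1 4 ^ b.val * SixP.t0 ^ c.val := by decide +kernel

theorem inE_list : ∀ σ : Perm (Fin 6), InE σ → σ = 1 ∨ σ = swap 0 3 ∨ σ = swap 1 4 ∨ σ = swap 2 5 ∨
    σ = swap 0 3 * swap 1 4 ∨ σ = swap 0 3 * swap 2 5 ∨ σ = swap 1 4 * swap 2 5 ∨ σ = SixP.t0 :=
  inE_facts.2.2.2.2.2.2.2.1

namespace SData

variable {G : Type*} [Group G] [Finite G] (T : SData G)

theorem Q_E_of_le (h : T.Q ≤ T.modC T.E) : ∀ q ∈ T.Q, ∀ e ∈ T.E, q * e = e * q := by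
  intro q hq
  have hqi : q * T.i * q⁻¹ = T.i := by rw [T.Q_comm_i hq, mul_inv_cancel_right]
  obtain ⟨-, -, -, -, -, -, a1, a2, -, -, hprod, -⟩ := order_facts
  have hi03 := inE_facts.2.1
  have hi14 := inE_facts.2.2.1
  have hi25 := inE_facts.2.2.2.1
  have hval : ∀ σ, InE σ → q * T.φ σ * q⁻¹ = T.φ σ ∨ q * T.φ σ * q⁻¹ = T.i * T.φ σ := fun σ hσ =>
    ((h hq).2 _ (T.φ_mem_E hσ)).imp (fun e => mul_inv_eq_one.1 e) (fun e => mul_inv_eq_iff_eq_mul.1 e)
  have hshift : ∀ σ σ', SixP.a0 * SixP.b0 * σ * (SixP.a0 * SixP.b0)⁻¹ = σ' → InE σ →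
      q * T.φ σ * q⁻¹ = T.i * T.φ σ → q * T.φ σ' * q⁻¹ = T.i * T.φ σ' := by
    intro σ σ' hσ' hσ e
    have hc : T.φ σ' = T.v 13 * T.φ σ * (T.v 13)⁻¹ := by
      rw [← hσ', map_mul, map_mul, map_inv, T.a_split,
        show ∀ p x : G, p * T.v 1 * x * (p * T.v 1)⁻¹ = p * (T.v 1 * x * (T.v 1)⁻¹) * p⁻¹ from fun p x => by group,
        ← T.φ_comm_e3 σ, mul_inv_cancel_right]
    rw [hc]
    calc q * (T.v 13 * T.φ σ * (T.v 13)⁻¹) * q⁻¹ = (q * T.v 13) * T.φ σ * (q * T.v 13)⁻¹ := by group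
      _ = T.v 13 * (q * T.φ σ * q⁻¹) * (T.v 13)⁻¹ := by rw [T.Q_comm_a hq]; group
      _ = (T.v 13 * T.i) * T.φ σ * (T.v 13)⁻¹ := by rw [e]; group
      _ = T.i * (T.v 13 * T.φ σ * (T.v 13)⁻¹) := by rw [T.a_comm_i]; group
  have key : q * T.φ (swap 0 3) * q⁻¹ = T.φ (swap 0 3) ∧ q * T.φ (swap 1 4) * q⁻¹ = T.φ (swap 1 4) := by
    have h25 : q * T.φ (swap 0 3) * q⁻¹ * (q * T.φ (swap 1 4) * q⁻¹) * (q * T.φ (swap 2 5) * q⁻¹) = T.i := by
      rw [show ∀ x y z : G, q * x * q⁻¹ * (q * y * q⁻¹) * (q * z * q⁻¹) = q * (x * y * z) * q⁻¹ from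
        fun x y z => by group, ← map_mul, ← map_mul, hprod, ← T.i_eq, hqi]
    have hne : q * T.φ (swap 0 3) * q⁻¹ = T.i * T.φ (swap 0 3) → False := fun e => by
      have e' := hshift _ _ a1 hi03 e
      have e'' := hshift _ _ a2 hi14 e'
      rw [e, e', e''] at h25
      have hc03 : T.φ (swap 0 3) * T.i = T.i * T.φ (swap 0 3) := T.E_comm_i (T.φ_mem_E hi03)
      have hc14 : T.φ (swap 1 4) * T.i = T.i * T.φ (swap 1 4) := T.E_comm_i (T.φ_mem_E hi14)
      refine T.i_ne ?_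
      have : T.i * (T.φ (swap 0 3) * T.φ (swap 1 4) * T.φ (swap 2 5)) = T.i := by
        conv_rhs => rw [← h25]
        calc T.i * (T.φ (swap 0 3) * T.φ (swap 1 4) * T.φ (swap 2 5))
            = T.i * T.φ (swap 0 3) * (T.i * T.i) * T.φ (swap 1 4) * T.φ (swap 2 5) := by rw [T.i_sq]; group
          _ = T.i * T.φ (swap 0 3) * T.i * ((T.i * T.φ (swap 1 4)) * T.φ (swap 2 5)) := by group
          _ = T.i * T.φ (swap 0 3) * T.i * ((T.φ (swap 1 4) * T.i) * T.φ (swap 2 5)) := by rw [hc14]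
          _ = T.i * T.φ (swap 0 3) * (T.i * T.φ (swap 1 4)) * (T.i * T.φ (swap 2 5)) := by group
      rw [← map_mul, ← map_mul, hprod, ← T.i_eq] at this
      exact mul_eq_left.1 this
    have h03 := (hval _ hi03).resolve_right hne
    refine ⟨h03, (hval _ hi14).resolve_right fun e => ?_⟩
    have e'' := hshift _ _ a2 hi14 e
    -- the images of the two others are shifted, so the first is as well
    rw [h03, e, e''] at h25
    have hc14 : T.φ (swap 1 4) * T.i = T.i * T.φ (swap 1 4) := T.E_comm_i (T.φ_mem_E hi14)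
    have h3 : SixP.a0 * SixP.b0 * swap 2 5 * (SixP.a0 * SixP.b0)⁻¹ = swap 0 3 := by decide +kernel
    have e03 := hshift _ _ h3 hi25 e''
    rw [h03] at e03
    exact T.i_ne (mul_eq_right.1 e03.symm)
  rintro _ ⟨τ, hτ, rfl⟩
  obtain ⟨a, b, c, rfl⟩ := E_span τ hτ
  rw [map_mul, map_mul, map_pow, map_pow, map_pow, ← T.i_eq]
  exact ((((show Commute q (T.φ (swap 0 3)) from mul_inv_eq_iff_eq_mul.1 key.1)).pow_right a.val).mul_right
    ((show Commute q (T.φ (swap 1 4)) from mul_inv_eq_iff_eq_mul.1 key.2).pow_right b.val)).mul_right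
    ((show Commute q T.i from T.Q_comm_i hq).pow_right c.val)

section

variable (hbad : ¬ ∀ q ∈ T.Q, ∀ e ∈ T.E, q * e = e * q)
include hbad

theorem Q_meet {q : G} (hq : q ∈ T.Q) (hqL : q ∈ T.modC T.E) : q = 1 ∨ q = T.i := by
  by_contra h
  push Not at h
  refine hbad (T.Q_E_of_le (T.Q_le_of_inv (T.i_mem_modC fun _ he => T.E_comm_i he) (fun w hw => ?_) hq hqL h.1 h.2))
  exact T.modC_conj T.e3_comm_i (fun _ he => T.e3_conj_E he) w hw

theorem E_meet {e : G} (he : e ∈ T.E) (heC : e ∈ T.modC T.Q) : e = 1 ∨ e = T.i := by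
  by_contra h
  push Not at h
  obtain ⟨σ, hσ, rfl⟩ := he
  have hσ1 : σ ≠ 1 := fun e => h.1 (by rw [e, map_one])
  have hσ2 : σ ≠ SixP.t0 := fun e => h.2 (by rw [e, T.i_eq])
  have hiC : T.i ∈ T.modC T.Q := T.i_mem_modC fun _ hq => T.Q_comm_i hq
  set σ' := SixP.a0 * SixP.b0 * σ * (SixP.a0 * SixP.b0)⁻¹ with hσ'
  have hc : T.φ σ' = T.v 13 * T.φ σ * (T.v 13)⁻¹ := by
    rw [hσ', map_mul, map_mul, map_inv, T.a_split,
      show ∀ p x : G, p * T.v 1 * x * (p * T.v 1)⁻¹ = p * (T.v 1 * x * (T.v 1)⁻¹) * p⁻¹ from fun p x => by group,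
      ← T.φ_comm_e3 σ, mul_inv_cancel_right]
  have hσ'C : T.φ σ' ∈ T.modC T.Q :=
    hc ▸ T.modC_conj T.a_comm_i (fun _ hq => T.P_Q T.a_mem_P hq) _ heC
  have hEC : T.E ≤ T.modC T.Q := by
    rintro _ ⟨τ, hτ, rfl⟩
    rcases order_facts.2.2.2.2.1 σ hσ hσ1 hσ2 τ hτ with e | e | e | e | e | e | e | e <;> rw [e]
    · rw [map_one]; exact one_mem _
    · rw [← T.i_eq]; exact hiC
    · exact heC
    · exact hσ'C
    · rw [map_mul]; exact mul_mem heC hσ'C
    · rw [map_mul, ← T.i_eq]; exact mul_mem hiC heC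
    · rw [map_mul, ← T.i_eq]; exact mul_mem hiC hσ'C
    · rw [map_mul, map_mul, ← T.i_eq]; exact mul_mem hiC (mul_mem heC hσ'C)
  refine hbad (T.Q_E_of_le fun q hq => ⟨T.Q_comm_i hq, fun e he => ?_⟩)
  have e1 : q * e * q⁻¹ * e⁻¹ = (e * q * e⁻¹ * q⁻¹)⁻¹ := by group
  rcases (hEC he).2 q hq with h1 | h1 <;> rw [e1, h1]
  · left; group
  · exact Or.inr T.i_inv

/-- The centralizer of the elementary group modulo the swap. -/
theorem modC_E_elts {g : G} (hg : g ∈ T.modC T.E) :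
    ∃ l : ℕ, ∃ m : Fin 2, ∃ e ∈ T.E, g = T.v 1 ^ l * T.t ^ m.val * e := by
  classical
  set A := T.modC T.E with hA
  have hEA : T.E ≤ A := fun e he =>
    ⟨T.E_comm_i he, fun a ha => Or.inl (by rw [T.E_comm he ha, mul_inv_cancel_right, mul_inv_cancel])⟩
  have he3A : T.v 1 ∈ A :=
    ⟨T.e3_comm_i, fun a ha => Or.inl (by rw [← T.E_comm_e3 ha, mul_inv_cancel_right, mul_inv_cancel])⟩
  have htA : T.t ∈ A :=
    ⟨T.t_comm_i, fun a ha => Or.inl (by rw [← T.E_comm_t ha, mul_inv_cancel_right, mul_inv_cancel])⟩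
  have hi_E : ∀ {x : G}, x = 1 ∨ x = T.i → x ∈ T.E := fun {x} hx => hx.elim (fun e => e ▸ one_mem _) fun e => e ▸ T.i_mem_E
  have hEn : ∀ l ∈ A, ∀ e ∈ T.E, l * e * l⁻¹ ∈ T.E := fun l hl e he => by
    rw [show l * e * l⁻¹ = l * e * l⁻¹ * e⁻¹ * e by group]
    exact mul_mem (hi_E (hl.2 e he)) he
  have he3' : T.v 1 ≠ 1 := fun e => absurd (T.S.F.v_eq_one.1 e) (by decide)
  have hcent : ∀ g ∈ A, g * T.v 1 * g⁻¹ * (T.v 1)⁻¹ ∈ T.E → ∃ k : ℕ, ∃ e ∈ T.E, g = T.v 1 ^ k * e := by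
    intro g hg hc
    set ε := g * T.v 1 * g⁻¹ * (T.v 1)⁻¹ with hε
    have h3 : (ε * T.v 1) ^ 3 = 1 := by
      rw [show ε * T.v 1 = g * T.v 1 * g⁻¹ by rw [hε]; group, conj_pow, show T.v 1 ^ 3 = 1 from T.S.F.v_cube 1]
      group
    rw [(show Commute ε (T.v 1) from T.E_comm_e3 hc).mul_pow, show T.v 1 ^ 3 = 1 from T.S.F.v_cube 1, mul_one,
      pow_succ, pow_two, T.E_sq hc, one_mul] at h3
    obtain ⟨l, σ, hσ, rfl⟩ := T.cent_e3 (mul_inv_eq_iff_eq_mul.1 (mul_inv_eq_one.1 h3)) hg.1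
    refine ⟨l, T.φ σ, T.φ_mem_E ?_, rfl⟩
    have hφA : T.φ σ ∈ A := by simpa using mul_mem (inv_mem (pow_mem he3A l)) hg
    have hval : ∀ τ, InE τ → σ * τ * σ⁻¹ * τ⁻¹ = 1 ∨ σ * τ * σ⁻¹ * τ⁻¹ = SixP.t0 := fun τ hτ => by
      rcases hφA.2 _ (T.φ_mem_E hτ) with e | e
      · exact Or.inl (T.K.inj (by rw [map_mul, map_mul, map_mul, map_inv, map_inv, map_one]; exact e))
      · exact Or.inr (T.K.inj (by rw [map_mul, map_mul, map_mul, map_inv, map_inv, ← T.i_eq]; exact e))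
    exact order_facts.2.2.1 σ hσ (hval _ inE_facts.2.1) (hval _ inE_facts.2.2.1)
  have hp := T.pairAct (A := T.E) (E₀ := T.E) (c := T.v 1) (fun x hx a ha => T.P_E hx ha)
    (fun x hx e he => T.P_E hx he) hEA hEn T.E_card T.e3_mem_P he3' he3A hcent
  obtain ⟨O, hEO, hOA, hnorm, hidx, hO3, -, hgen⟩ := hp.exists_core
  obtain ⟨h1, h6, h36, -⟩ := three_free (E := T.E) (fun e he => by
    rw [show (4 : ℕ) = 2 * 2 by rfl, pow_mul, pow_two e, T.E_sq he, one_pow]) hO3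
  have hat : ∀ o ∈ O, T.t * o * T.t⁻¹ ∈ O :=
    hnorm T.t (T.modC_conj T.t_comm_i fun _ he => T.t_conj_E he) (fun e he => T.t_conj_E he)
  have hqa : ∀ g ∈ O, g * T.v 13 = T.v 13 * g → g ∈ T.E := fun g hgO hga => by
    refine hi_E (T.Q_meet hbad ⟨hga, (hOA hgO).1, h36 g hgO ?_⟩ (hOA hgO))
    have hgC := T.mem_C.2 hga
    have e : T.S.D.π ⟨g ^ 12, pow_mem hgC 12⟩ = 1 := by
      rw [show (⟨g ^ 12, pow_mem hgC 12⟩ : T.S.D.C) = ⟨g, hgC⟩ ^ 12 from Subtype.ext (by simp), map_pow,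
        order_facts.1]
    rw [show 36 = 12 * 3 by rfl, pow_mul]
    exact T.S.D.R_exp _ ((T.S.D.ker _).1 e)
  have hOE : O = T.E := le_antisymm (hgen T.E le_rfl fun x hx hxc g hgO hgx => by
    have hgen' : ∀ c, x ∈ zpowers (T.v c) → g * T.v c = T.v c * g := by
      intro c hxc'
      have hox : orderOf x = 3 := orderOf_eq_prime (T.P_cube hx) fun e => hxc (e ▸ one_mem _)
      have e : zpowers x = zpowers (T.v c) := eq_of_le_of_card_ge (zpowers_le.2 hxc') (by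
        rw [Nat.card_zpowers, Nat.card_zpowers, hox]
        exact Nat.le_of_dvd (by norm_num) (orderOf_dvd_of_pow_eq_one (T.S.F.v_cube c)))
      obtain ⟨k, hk⟩ : T.v c ∈ zpowers x := e ▸ mem_zpowers _
      rw [← hk]; exact ((show Commute g x from hgx).zpow_right k).eq
    rcases T.P_cases hx with h | h | h | h
    · exact absurd h hxc
    · exact hqa g hgO (hgen' 13 h)
    · have h13 : T.v 13 = T.t * T.v 14 * T.t := by rw [← T.t_a, T.t_t]
      have hgt : T.t * g * T.t ∈ O := by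
        have := hat g hgO
        rwa [T.t_inv] at this
      have := hqa _ hgt (by rw [h13, T.t_conj_mul, T.t_conj_mul, hgen' 14 h])
      rw [← T.t_t g, ← T.E_comm_t this, mul_assoc, T.t_sq, mul_one]
      exact this
    · obtain ⟨y, hy, m, hm, rfl⟩ := T.cent_12 (hgen' 12 h) (hOA hgO).1
      have hmA : m ∈ A := by
        rcases hm with rfl | rfl | rfl | rfl
        exacts [one_mem _, htA, mul_mem htA (hEA T.i_mem_E), hEA T.i_mem_E]
      have hyA : y ∈ A := by simpa using mul_mem (hOA hgO) (inv_mem hmA)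
      obtain ⟨k, e, he, hye⟩ := hcent y hyA (by
        rw [T.P_comm hy T.e3_mem_P, mul_inv_cancel_right, mul_inv_cancel]; exact one_mem _)
      have hy1 : y = T.v 1 ^ k := by
        have he' : e ∈ T.P := by
          rw [show e = (T.v 1 ^ k)⁻¹ * y by rw [hye]; group]
          exact mul_mem (inv_mem (pow_mem T.e3_mem_P k)) hy
        have h3 := T.P_cube he'
        rw [pow_succ, pow_two, T.E_sq he, one_mul] at h3
        rw [hye, h3, mul_one]
      rcases hm with rfl | rfl | rfl | rfl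
      · rw [mul_one] at hgO ⊢
        rw [h1 y hgO (T.P_cube hy)]; exact one_mem _
      rotate_left 2
      · have h3' : (y * T.i) ^ 3 ∈ T.E := by
          rw [(show Commute y T.i from T.P_comm_i hy).mul_pow, T.P_cube hy, one_mul]
          exact pow_mem T.i_mem_E 3
        exact hO3 _ hgO h3'
      all_goals exfalso
      all_goals have h2 := mul_mem (hnorm (T.v 1) (hp.hPL _ T.e3_mem_P) (hp.hPE _ T.e3_mem_P) _ hgO) (inv_mem hgO)
      all_goals refine he3' (h1 _ ?_ (T.S.F.v_cube 1))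
      all_goals rw [hy1] at h2
      · have e2 : T.v 1 * (T.v 1 ^ k * T.t) * (T.v 1)⁻¹ * (T.v 1 ^ k * T.t)⁻¹ = T.v 1 * T.v 1 := by
          calc T.v 1 * (T.v 1 ^ k * T.t) * (T.v 1)⁻¹ * (T.v 1 ^ k * T.t)⁻¹
              = T.v 1 * T.v 1 ^ k * (T.t * T.v 1 * T.t⁻¹)⁻¹ * (T.v 1 ^ k)⁻¹ := by group
            _ = _ := by rw [T.t_inv, T.t_e3, inv_inv, mul_assoc (T.v 1), pow_mul_comm', ← mul_assoc, mul_inv_cancel_right]
        rw [e2] at h2
        have := mul_mem h2 h2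
        rwa [show T.v 1 * T.v 1 * (T.v 1 * T.v 1) = T.v 1 ^ 3 * T.v 1 by simp only [pow_succ, pow_zero, one_mul, mul_assoc],
          show T.v 1 ^ 3 = 1 from T.S.F.v_cube 1, one_mul] at this
      · have e2 : T.v 1 * (T.v 1 ^ k * (T.t * T.i)) * (T.v 1)⁻¹ * (T.v 1 ^ k * (T.t * T.i))⁻¹ = T.v 1 * T.v 1 := by
          calc T.v 1 * (T.v 1 ^ k * (T.t * T.i)) * (T.v 1)⁻¹ * (T.v 1 ^ k * (T.t * T.i))⁻¹
              = T.v 1 * T.v 1 ^ k * (T.t * (T.i * (T.v 1)⁻¹ * T.i⁻¹) * T.t⁻¹) * (T.v 1 ^ k)⁻¹ := by group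
            _ = T.v 1 * T.v 1 ^ k * (T.t * T.v 1 * T.t⁻¹)⁻¹ * (T.v 1 ^ k)⁻¹ := by
              rw [← (show Commute (T.v 1) T.i from T.e3_comm_i).inv_left.eq, mul_inv_cancel_right]; group
            _ = _ := by rw [T.t_inv, T.t_e3, inv_inv, mul_assoc (T.v 1), pow_mul_comm', ← mul_assoc, mul_inv_cancel_right]
        rw [e2] at h2
        have := mul_mem h2 h2
        rwa [show T.v 1 * T.v 1 * (T.v 1 * T.v 1) = T.v 1 ^ 3 * T.v 1 by simp only [pow_succ, pow_zero, one_mul, mul_assoc],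
          show T.v 1 ^ 3 = 1 from T.S.F.v_cube 1, one_mul] at this) hEO
  subst hOE
  have hcardA : Nat.card A ≤ 48 := by
    have := relIndex_mul_relIndex (⊥ : Subgroup G) T.E A bot_le hEA
    rw [relIndex_bot_left, relIndex_bot_left, T.E_card] at this
    rcases hidx with e | e <;> rw [e] at this <;> omega
  let f : Fin 3 × Fin 2 × T.E → A := fun p =>
    ⟨T.v 1 ^ p.1.val * T.t ^ p.2.1.val * p.2.2, mul_mem (mul_mem (pow_mem he3A _) (pow_mem htA _)) (hEA p.2.2.2)⟩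
  have hinj : Function.Injective f := by
    rintro ⟨a, b, x⟩ ⟨a', b', x'⟩ e
    have e' : T.v 1 ^ a.val * T.t ^ b.val * (x : G) = T.v 1 ^ a'.val * T.t ^ b'.val * x' := congrArg Subtype.val e
    -- conjugation of the axis detects the sign
    have hact : ∀ (a : Fin 3) (b : Fin 2) (x : T.E),
        T.v 1 ^ a.val * T.t ^ b.val * (x : G) * T.v 1 * (T.v 1 ^ a.val * T.t ^ b.val * (x : G))⁻¹ =
          if b.val = 0 then T.v 1 else (T.v 1)⁻¹ := fun a b x => by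
      rw [show ∀ p q : G, p * (x : G) * q * (p * x)⁻¹ = p * ((x : G) * q * (x : G)⁻¹) * p⁻¹ from fun p q => by group,
        T.E_comm_e3 x.2, mul_inv_cancel_right]
      fin_cases b <;> simp only
      · simp only [pow_zero, mul_one, if_pos]
        rw [((Commute.refl (T.v 1)).pow_left a.val).eq, mul_inv_cancel_right]
      · rw [pow_one, show T.v 1 ^ a.val * T.t * T.v 1 * (T.v 1 ^ a.val * T.t)⁻¹ =
          T.v 1 ^ a.val * (T.t * T.v 1 * T.t⁻¹) * (T.v 1 ^ a.val)⁻¹ by group, T.t_inv, T.t_e3,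
          (((Commute.refl (T.v 1)).inv_right).pow_left a.val).eq, mul_inv_cancel_right, if_neg one_ne_zero]
    have hb : b = b' := by
      have h := hact a b x
      rw [e', hact a' b' x'] at h
      have hne : (T.v 1)⁻¹ ≠ T.v 1 := fun e => he3' (by
        have h3 : T.v 1 ^ 3 = 1 := T.S.F.v_cube 1
        rw [pow_succ, pow_two] at h3
        nth_rewrite 1 [← e] at h3
        rwa [inv_mul_cancel, one_mul] at h3)
      fin_cases b <;> fin_cases b' <;> simp_all [hne.symm]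
    subst hb
    have hc : ∀ y : T.E, T.t ^ b.val * (y : G) = (y : G) * T.t ^ b.val := fun y =>
      ((show Commute (y : G) T.t from T.E_comm_t y.2).pow_right b.val).eq.symm
    have e2 : T.v 1 ^ a.val * (x : G) = T.v 1 ^ a'.val * (x' : G) := by
      rw [mul_assoc, hc, ← mul_assoc, mul_assoc (T.v 1 ^ a'.val), hc, ← mul_assoc] at e'
      exact mul_right_cancel e'
    have e3 : (T.v 1 ^ a'.val)⁻¹ * T.v 1 ^ a.val = (x' : G) * (x : G)⁻¹ := by
      rw [inv_mul_eq_iff_eq_mul, ← mul_assoc, eq_mul_inv_iff_mul_eq]; exact e2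
    have h1' : (T.v 1 ^ a'.val)⁻¹ * T.v 1 ^ a.val = 1 :=
      h1 _ (e3 ▸ mul_mem x'.2 (inv_mem x.2)) (T.P_cube (mul_mem (inv_mem (pow_mem T.e3_mem_P _)) (pow_mem T.e3_mem_P _)))
    have hpow : T.v 1 ^ a'.val = T.v 1 ^ a.val := inv_mul_eq_one.1 h1'
    have ha : a = a' := by
      have hv : ∀ n : Fin 3, T.v 1 ^ n.val = T.v (vSmul n.val 1) := fun n => (T.S.F.v_smul n.2 1).symm
      rw [hv, hv] at hpow
      have key : ∀ m n : Fin 3, vSmul m.val 1 = vSmul n.val 1 → m = n := by decide +kernel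
      exact (key a' a (T.S.F.vinj hpow)).symm
    subst ha
    rw [mul_left_cancel_iff] at e2
    exact Prod.ext rfl (Prod.ext rfl (Subtype.ext e2))
  have hb := hinj.bijective_of_nat_card_le (by
    rw [Nat.card_prod, Nat.card_prod, Nat.card_fin, Nat.card_fin, T.E_card]; omega)
  obtain ⟨⟨l, m, e⟩, hle⟩ := hb.2 ⟨g, hg⟩
  exact ⟨l.val, m, e, e.2, (congrArg Subtype.val hle).symm⟩

end

end SData

end Cfsg.Lib.PSpThree
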