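import Cfsg.Agent.Lib.PSpThree.SixGen

/-!
# A split axis centralizer: the quaternion groups lie in the symplectic subgroup

A word of order four in the centralizer of the central element and the swap gives an element of the quaternion
group outside its centre.
-/

set_option autoImplicit false
set_option maxHeartbeats 1600000
set_option maxRecDepth 100000
set_option linter.unusedSectionVars false
set_option linter.style.haveILetI false
set_option synthInstance.maxSize 5000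

namespace Cfsg.Lib.PSpThree

open Subgroup Cfsg.Lib.SymNine Equiv SpSeven

/-- A word for the swap. -/
def iW : List (Fin 7) := [4] ++ ([1] ++ uW ++ [1]) ++ [4] ++ [4, 5, 4] ++ (uW ++ [4, 5, 6, 5, 4] ++ uW)

/-- A word for the central element. -/
def aW : List (Fin 7) := [1] ++ uW ++ [1] ++ uW ++ [5, 6] ++ [0, 2]

/-- A word for an element of the quaternion group. -/
def qW : List (Fin 7) := [2, 3, 4, 5, 6, 5, 4, 3, 2, 1, 3, 4, 3, 2, 1, 0]

theorem qW_facts :
    (∀ x : Fin 63, wImg (qW ++ aW) x = wImg (aW ++ qW) x) ∧ (∀ x : Fin 63, wImg (qW ++ iW) x = wImg (iW ++ qW) x) ∧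
    (∀ x : Fin 63, wImg (qW ++ qW ++ qW ++ qW) x = wImg [] x) ∧ (∃ x : Fin 63, wImg qW x ≠ wImg [] x) ∧
    (∃ x : Fin 63, wImg qW x ≠ wImg iW x) ∧
    (swap 2 5 : Perm (Fin 6)) = swap 1 2 * (swap 1 3 * swap 3 4 * swap 4 5 * swap 3 4 * swap 1 3) * swap 1 2 := by
  refine ⟨?_, ?_, ?_, ?_, ?_, ?_⟩ <;> decide +kernel

namespace SData

variable {G : Type*} [Group G] [Finite G] (T : SData G)

theorem wd_nil : T.wd [] = 1 := by rw [wd, show wElt [] = 1 from rfl, map_one]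

theorem wd_cons (i : Fin 7) (L : List (Fin 7)) : T.wd (i :: L) = T.refl i * T.wd L := by
  rw [← T.wd_single, ← T.wd_append]; rfl

theorem wd_iW : T.wd iW = T.i := by
  rw [T.i_eq, gen_perm_facts.2.2.2.2.2.2.1, gen_perm_facts.2.2.2.1]
  simp only [iW, T.wd_append, T.wd_cons, T.wd_nil, T.wd_uW, mul_one, map_mul, refl, mul_assoc, Matrix.cons_val]

theorem wd_aW : T.wd aW = T.v 13 := by
  have hb : T.v 1 = T.ψ (swap 3 4) * T.t := by
    rw [← T.ψ_b0, gen_perm_facts.2.1, map_mul, T.ψ_45]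
  rw [T.a_split, gen_perm_facts.2.2.1, gen_perm_facts.2.1, hb]
  simp only [aW, T.wd_append, T.wd_cons, T.wd_nil, T.wd_uW, mul_one, map_mul, refl, mul_assoc, Matrix.cons_val]

theorem Q_le_H : T.Q ≤ T.H := by
  obtain ⟨qa, qi, q4, q1, qne, -⟩ := qW_facts
  have hq : T.wd qW ∈ T.Q := by
    refine ⟨?_, ?_, ?_⟩
    · rw [← T.wd_aW]; exact (T.wd_comm qa).eq
    · rw [← T.wd_iW]; exact (T.wd_comm qi).eq
    · rw [← T.wd_nil, ← T.wd_eq' q4]
      simp only [T.wd_append, pow_succ, pow_zero, one_mul]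
  refine T.Q_le_of_inv T.i_mem (fun w hw => mul_mem (mul_mem (T.v_mem 1) hw) (inv_mem (T.v_mem 1))) hq
    (T.wd_mem qW) ?_ ?_
  · rw [← T.wd_nil]; exact T.wd_ne q1
  · rw [← T.wd_iW]; exact T.wd_ne qne

theorem Q'_le_H : T.Q' ≤ T.H := fun r hr => by
  rw [← T.t_t r]
  exact mul_mem (mul_mem T.t_mem (T.Q_le_H (T.mem_Q'.1 hr))) T.t_mem

theorem O_le_H : T.O ≤ T.H := fun o ho => by
  obtain ⟨e, ⟨σ, -, rfl⟩, q, hq, r, hr, rfl⟩ := T.mem_O.1 ho
  exact mul_mem (mul_mem (T.φ_mem σ) (T.Q_le_H hq)) (T.Q'_le_H hr)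

theorem modC_E_le_H : T.modC T.E ≤ T.H := fun g hg => by
  obtain ⟨l, m, o, ho, rfl⟩ := T.modC_E_form hg
  exact mul_mem (T.O_le_H ho) (mul_mem (pow_mem (T.v_mem 1) l) (pow_mem T.t_mem m.val))

end SData

end Cfsg.Lib.PSpThree
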