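import Cfsg.Agent.Lib.PSpThree.SixLocal

/-!
# The quaternion group and the centralizers in the centralizer of the swap
-/

set_option autoImplicit false
set_option maxHeartbeats 1600000
set_option maxRecDepth 100000
set_option linter.unusedSectionVars false
set_option linter.style.haveILetI false

namespace Cfsg.Lib.PSpThree

open Subgroup Cfsg.Lib.SymNine Equiv

namespace SData

variable {G : Type*} [Group G] [Finite G] (T : SData G)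

theorem Q_comm_a {q : G} (hq : q ∈ T.Q) : q * T.v 13 = T.v 13 * q := hq.1

theorem Q_comm_i {q : G} (hq : q ∈ T.Q) : q * T.i = T.i * q := hq.2.1

theorem Q_four {q : G} (hq : q ∈ T.Q) : q ^ 4 = 1 := hq.2.2

theorem Q_C {q : G} (hq : q ∈ T.Q) : q ∈ T.S.D.C := T.mem_C.2 hq.1

theorem i_mem_Q : T.i ∈ T.Q :=
  ⟨T.a_comm_i.symm, rfl, by rw [show (4 : ℕ) = 2 * 2 by rfl, pow_mul, pow_two T.i, T.i_sq, one_pow]⟩

theorem π_four {q : G} (hq : q ∈ T.Q) : T.S.D.π ⟨q, T.Q_C hq⟩ ^ 4 = 1 := by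
  rw [← map_pow, show (⟨q, T.Q_C hq⟩ : T.S.D.C) ^ 4 = 1 from Subtype.ext (by simpa using T.Q_four hq), map_one]

theorem π_Q_inj {q r : G} (hq : q ∈ T.Q) (hr : r ∈ T.Q)
    (h : T.S.D.π ⟨q, T.Q_C hq⟩ = T.S.D.π ⟨r, T.Q_C hr⟩) : q = r := by
  have hm := mul_mem (inv_mem hq) hr
  have h1 : T.S.D.π ⟨q⁻¹ * r, T.Q_C hm⟩ = 1 := by
    rw [show (⟨q⁻¹ * r, T.Q_C hm⟩ : T.S.D.C) = ⟨q, T.Q_C hq⟩⁻¹ * ⟨r, T.Q_C hr⟩ from rfl, map_mul, map_inv, h,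
      inv_mul_cancel]
  have h4 := T.Q_four hm
  have h3 : T.v 13 ^ 3 = 1 := T.S.F.v_cube 13
  refine inv_mul_eq_one.1 ?_
  rcases T.ker_i _ (T.Q_comm_i hm) h1 with e | e | e
  · exact e
  · rw [e, show (4 : ℕ) = 3 + 1 by rfl, pow_succ, h3, one_mul] at h4
    rw [e, h4]
  · rw [e] at h4 ⊢
    rw [show T.v 13 * T.v 13 = T.v 13 ^ 2 from (pow_two _).symm, ← pow_mul, show 2 * 4 = 3 * 2 + 2 by rfl, pow_add,
      pow_mul, h3, one_pow, one_mul, pow_two] at h4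
    exact h4

/-- Lifts in the quaternion group. -/
theorem lift_Q {u : SL23} (hu : u ^ 4 = 1) : ∃ q, ∃ hq : q ∈ T.Q, T.S.D.π ⟨q, T.Q_C hq⟩ = u := by
  obtain ⟨g, hg, hgi, rfl⟩ := T.lift_i u
  have hga := T.mem_C.1 hg
  have h3 : (g ^ 4) ^ 3 = 1 := by
    have h1 : T.S.D.π ⟨g ^ 4, pow_mem hg 4⟩ = 1 := by
      rw [show (⟨g ^ 4, pow_mem hg 4⟩ : T.S.D.C) = ⟨g, hg⟩ ^ 4 from Subtype.ext (by simp), map_pow, hu]
    exact T.S.D.R_exp _ ((T.S.D.ker _).1 h1)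
  have hq : g ^ 9 ∈ T.Q :=
    ⟨((show Commute g (T.v 13) from hga).pow_left 9).eq, ((show Commute g T.i from hgi).pow_left 9).eq,
      by rw [← pow_mul, show 9 * 4 = 4 * 3 * 3 by rfl, pow_mul, pow_mul, h3, one_pow]⟩
  refine ⟨g ^ 9, hq, ?_⟩
  rw [show (⟨g ^ 9, T.Q_C hq⟩ : T.S.D.C) = ⟨g, hg⟩ ^ 9 from Subtype.ext (by simp), map_pow,
    show 9 = 4 * 2 + 1 by rfl, pow_succ, pow_mul, hu, one_pow, one_mul]

theorem Q_card : Nat.card T.Q = 8 := by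
  rw [← sl_quat.2.2.2.2.2.1, ← Fintype.card_subtype, ← Nat.card_eq_fintype_card]
  refine Nat.card_eq_of_bijective (fun q : T.Q =>
    (⟨T.S.D.π ⟨q, T.Q_C q.2⟩, T.π_four q.2⟩ : {u : SL23 // u ^ 4 = 1})) ⟨fun q r e => ?_, fun u => ?_⟩
  · exact Subtype.ext (T.π_Q_inj q.2 r.2 (congrArg Subtype.val e))
  · obtain ⟨q, hq, e⟩ := T.lift_Q u.2
    exact ⟨⟨q, hq⟩, Subtype.ext e⟩

theorem π_i_Q : T.S.D.π ⟨T.i, T.Q_C T.i_mem_Q⟩ = -1 := T.π_i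

theorem Q_invol {q : G} (hq : q ∈ T.Q) (h2 : q * q = 1) : q = 1 ∨ q = T.i := by
  have h : T.S.D.π ⟨q, T.Q_C hq⟩ * T.S.D.π ⟨q, T.Q_C hq⟩ = 1 := by
    rw [← map_mul, show (⟨q, T.Q_C hq⟩ : T.S.D.C) * ⟨q, T.Q_C hq⟩ = 1 from Subtype.ext h2, map_one]
  rcases sl_quat.2.1 _ h with e | e
  · refine Or.inl (T.π_Q_inj hq (one_mem _) (e.trans ?_))
    exact (map_one T.S.D.π).symm
  · exact Or.inr (T.π_Q_inj hq T.i_mem_Q (e.trans T.π_i_Q.symm))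

theorem Q_sq {q : G} (hq : q ∈ T.Q) (h1 : q ≠ 1) (hi : q ≠ T.i) : q * q = T.i := by
  have hqq : q * q ∈ T.Q := mul_mem hq hq
  refine (T.Q_invol hqq ?_).resolve_left fun e => (T.Q_invol hq e).elim h1 hi
  rw [← pow_two, ← pow_two, ← pow_mul]
  exact T.Q_four hq

theorem e3_C : T.v 1 ∈ T.S.D.C := T.mem_C.2 (T.v_comm 1 13)

theorem π_e3 : T.S.D.π ⟨T.v 1, T.e3_C⟩ * T.S.D.π ⟨T.v 1, T.e3_C⟩ * T.S.D.π ⟨T.v 1, T.e3_C⟩ = 1 ∧
    T.S.D.π ⟨T.v 1, T.e3_C⟩ ≠ 1 := by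
  refine ⟨?_, fun e => ?_⟩
  · rw [← map_mul, ← map_mul, show (⟨T.v 1, T.e3_C⟩ : T.S.D.C) * ⟨T.v 1, T.e3_C⟩ * ⟨T.v 1, T.e3_C⟩ = 1 from
      Subtype.ext (by show T.v 1 * T.v 1 * T.v 1 = 1; rw [← pow_two, ← pow_succ]; exact T.S.F.v_cube 1), map_one]
  · have h := T.S.v_mem_R_sum ((T.S.D.ker _).1 e)
    rw [plane_i_facts.2.2.2.2.2.2.2.1] at h
    exact Bool.false_ne_true h

theorem P_Q {x q : G} (hx : x ∈ T.P) (hq : q ∈ T.Q) : x * q * x⁻¹ ∈ T.Q := by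
  obtain ⟨c, hc, rfl⟩ := hx
  have ha : Commute (T.v c) (T.v 13) := T.v_comm c 13
  have hi : Commute (T.v c) T.i := T.v_comm_i.2 hc
  exact ⟨((ha.mul_left (show Commute q (T.v 13) from hq.1)).mul_left ha.inv_left).eq,
    ((hi.mul_left (show Commute q T.i from hq.2.1)).mul_left hi.inv_left).eq,
    by rw [conj_pow, hq.2.2]; group⟩

theorem e3_Q {q : G} (hq : q ∈ T.Q) : T.v 1 * q * (T.v 1)⁻¹ ∈ T.Q := T.P_Q T.e3_mem_P hq

theorem π_e3_conj {q : G} (hq : q ∈ T.Q) : T.S.D.π ⟨T.v 1 * q * (T.v 1)⁻¹, T.Q_C (T.e3_Q hq)⟩ =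
    T.S.D.π ⟨T.v 1, T.e3_C⟩ * T.S.D.π ⟨q, T.Q_C hq⟩ * (T.S.D.π ⟨T.v 1, T.e3_C⟩)⁻¹ := by
  rw [← map_inv, ← map_mul, ← map_mul]
  rfl

theorem π_sq_ne {q : G} (hq : q ∈ T.Q) (h1 : q ≠ 1) (hi : q ≠ T.i) :
    T.S.D.π ⟨q, T.Q_C hq⟩ * T.S.D.π ⟨q, T.Q_C hq⟩ ≠ 1 := fun e => by
  have hqq : q * q ∈ T.Q := mul_mem hq hq
  refine T.i_ne ((T.Q_sq hq h1 hi).symm.trans (T.π_Q_inj hqq (one_mem _) ?_))
  rw [show (⟨q * q, T.Q_C hqq⟩ : T.S.D.C) = ⟨q, T.Q_C hq⟩ * ⟨q, T.Q_C hq⟩ from rfl, map_mul, e]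
  exact (map_one T.S.D.π).symm

/-- The axis element moves every element of order four. -/
theorem e3_moves {q : G} (hq : q ∈ T.Q) (h1 : q ≠ 1) (hi : q ≠ T.i) :
    T.v 1 * q * (T.v 1)⁻¹ ≠ q ∧ T.v 1 * q * (T.v 1)⁻¹ ≠ q * T.i := by
  obtain ⟨x3, x1⟩ := T.π_e3
  obtain ⟨ha, hb⟩ := sl_quat.2.2.2.2.1 _ _ x3 x1 (T.π_four hq) (T.π_sq_ne hq h1 hi)
  refine ⟨fun e => ha ?_, fun e => hb ?_⟩ <;> rw [← T.π_e3_conj hq]
  · exact congrArg T.S.D.π (Subtype.ext e)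
  · rw [show (⟨T.v 1 * q * (T.v 1)⁻¹, T.Q_C (T.e3_Q hq)⟩ : T.S.D.C) = ⟨q, T.Q_C hq⟩ * ⟨T.i, T.i_C⟩ from
      Subtype.ext e, map_mul, T.π_i, mul_neg, mul_one]

/-- An element of order four and its image under the axis element generate. -/
theorem Q_le {q : G} (hq : q ∈ T.Q) (h1 : q ≠ 1) (hi : q ≠ T.i) {W : Subgroup G} (hW : T.i ∈ W) (hqW : q ∈ W)
    (heW : T.v 1 * q * (T.v 1)⁻¹ ∈ W) : T.Q ≤ W := by
  obtain ⟨x3, x1⟩ := T.π_e3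
  intro r hr
  have key : ∀ w : G, w ∈ T.Q → w ∈ W → ∀ hw : w ∈ T.S.D.C, T.S.D.π ⟨r, T.Q_C hr⟩ = T.S.D.π ⟨w, hw⟩ → r ∈ W :=
    fun w hwQ hwW _ e => (T.π_Q_inj hr hwQ e).symm ▸ hwW
  have hneg : ∀ w : G, w ∈ T.Q → w ∈ W → ∀ hw : w ∈ T.S.D.C, T.S.D.π ⟨r, T.Q_C hr⟩ = -T.S.D.π ⟨w, hw⟩ → r ∈ W :=
    fun w hwQ hwW hw e => key (T.i * w) (mul_mem T.i_mem_Q hwQ) (mul_mem hW hwW) (mul_mem T.i_C hw) (e.trans (by
      rw [show (⟨T.i * w, mul_mem T.i_C hw⟩ : T.S.D.C) = ⟨T.i, T.i_C⟩ * ⟨w, hw⟩ from rfl, map_mul, T.π_i,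
        neg_one_mul]))
  have he := T.e3_Q hq
  rcases sl_quat.2.2.2.2.2.2 _ _ _ x3 x1 (T.π_four hq) (T.π_sq_ne hq h1 hi) (T.π_four hr) with
    e | e | e | e | e | e | e | e
  · exact key 1 (one_mem _) (one_mem _) (one_mem _) (e.trans (map_one T.S.D.π).symm)
  · exact key _ T.i_mem_Q hW T.i_C (e.trans T.π_i.symm)
  · exact key q hq hqW _ e
  · exact hneg q hq hqW _ e
  · exact key _ he heW _ (e.trans (T.π_e3_conj hq).symm)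
  · exact hneg _ he heW _ (e.trans (congrArg Neg.neg (T.π_e3_conj hq).symm))
  · refine key (q * (T.v 1 * q * (T.v 1)⁻¹)) (mul_mem hq he) (mul_mem hqW heW) (mul_mem (T.Q_C hq) (T.Q_C he)) ?_
    rw [e, ← T.π_e3_conj hq, ← map_mul]; rfl
  · refine hneg (q * (T.v 1 * q * (T.v 1)⁻¹)) (mul_mem hq he) (mul_mem hqW heW) (mul_mem (T.Q_C hq) (T.Q_C he)) ?_
    rw [e, ← T.π_e3_conj hq, ← map_mul]; rfl

/-- A subgroup invariant under the axis element meeting the quaternion group outside its centre contains it. -/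
theorem Q_le_of_inv {W : Subgroup G} (hW : T.i ∈ W) (hWe : ∀ w ∈ W, T.v 1 * w * (T.v 1)⁻¹ ∈ W) {q : G}
    (hq : q ∈ T.Q) (hqW : q ∈ W) (h1 : q ≠ 1) (hi : q ≠ T.i) : T.Q ≤ W :=
  T.Q_le hq h1 hi hW hqW (hWe q hqW)

/-- The centralizer of the central element and the swap. -/
theorem cent_a {g : G} (hga : g * T.v 13 = T.v 13 * g) (hgi : g * T.i = T.i * g) :
    ∃ q ∈ T.Q, ∃ k l : ℕ, g = q * (T.v 13 ^ k * T.v 1 ^ l) := by
  have hg := T.mem_C.2 hga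
  obtain ⟨x3, x1⟩ := T.π_e3
  obtain ⟨l, hl⟩ := sl_quat.2.2.2.1 _ (T.S.D.π ⟨g, hg⟩) x3
  obtain ⟨q, hq, hqπ⟩ := T.lift_Q (hl.resolve_left x1)
  set h := q⁻¹ * g * (T.v 1 ^ l.val)⁻¹ with hh
  have hhC : h ∈ T.S.D.C := mul_mem (mul_mem (inv_mem (T.Q_C hq)) hg) (inv_mem (pow_mem T.e3_C _))
  have h1 : T.S.D.π ⟨h, hhC⟩ = 1 := by
    rw [show (⟨h, hhC⟩ : T.S.D.C) = ⟨q, T.Q_C hq⟩⁻¹ * ⟨g, hg⟩ * (⟨T.v 1, T.e3_C⟩ ^ l.val)⁻¹ from
      Subtype.ext (by simp [hh]), map_mul, map_mul, map_inv, map_inv, map_pow, hqπ, mul_assoc, inv_mul_cancel]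
  have hhi : h * T.i = T.i * h :=
    (((show Commute q T.i from T.Q_comm_i hq).inv_left.mul_left (show Commute g T.i from hgi)).mul_left
      ((show Commute (T.v 1) T.i from T.e3_comm_i).pow_left l.val).inv_left).eq
  obtain ⟨k, hk⟩ : ∃ k : ℕ, h = T.v 13 ^ k := by
    rcases T.ker_i hhC hhi h1 with f | f | f
    exacts [⟨0, by rw [f, pow_zero]⟩, ⟨1, by rw [f, pow_one]⟩, ⟨2, by rw [f, pow_two]⟩]
  refine ⟨q, hq, k, l.val, ?_⟩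
  rw [← hk, hh]; group

/-- The conjugate of the quaternion group under the sign change. -/
noncomputable def Q' : Subgroup G := T.Q.map (MulAut.conj T.t).toMonoidHom

theorem mem_Q' {g : G} : g ∈ T.Q' ↔ T.t * g * T.t ∈ T.Q := by
  constructor
  · rintro ⟨q, hq, rfl⟩
    show T.t * (T.t * q * T.t⁻¹) * T.t ∈ T.Q
    rw [T.t_inv, show T.t * (T.t * q * T.t) * T.t = (T.t * T.t) * q * (T.t * T.t) by group, T.t_sq, one_mul, mul_one]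
    exact hq
  · intro h
    refine ⟨T.t * g * T.t, h, ?_⟩
    show T.t * (T.t * g * T.t) * T.t⁻¹ = g
    rw [T.t_inv, show T.t * (T.t * g * T.t) * T.t = (T.t * T.t) * g * (T.t * T.t) by group, T.t_sq, one_mul, mul_one]

theorem t_conj_mul (x y : G) : T.t * x * T.t * (T.t * y * T.t) = T.t * (x * y) * T.t := by
  rw [show T.t * x * T.t * (T.t * y * T.t) = T.t * x * (T.t * T.t) * y * T.t by group, T.t_sq, mul_one, mul_assoc T.t x y]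

theorem t_t (x : G) : T.t * (T.t * x * T.t) * T.t = x := by
  rw [show T.t * (T.t * x * T.t) * T.t = (T.t * T.t) * x * (T.t * T.t) by group, T.t_sq, one_mul, mul_one]

theorem t_i_t : T.t * T.i * T.t = T.i := by rw [T.t_comm_i, mul_assoc, T.t_sq, mul_one]

theorem cent_14 {g : G} (hga : g * T.v 14 = T.v 14 * g) (hgi : g * T.i = T.i * g) :
    ∃ q ∈ T.Q', ∃ k l : ℕ, g = q * (T.v 14 ^ k * (T.v 1)⁻¹ ^ l) := by
  obtain ⟨q, hq, k, l, e⟩ := T.cent_a (g := T.t * g * T.t)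
    (by
      have h13 : T.v 13 = T.t * T.v 14 * T.t := by rw [← T.t_a, T.t_t]
      rw [h13, T.t_conj_mul, T.t_conj_mul, hga])
    (by
      conv_lhs => rw [← T.t_i_t, T.t_conj_mul, hgi]
      conv_rhs => rw [← T.t_i_t, T.t_conj_mul])
  refine ⟨T.t * q * T.t, T.mem_Q'.2 (by rw [T.t_t]; exact hq), k, l, ?_⟩
  have hpow : ∀ (x : G) (n : ℕ), T.t * x ^ n * T.t = (T.t * x * T.t) ^ n := fun x n => by
    have := conj_pow (i := n) (a := T.t) (b := x)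
    rw [T.t_inv] at this
    exact this.symm
  rw [← T.t_t g, e, ← T.t_a, ← T.t_e3, ← hpow, ← hpow, T.t_conj_mul, T.t_conj_mul]

/-- The centralizer of the axis and the swap. -/
theorem cent_e3 {g : G} (hge : g * T.v 1 = T.v 1 * g) (hgi : g * T.i = T.i * g) :
    ∃ l : ℕ, ∃ σ, σ * SixP.t0 = SixP.t0 * σ ∧ g = T.v 1 ^ l * T.φ σ := by
  obtain ⟨j, hj, σ, rfl⟩ := T.K.exists_eq g hge
  obtain ⟨l, hl⟩ : ∃ l : ℕ, T.v j = T.v 1 ^ l := by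
    simp only [mult, List.mem_cons, List.not_mem_nil, or_false] at hj
    rcases hj with rfl | rfl | rfl
    · exact ⟨0, by rw [pow_zero]; exact T.S.F.v0⟩
    · exact ⟨1, by rw [pow_one]⟩
    · exact ⟨2, T.S.F.v_smul (by norm_num) 1⟩
  refine ⟨l, σ, T.K.inj ?_, by rw [← hl]⟩
  have h1 : Commute (T.v j) T.i := by rw [hl]; exact (show Commute (T.v 1) T.i from T.e3_comm_i).pow_left l
  have h2 := h1.inv_left.mul_left (show Commute (T.v j * T.φ σ) T.i from hgi)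
  rw [inv_mul_cancel_left, T.i_eq] at h2
  rw [map_mul, map_mul]
  exact h2.eq

/-- The centralizer of the weight two element and the swap. -/
theorem cent_12 {g : G} (hg : g * T.v 12 = T.v 12 * g) (hgi : g * T.i = T.i * g) :
    ∃ x ∈ T.P, ∃ m, (m = 1 ∨ m = T.t ∨ m = T.t * T.i ∨ m = T.i) ∧ g = x * m := by
  obtain ⟨-, -, -, f4, -, -, -, -, -, -, f11, f12, -, -, f15, f16⟩ := plane_i_facts
  have hN := T.D.isCase.cent_le_of_small (by decide) f12 (Or.inr f11) hg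
  obtain ⟨c, s, k, e, hk⟩ := T.D.exists_eq hN
  have hfix : act s k 12 = 12 := T.S.F.vinj (by
    rw [← Frame.actsAs_act hk, hg, mul_inv_cancel_right])
  have hi' : ∀ d, T.i * T.v d * T.i⁻¹ = T.v (act 0 2 d) := fun d => T.w_conj d
  have hcomm : sComp s k 0 = sComp 0 2 s ∧ kmul k 2 = kmul 2 k := by
    have h1 := hk.comp (T.D.w_spec 0 2).2.1
    have h2 := (T.D.w_spec 0 2).2.1.comp hk
    rw [hgi] at h1
    exact T.S.F.actsAs_unique h1 h2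
  obtain ⟨m, hm, hwm⟩ : ∃ m, (m = 1 ∨ m = T.t ∨ m = T.t * T.i ∨ m = T.i) ∧ T.D.w s k = m := by
    rcases f15 s k hfix hcomm.1 hcomm.2 with e | e | e | e <;> obtain ⟨rfl, rfl⟩ := Prod.ext_iff.1 e
    · exact ⟨1, Or.inl rfl, T.D.w_one⟩
    · exact ⟨_, Or.inr (Or.inl rfl), rfl⟩
    · refine ⟨_, Or.inr (Or.inr (Or.inl rfl)), ?_⟩
      show _ = T.D.w 1 0 * T.D.w 0 2
      rw [T.D.w_mul, f16, show kmul 0 2 = 2 by decide +kernel]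
    · exact ⟨_, Or.inr (Or.inr (Or.inr rfl)), rfl⟩
  rw [hwm] at e
  refine ⟨T.v c, ⟨c, T.v_comm_i.1 ?_, rfl⟩, m, hm, e⟩
  have hmi : Commute m T.i := by
    rcases hm with rfl | rfl | rfl | rfl
    exacts [Commute.one_left _, T.t_comm_i, (show Commute T.t T.i from T.t_comm_i).mul_left (Commute.refl _), Commute.refl _]
  have h := (show Commute g T.i from hgi).mul_left hmi.inv_left
  rw [e, mul_inv_cancel_right] at h
  exact h.eq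

end SData

end Cfsg.Lib.PSpThree
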