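import Cfsg.Agent.Lib.PSpThree.SixPair
import Mathlib.GroupTheory.Coxeter.Basic

/-!
# A split axis centralizer: reflections of type E₇

The symmetric groups of two axes share a symmetric group of degree three; two disjoint transpositions are
centralised only with the third, which gives the missing relations of type E₇.
-/

set_option autoImplicit false
set_option maxHeartbeats 1600000
set_option maxRecDepth 100000
set_option linter.unusedSectionVars false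
set_option linter.style.haveILetI false
set_option synthInstance.maxSize 5000

namespace Cfsg.Lib.PSpThree

open Subgroup Cfsg.Lib.SymNine Equiv

theorem refl_facts :
    sComp 0 1 4 = sComp 4 0 0 ∧ sComp 0 1 2 = sComp 1 0 0 ∧ sComp 0 1 1 = sComp 2 0 0 ∧ kmul 1 0 = kmul 0 1 ∧
    (∀ c, (c = 9 → act 0 1 c = 9) ∧ (c = 1 → act 0 1 c = 3) ∧ (c = 3 → act 0 1 c = 1)) ∧
    (∃ k : Fin 3, SixP.a0 ^ k.val * swap 1 2 * (SixP.a0 ^ k.val)⁻¹ = swap 0 1) ∧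
    (∃ k : Fin 3, SixP.a0 ^ k.val * swap 1 2 * (SixP.a0 ^ k.val)⁻¹ = swap 0 2) ∧
    (∃ k : Fin 3, SixP.b0 ^ k.val * swap 4 5 * (SixP.b0 ^ k.val)⁻¹ = swap 3 4) ∧
    (∃ ρ : Perm (Fin 6), ρ * swap 1 2 = swap 0 3 * ρ ∧ ρ * swap 4 5 = swap 1 4 * ρ ∧
      ρ * swap 0 3 = swap 2 5 * ρ) := by
  refine ⟨?_, ?_, ?_, ?_, ?_, ?_, ?_, ?_, ?_⟩ <;> decide +kernel

theorem six_perm_facts :
    (∀ σ : Perm (Fin 6), σ * swap 0 3 = swap 0 3 * σ → σ * swap 4 5 = swap 4 5 * σ → σ * σ = 1 → σ ≠ 1 →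
      (σ = swap 0 3 ∨ σ = swap 4 5 ∨ σ = swap 1 2) ∨ (∃ ρ : Perm (Fin 6), ρ * σ = swap 1 2 * swap 4 5 * ρ) ∨
        ∃ ρ : Perm (Fin 6), ρ * σ = SixP.t0 * ρ) ∧
    (swap 0 2 * swap 1 3 : Perm (Fin 6)) = swap 1 3 * swap 0 2 ∧
    (swap 0 2 * swap 3 4 : Perm (Fin 6)) = swap 3 4 * swap 0 2 ∧
    (swap 0 2 * swap 4 5 : Perm (Fin 6)) = swap 4 5 * swap 0 2 ∧
    (swap 1 3 * swap 4 5 : Perm (Fin 6)) = swap 4 5 * swap 1 3 ∧
    (swap 3 4 * swap 0 5 : Perm (Fin 6)) = swap 0 5 * swap 3 4 ∧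
    (swap 0 5 * swap 1 2 : Perm (Fin 6)) = swap 1 2 * swap 0 5 ∧
    (swap 1 3 * swap 3 4 : Perm (Fin 6)) ^ 3 = 1 ∧ (swap 3 4 * swap 4 5 : Perm (Fin 6)) ^ 3 = 1 ∧
    (swap 4 5 * swap 0 5 : Perm (Fin 6)) ^ 3 = 1 ∧ (swap 0 2 * swap 0 5 : Perm (Fin 6)) ^ 3 = 1 ∧
    (swap 0 1 * swap 0 5 : Perm (Fin 6)) ^ 3 = 1 ∧
    (swap 0 3 * swap 0 1 * swap 0 3 : Perm (Fin 6)) = swap 1 3 ∧
    (SixP.a0 * SixP.b0 : Perm (Fin 6)) = SixP.b0 * SixP.a0 := by
  refine ⟨?_, ?_, ?_, ?_, ?_, ?_, ?_, ?_, ?_, ?_, ?_, ?_, ?_, ?_⟩ <;> decide +kernel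

namespace SData

variable {G : Type*} [Group G] [Finite G] (T : SData G)

/-- The exchange of two axes. -/
noncomputable abbrev n : G := T.D.w 0 1

/-- The symmetric group of the second axis. -/
noncomputable def ψ : Perm (Fin 6) →* G := (MulAut.conj T.n).toMonoidHom.comp T.φ

theorem ψ_apply (σ : Perm (Fin 6)) : T.ψ σ = T.n * T.φ σ * T.n⁻¹ := rfl

theorem ψ_12 : T.ψ (swap 1 2) = T.φ (swap 1 2) := by
  obtain ⟨q, -, -, q', -⟩ := refl_facts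
  rw [T.ψ_apply, T.t_a_eq, mul_inv_eq_iff_eq_mul, n, T.D.w_mul, T.D.w_mul, q, q']

theorem ψ_45 : T.ψ (swap 4 5) = T.t := by
  obtain ⟨-, q, -, q', -⟩ := refl_facts
  rw [T.ψ_apply, T.t_b_eq, mul_inv_eq_iff_eq_mul, n, t, T.D.w_mul, T.D.w_mul, q, q']

theorem n_t : T.n * T.t * T.n⁻¹ = T.φ (swap 4 5) := by
  obtain ⟨-, -, q, q', -⟩ := refl_facts
  rw [T.t_b_eq, mul_inv_eq_iff_eq_mul, n, t, T.D.w_mul, T.D.w_mul, q, q']

theorem n_v9 : T.n * T.v 9 * T.n⁻¹ = T.v 9 := by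
  rw [T.w_conj, (refl_facts.2.2.2.2.1 9).1 rfl]

theorem n_v1 : T.n * T.v 1 * T.n⁻¹ = T.v 3 := by
  rw [T.w_conj, (refl_facts.2.2.2.2.1 1).2.1 rfl]

theorem n_v3 : T.n * T.v 3 * T.n⁻¹ = T.v 1 := by
  rw [T.w_conj, (refl_facts.2.2.2.2.1 3).2.2 rfl]

theorem ψ_a0 : T.ψ SixP.a0 = T.φ SixP.a0 := by
  rw [T.ψ_apply, T.K.map_a]; exact T.n_v9

theorem ψ_b0 : T.ψ SixP.b0 = T.v 1 := by
  rw [T.ψ_apply, T.K.map_b]; exact T.n_v3

theorem ψ_01 : T.ψ (swap 0 1) = T.φ (swap 0 1) := by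
  obtain ⟨-, -, -, -, -, ⟨k, hk⟩, -⟩ := refl_facts
  rw [← hk, map_mul, map_mul, map_inv, map_pow, T.ψ_a0, T.ψ_12, map_mul, map_mul, map_inv, map_pow]

theorem ψ_02 : T.ψ (swap 0 2) = T.φ (swap 0 2) := by
  obtain ⟨-, -, -, -, -, -, ⟨k, hk⟩, -⟩ := refl_facts
  rw [← hk, map_mul, map_mul, map_inv, map_pow, T.ψ_a0, T.ψ_12, map_mul, map_mul, map_inv, map_pow]

theorem ψ_comm_v3 (σ : Perm (Fin 6)) : T.ψ σ * T.v 3 = T.v 3 * T.ψ σ := by
  rw [T.ψ_apply, ← T.n_v1,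
    show ∀ x y : G, T.n * x * T.n⁻¹ * (T.n * y * T.n⁻¹) = T.n * (x * y) * T.n⁻¹ from fun x y => by group,
    show ∀ x y : G, T.n * x * T.n⁻¹ * (T.n * y * T.n⁻¹) = T.n * (x * y) * T.n⁻¹ from fun x y => by group,
    T.φ_comm_e3]

theorem ψ_comm_45 (σ : Perm (Fin 6)) : T.ψ σ * T.φ (swap 4 5) = T.φ (swap 4 5) * T.ψ σ := by
  rw [T.ψ_apply, ← T.n_t,
    show ∀ x y : G, T.n * x * T.n⁻¹ * (T.n * y * T.n⁻¹) = T.n * (x * y) * T.n⁻¹ from fun x y => by group,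
    show ∀ x y : G, T.n * x * T.n⁻¹ * (T.n * y * T.n⁻¹) = T.n * (x * y) * T.n⁻¹ from fun x y => by group,
    T.φ_comm_t]

/-- The transposition of the last coordinates of the second axis commutes with the first group. -/
theorem ψ_34_comm (σ : Perm (Fin 6)) : Commute (T.ψ (swap 3 4)) (T.φ σ) := by
  obtain ⟨-, -, -, -, -, -, -, ⟨k, hk⟩, -⟩ := refl_facts
  rw [← hk, map_mul, map_mul, map_inv, map_pow, T.ψ_b0, T.ψ_45]
  have h1 : Commute (T.v 1 ^ k.val) (T.φ σ) := ((show Commute (T.φ σ) (T.v 1) from T.φ_comm_e3 σ).symm).pow_left _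
  exact (h1.mul_left (show Commute T.t (T.φ σ) from (T.φ_comm_t σ).symm)).mul_left h1.inv_left

/-- The transposition of the last coordinates of the first axis commutes with the second group. -/
theorem φ_34_comm (σ : Perm (Fin 6)) : Commute (T.ψ σ) (T.φ (swap 3 4)) := by
  obtain ⟨-, -, -, -, -, -, -, ⟨k, hk⟩, -⟩ := refl_facts
  rw [← hk, map_mul, map_mul, map_inv, map_pow, T.K.map_b]
  have h1 : Commute (T.ψ σ) (T.v 3 ^ k.val) := (show Commute (T.ψ σ) (T.v 3) from T.ψ_comm_v3 σ).pow_right _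
  exact (h1.mul_right (show Commute (T.ψ σ) _ from T.ψ_comm_45 σ)).mul_right h1.inv_right

/-- Centralising two disjoint transpositions, centralising the third. -/
theorem cent_third {g : G} (h12 : Commute g (T.φ (swap 1 2))) (h45 : Commute g (T.φ (swap 4 5))) :
    Commute g (T.φ (swap 0 3)) := by
  obtain ⟨-, -, -, -, -, -, -, -, ρ, h1, h2, h3⟩ := refl_facts
  have hc : ∀ {σ τ : Perm (Fin 6)}, ρ * σ = τ * ρ → Commute g (T.φ σ) →
      Commute (T.φ ρ * g * (T.φ ρ)⁻¹) (T.φ τ) := fun {σ τ} h hg => by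
    rw [← T.φ_conj h]
    show T.φ ρ * g * (T.φ ρ)⁻¹ * (T.φ ρ * T.φ σ * (T.φ ρ)⁻¹) = T.φ ρ * T.φ σ * (T.φ ρ)⁻¹ * (T.φ ρ * g * (T.φ ρ)⁻¹)
    calc T.φ ρ * g * (T.φ ρ)⁻¹ * (T.φ ρ * T.φ σ * (T.φ ρ)⁻¹) = T.φ ρ * (g * T.φ σ) * (T.φ ρ)⁻¹ := by group
      _ = _ := by rw [hg.eq]; group
  have h := T.modC_E_comm (T.X₂_modC (T.mem_X₂.2 ⟨(hc h1 h12).eq, (hc h2 h45).eq⟩))
    (T.φ_mem_E (σ := swap 2 5) inE_facts.2.2.2.1)
  rw [← T.φ_conj h3] at h
  show g * T.φ (swap 0 3) = T.φ (swap 0 3) * g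
  calc g * T.φ (swap 0 3)
      = (T.φ ρ)⁻¹ * (T.φ ρ * g * (T.φ ρ)⁻¹ * (T.φ ρ * T.φ (swap 0 3) * (T.φ ρ)⁻¹)) * T.φ ρ := by group
    _ = _ := by rw [h]; group

/-- The reflections. -/
noncomputable def refl : Fin 7 → G :=
  ![T.ψ (swap 3 4), T.φ (swap 0 2), T.t, T.ψ (swap 0 5), T.φ (swap 1 3), T.φ (swap 3 4), T.φ (swap 4 5)]

theorem refl_sq (i : Fin 7) : T.refl i * T.refl i = 1 := by
  have hφ : ∀ a b : Fin 6, T.φ (swap a b) * T.φ (swap a b) = 1 := fun a b => by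
    rw [← map_mul, swap_mul_self, map_one]
  have hψ : ∀ a b : Fin 6, T.ψ (swap a b) * T.ψ (swap a b) = 1 := fun a b => by
    rw [← map_mul, swap_mul_self, map_one]
  fin_cases i
  exacts [hψ _ _, hφ _ _, T.t_sq, hψ _ _, hφ _ _, hφ _ _, hφ _ _]

theorem braid_refl {x y : G} (hx : x * x = 1) (hy : y * y = 1) (h : (x * y) ^ 3 = 1) : (y * x) ^ 3 = 1 := by
  have e : y * x = (x * y)⁻¹ := by
    rw [mul_inv_rev, inv_eq_of_mul_eq_one_right hx, inv_eq_of_mul_eq_one_right hy]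
  rw [e, inv_pow, h, inv_one]

theorem refl_liftable : CoxeterMatrix.IsLiftable CoxeterMatrix.E₇ T.refl := by
  obtain ⟨-, f13', f34', f45', f135, p345, p512, b1334, b3445, b45, b25, b15, c13, -⟩ := six_perm_facts
  have hcomm : ∀ {x y : G}, x * x = 1 → y * y = 1 → Commute x y → (x * y) ^ 2 = 1 := fun {x y} hx hy h => by
    rw [h.mul_pow, pow_two, pow_two, hx, hy, one_mul]
  have hφφ : ∀ {σ τ : Perm (Fin 6)}, σ * τ = τ * σ → Commute (T.φ σ) (T.φ τ) := fun {σ τ} h => by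
    show T.φ σ * T.φ τ = T.φ τ * T.φ σ
    rw [← map_mul, ← map_mul, h]
  have hb : ∀ {f : Perm (Fin 6) →* G} {σ τ : Perm (Fin 6)}, (σ * τ) ^ 3 = 1 → (f σ * f τ) ^ 3 = 1 :=
    fun {f σ τ} h => by rw [← map_mul, ← map_pow, h, map_one]
  -- the remaining relations
  have r03 : Commute (T.ψ (swap 3 4)) (T.ψ (swap 0 5)) := by
    show T.ψ _ * T.ψ _ = T.ψ _ * T.ψ _
    rw [← map_mul, ← map_mul, p345]
  have r02 : (T.ψ (swap 3 4) * T.t) ^ 3 = 1 := by rw [← T.ψ_45]; exact hb b3445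
  have r23 : (T.t * T.ψ (swap 0 5)) ^ 3 = 1 := by rw [← T.ψ_45]; exact hb b45
  have r13 : (T.φ (swap 0 2) * T.ψ (swap 0 5)) ^ 3 = 1 := by rw [← T.ψ_02]; exact hb b25
  have r36 : Commute (T.ψ (swap 0 5)) (T.φ (swap 4 5)) := T.ψ_comm_45 _
  have r34 : (T.ψ (swap 0 5) * T.φ (swap 1 3)) ^ 3 = 1 := by
    have hc12 : Commute (T.ψ (swap 0 5)) (T.φ (swap 1 2)) := by
      rw [← T.ψ_12]
      show T.ψ _ * T.ψ _ = T.ψ _ * T.ψ _
      rw [← map_mul, ← map_mul, p512]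
    have hc03 := T.cent_third hc12 r36
    have h01 : (T.φ (swap 0 1) * T.ψ (swap 0 5)) ^ 3 = 1 := by rw [← T.ψ_01]; exact hb b15
    have e : T.φ (swap 0 3) * (T.φ (swap 0 1) * T.ψ (swap 0 5)) * (T.φ (swap 0 3))⁻¹ =
        T.φ (swap 1 3) * T.ψ (swap 0 5) := by
      rw [← mul_assoc, mul_assoc _ (T.ψ (swap 0 5)), (hc03.inv_right).eq, ← mul_assoc, ← map_inv, swap_inv,
        ← map_mul, ← map_mul, c13]
    have h13 : (T.φ (swap 1 3) * T.ψ (swap 0 5)) ^ 3 = 1 := by rw [← e, conj_pow, h01, mul_one, mul_inv_cancel]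
    exact braid_refl (by rw [← map_mul, swap_mul_self, map_one]) (by rw [← map_mul, swap_mul_self, map_one]) h13
  have key : ∀ i j : Fin 7, i < j → (T.refl i * T.refl j) ^ CoxeterMatrix.E₇ i j = 1 := by
    intro i j hij
    have hs := T.refl_sq
    have hd := hcomm (hs i) (hs j)
    fin_cases i <;> fin_cases j <;> first
      | exact absurd hij (by decide)
      | skip
    exacts [hd (T.ψ_34_comm _), r02, hd r03, hd (T.ψ_34_comm _), hd (T.ψ_34_comm _), hd (T.ψ_34_comm _),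
      hd (T.φ_comm_t _), r13, hd (hφφ f13'), hd (hφφ f34'), hd (hφφ f45'),
      r23, hd ((show Commute (T.φ _) T.t from T.φ_comm_t _).symm),
      hd ((show Commute (T.φ _) T.t from T.φ_comm_t _).symm), hd ((show Commute (T.φ _) T.t from T.φ_comm_t _).symm),
      r34, hd (T.φ_34_comm _), hd r36,
      hb b1334, hd (hφφ f135),
      hb b3445]
  intro i j
  rcases lt_trichotomy i j with h | h | h
  · exact key i j h
  · subst h
    rw [CoxeterMatrix.diagonal, pow_one, T.refl_sq]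
  · have := key j i h
    rw [CoxeterMatrix.symmetric] at this
    have e : T.refl i * T.refl j = (T.refl j * T.refl i)⁻¹ := by
      rw [mul_inv_rev, inv_eq_of_mul_eq_one_right (T.refl_sq i), inv_eq_of_mul_eq_one_right (T.refl_sq j)]
    rw [e, inv_pow, this, inv_one]

/-- The homomorphism from the Coxeter group. -/
noncomputable def coxHom : CoxeterMatrix.E₇.Group →* G :=
  CoxeterMatrix.E₇.toCoxeterSystem.lift ⟨T.refl, T.refl_liftable⟩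

theorem coxHom_simple (i : Fin 7) : T.coxHom (CoxeterMatrix.E₇.simple i) = T.refl i := by
  rw [← CoxeterMatrix.toCoxeterSystem_simple]
  exact CoxeterMatrix.E₇.toCoxeterSystem.lift_apply_simple T.refl_liftable i

/-- The missing transposition is the third involution centralised by the second coordinate. -/
theorem eq_third {u : G} (hu3 : Commute u (T.v 3)) (ha : Commute u (T.ψ (swap 0 3))) (hb : Commute u T.t)
    (hut : ∃ g : G, g * T.t * g⁻¹ = u) (hne : u ≠ T.ψ (swap 0 3)) (hne' : u ≠ T.t) : u = T.φ (swap 1 2) := by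
  obtain ⟨g, hg⟩ := hut
  set u' := T.n⁻¹ * u * T.n with hu'
  have hconj : ∀ {x y : G}, T.n * y * T.n⁻¹ = x → Commute u x → Commute u' y := fun {x y} e h => by
    show T.n⁻¹ * u * T.n * y = y * (T.n⁻¹ * u * T.n)
    calc T.n⁻¹ * u * T.n * y = T.n⁻¹ * (u * (T.n * y * T.n⁻¹)) * T.n := by group
      _ = T.n⁻¹ * ((T.n * y * T.n⁻¹) * u) * T.n := by rw [e, h.eq]
      _ = _ := by group
  have h1 := hconj T.n_v1 hu3
  have h03 : Commute u' (T.φ (swap 0 3)) := hconj rfl ha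
  have h45 : Commute u' (T.φ (swap 4 5)) := hconj rfl (show Commute u (T.n * T.φ (swap 4 5) * T.n⁻¹) by
    rw [← T.ψ_apply, T.ψ_45]; exact hb)
  have hu2 : u' * u' = 1 := by
    rw [hu', show T.n⁻¹ * u * T.n * (T.n⁻¹ * u * T.n) = T.n⁻¹ * (u * u) * T.n by group, ← hg,
      show g * T.t * g⁻¹ * (g * T.t * g⁻¹) = g * (T.t * T.t) * g⁻¹ by group, T.t_sq]
    group
  obtain ⟨j, hj, σ, hσ⟩ := T.K.exists_eq u' h1.eq
  have hjc : ∀ π : Perm (Fin 6), Commute (T.v j) (T.φ π) := fun π => by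
    obtain ⟨m, hm⟩ : T.v j ∈ zpowers (T.v 1) := Frame.mem_zpowers_v.2 ⟨j, hj, rfl⟩
    rw [← hm]
    exact ((show Commute (T.φ π) (T.v 1) from T.φ_comm_e3 π).zpow_right m).symm
  have htj : T.t * T.v j * T.t = (T.v j)⁻¹ := by
    obtain ⟨m, hm⟩ : T.v j ∈ zpowers (T.v 1) := Frame.mem_zpowers_v.2 ⟨j, hj, rfl⟩
    rw [← hm]
    have := conj_zpow (i := m) (a := T.t) (b := T.v 1)
    rw [T.t_inv, T.t_e3, inv_zpow] at this
    exact this.symm
  have hj3 : T.v j ^ 3 = 1 := T.S.F.v_cube j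
  have hvj : T.v j = 1 := by
    rw [hσ, ← pow_two, (hjc σ).mul_pow] at hu2
    have e : T.v j ^ 2 = (T.φ (σ ^ 2))⁻¹ := by rw [map_pow]; exact eq_inv_of_mul_eq_one_left hu2
    have h2 : T.t * T.v j ^ 2 * T.t = T.v j ^ 2 := by
      rw [e, ← map_inv, ← T.φ_comm_t, mul_assoc, T.t_sq, mul_one]
    have h3 := conj_pow (i := 2) (a := T.t) (b := T.v j)
    rw [T.t_inv, htj, inv_pow, h2] at h3
    rw [pow_succ] at hj3
    nth_rewrite 1 [← h3] at hj3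
    rw [← mul_eq_one_iff_inv_eq'] at h3
    have h4 : T.v j ^ 2 * T.v j ^ 2 = 1 := by
      rw [mul_eq_one_iff_inv_eq] at h3 ⊢
      exact h3
    have h5 : T.v j ^ 3 = 1 := T.S.F.v_cube j
    rwa [← pow_add, show 2 + 2 = 3 + 1 by rfl, pow_add, h5, one_mul, pow_one] at h4
  rw [show T.S.F.v j = 1 from hvj, one_mul] at hσ
  change u' = T.φ σ at hσ
  have hback : u = T.ψ σ := by rw [T.ψ_apply, ← hσ, hu']; group
  have hσc : ∀ {π : Perm (Fin 6)}, Commute u' (T.φ π) → σ * π = π * σ := fun {π} h => by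
    refine T.K.inj ?_
    rw [map_mul, map_mul, ← hσ]
    exact h.eq
  have hσ2 : σ * σ = 1 := T.K.inj (by rw [map_mul, map_one, ← hσ, hu2])
  have hσ1 : σ ≠ 1 := fun e => by
    rw [hback, e, map_one, conj_eq_one_iff] at hg
    exact T.D.w_ne_one (s := 1) (k := 0) (by decide) hg
  have hcls : ∀ {τ : Perm (Fin 6)} {ρ : Perm (Fin 6)}, ρ * σ = τ * ρ → ∃ w : G, w * T.t * w⁻¹ = T.φ τ := by
    intro τ ρ h
    refine ⟨T.φ ρ * T.n⁻¹ * g, ?_⟩
    rw [← T.φ_conj h, ← hσ, hu', ← hg]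
    group
  rcases six_perm_facts.1 σ (hσc h03) (hσc h45) hσ2 hσ1 with (e | e | e) | ⟨ρ, hρ⟩ | ⟨ρ, hρ⟩
  · exact absurd (e ▸ hback) hne
  · rw [e, T.ψ_45] at hback
    exact absurd hback hne'
  · rw [hback, e, T.ψ_12]
  · obtain ⟨w, hw⟩ := hcls hρ
    exact absurd (hw.trans T.K.z_eq) (T.t_not_z w)
  · obtain ⟨w, hw⟩ := hcls hρ
    rw [← T.i_eq] at hw
    exact absurd hw (T.t_not_i w)

end SData

end Cfsg.Lib.PSpThree
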