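import Cfsg.Agent.Lib.PSpThree.SixFusion

/-!
# A split axis centralizer: the transvections of the symplectic subgroup

The conjugates of the sign change inside the subgroup are the sixty-three transvections; only two of them stay
in the class when multiplied by the product of two disjoint transpositions.
-/

set_option autoImplicit false
set_option maxHeartbeats 1600000
set_option maxRecDepth 100000
set_option linter.unusedSectionVars false
set_option linter.style.haveILetI false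
set_option synthInstance.maxSize 5000

namespace Cfsg.Lib.PSpThree

open Subgroup Cfsg.Lib.SymNine Equiv SpSeven

namespace SpSeven

/-- A word for a transvection. -/
def tvW (w : ℕ) : List (Fin 7) :=
  (orbWord.getD w ([], 0)).1 ++ (orbWord.getD w ([], 0)).2 :: (orbWord.getD w ([], 0)).1.reverse

/-- A transvection on labels. -/
def tvN (w x : ℕ) : ℕ := if bB x w then Nat.xor (x + 1) (w + 1) - 1 else x

theorem tvN_ok : ∀ w x : Fin 63, tvN w x = (Cfsg.Lib.SpSix.tvVec w x : ℕ) := by decide +kernel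

theorem tvW_img (w x : Fin 63) : wImg (tvW w) x = tvN w x := (orb_table w x).trans (tvN_ok w x).symm

theorem tvN_conj : ∀ i : Fin 7, ∀ w x : Fin 63, sImg i (tvN w (sImg i x)) = tvN (sImg i w) x := by decide +kernel

theorem tvW_facts :
    (∀ i : Fin 7, ∀ w : Fin 63, sImg i w < 63) ∧ (∀ x : Fin 63, tvN 7 x = wImg [2] x) ∧
    (∀ x : Fin 63, tvN 19 x = wImg ([4, 1] ++ uW ++ [1, 4]) x) ∧ (∀ x : Fin 63, tvN 37 x = wImg [4, 5, 4] x) ∧
    (∀ w : Fin 63, fixN (tvW w ++ ([4, 1] ++ uW ++ [1, 4] ++ [4, 5, 4])) = 31 → w = 19 ∨ w = 37) ∧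
    fixN (repW 0) = 31 := by
  refine ⟨?_, ?_, ?_, ?_, ?_, ?_⟩ <;> decide +kernel

end SpSeven

/-- A word for the first transposition of the pair. -/
def sW : List (Fin 7) := [4, 1] ++ uW ++ [1, 4]

/-- A word for the second transposition of the pair. -/
def sW' : List (Fin 7) := [4, 5, 4]

theorem pair_perm_facts :
    (swap 0 3 : Perm (Fin 6)) = swap 1 3 * (swap 0 2 * swap 1 2 * swap 0 2) * swap 1 3 ∧
    (swap 1 4 : Perm (Fin 6)) = swap 1 3 * swap 3 4 * swap 1 3 := by
  refine ⟨?_, ?_⟩ <;> decide +kernel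

namespace SData

variable {G : Type*} [Group G] [Finite G] (T : SData G)

theorem wd_sW : T.wd sW = T.φ (swap 0 3) := by
  rw [pair_perm_facts.1]
  simp only [sW, T.wd_append, T.wd_cons, T.wd_nil, T.wd_uW, mul_one, map_mul, refl, mul_assoc, Matrix.cons_val]

theorem wd_sW' : T.wd sW' = T.φ (swap 1 4) := by
  rw [pair_perm_facts.2]
  simp only [sW', T.wd_cons, T.wd_nil, mul_one, map_mul, refl, mul_assoc, Matrix.cons_val]

theorem refl_tv (i : Fin 7) (w : Fin 63) :
    T.refl i * T.wd (tvW w) * T.refl i = T.wd (tvW (⟨sImg i w, tvW_facts.1 i w⟩ : Fin 63)) := by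
  rw [← T.wd_single, ← T.wd_append, ← T.wd_append]
  refine T.wd_eq' fun x => ?_
  obtain ⟨y, hy⟩ : ∃ y : Fin 63, (y : ℕ) = sImg i x := ⟨⟨_, tvW_facts.1 i x⟩, rfl⟩
  rw [tvW_img, show wImg ([i] ++ tvW w ++ [i]) x = sImg i (wImg (tvW w) (sImg i x)) by
    simp [wImg, List.foldr_append], ← hy, tvW_img, hy, tvN_conj]

/-- The conjugates of the sign change in the subgroup. -/
theorem exists_tv {y : G} (hy : y ∈ T.H) (h : ∃ g : G, g * T.t * g⁻¹ = y) : ∃ w : Fin 63, T.wd (tvW w) = y := by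
  obtain ⟨k, hk, rfl⟩ := T.fusion T.t_mem hy (fun e => T.t_ne_φ 1 (e.trans (map_one T.φ).symm)) T.t_sq h
  obtain ⟨L, rfl⟩ := T.exists_wd hk
  clear h hy hk
  induction L with
  | nil =>
    refine ⟨7, ?_⟩
    rw [T.wd_nil, inv_one, one_mul, mul_one, show T.t = T.wd [2] from (T.wd_single 2).symm]
    exact T.wd_eq' fun x => by rw [tvW_img]; exact tvW_facts.2.1 x
  | cons i L ih =>
    obtain ⟨w, hw⟩ := ih
    refine ⟨⟨sImg i w, tvW_facts.1 i w⟩, ?_⟩
    rw [T.wd_cons, ← T.refl_tv, hw, mul_inv_rev, inv_eq_of_mul_eq_one_right (T.refl_sq i)]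
    group

/-- Only the two transpositions keep their class against the pair. -/
theorem tv_pair {y : G} (hy : y ∈ T.H) (h : ∃ g : G, g * T.t * g⁻¹ = y)
    (h' : ∃ g : G, g * T.t * g⁻¹ = y * T.φ (swap 0 3 * swap 1 4)) :
    y = T.φ (swap 0 3) ∨ y = T.φ (swap 1 4) := by
  obtain ⟨-, -, f19, f37, hcheck, h31⟩ := tvW_facts
  obtain ⟨w, rfl⟩ := T.exists_tv hy h
  set L := tvW w ++ (sW ++ sW') with hL
  have e : T.wd L = T.wd (tvW w) * T.φ (swap 0 3 * swap 1 4) := by
    rw [hL, T.wd_append, T.wd_append, T.wd_sW, T.wd_sW', ← map_mul]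
  obtain ⟨g, hg⟩ := h'
  rw [← e, ← T.rep_t] at hg
  have h1 : T.wd L ≠ 1 := by
    rw [← hg]; exact fun e => T.rep_ne_one 0 (conj_eq_one_iff.1 e)
  have hsq : T.wd L * T.wd L = 1 := by
    rw [← hg, show g * T.rep 0 * g⁻¹ * (g * T.rep 0 * g⁻¹) = g * (T.rep 0 * T.rep 0) * g⁻¹ by group, T.rep_sq]
    group
  have hcl := T.clOf_of_conj ⟨g, hg⟩ (fun x => by
      rw [← T.wd_append, ← T.wd_nil] at hsq
      rw [← wPerm_apply, ← wPerm_apply, T.wPerm_of_wd hsq]) (by
      by_contra hne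
      push Not at hne
      exact h1 (by rw [← T.wd_nil]; exact T.wd_eq' hne))
  have h31' : fixN L = 31 := (congrArg Prod.fst hcl).trans h31
  rcases hcheck w h31' with rfl | rfl
  · refine Or.inl ?_
    rw [← T.wd_sW]
    exact T.wd_eq' fun x => by rw [tvW_img]; exact f19 x
  · refine Or.inr ?_
    rw [← T.wd_sW']
    exact T.wd_eq' fun x => by rw [tvW_img]; exact f37 x

end SData

end Cfsg.Lib.PSpThree
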